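import Groth.Agent.H9ChowK.Frame
import Groth.Agent.KZ.CohClass

/-! The homomorphism from `K₀` of coherent modules of dimension `≤ k + 1` to functions modulo
principal divisors. -/

set_option autoImplicit false
set_option linter.unusedSectionVars false
set_option linter.style.haveILetI false
set_option backward.isDefEq.respectTransparency false
set_option backward.isDefEq.respectTransparency.types false

universe u

open AlgebraicGeometry CategoryTheory TopologicalSpace Opposite IsLocalRing CycDet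

namespace Groth.Agent.H9ChowK

open Groth.Agent

variable {X : Scheme.{u}} [IsLocallyNoetherian X] {δ : X → ℤ} {k : ℤ}

theorem cohLe_X₁ {S : ShortComplex X.Modules} (hS : S.ShortExact) (h₁ : Coh.IsCoh S.X₁)
    (h₂ : Cyc.CohLe δ k S.X₂) : Cyc.CohLe δ k S.X₁ := by
  refine ⟨h₁, fun x hx => h₂.2 x ?_⟩
  have := hS.mono_f
  exact not_subsingleton_iff_nontrivial.1
    (QCoh.mem_support_of_mono h₁.1 h₂.1.1 S.f (not_subsingleton_iff_nontrivial.2 hx))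

theorem cohLe_X₃ {S : ShortComplex X.Modules} (hS : S.ShortExact) (h₃ : Coh.IsCoh S.X₃)
    (h₂ : Cyc.CohLe δ k S.X₂) : Cyc.CohLe δ k S.X₃ := by
  refine ⟨h₃, fun x hx => h₂.2 x ?_⟩
  have := hS.epi_g
  exact not_subsingleton_iff_nontrivial.1
    (QCoh.support_of_epi h₂.1.1 h₃.1 S.g (not_subsingleton_iff_nontrivial.2 hx))

theorem cohLe_mono {j : ℤ} (hjk : j ≤ k) {F : X.Modules} (hF : Cyc.CohLe δ j F) : Cyc.CohLe δ k F :=
  ⟨hF.1, fun x hx => (hF.2 x hx).trans hjk⟩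

/-- The glued frame of a short exact sequence. -/
noncomputable def glueFrame {S : ShortComplex X.Modules} (hS : S.ShortExact) (h₁ : Coh.IsQCoh S.X₁)
    (h₂ : Coh.IsQCoh S.X₂) (h₃ : Coh.IsQCoh S.X₃) (f₁ : Frame δ k S.X₁) (f₃ : Frame δ k S.X₃) :
    Frame δ k S.X₂ where
  n ξ := f₁.n ξ + f₃.n ξ
  E ξ := CycLib.glue (CycLib.stalkLin S.f ξ) (CycLib.stalk_shortExact hS h₁ h₂ h₃ ξ).2.2 (f₁.E ξ) (f₃.E ξ)
  len ξ hξ := by
    rw [CycLib.length_stalk_shortExact hS h₁ h₂ h₃ ξ, f₁.len ξ hξ, f₃.len ξ hξ, Nat.cast_add]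
  adm ξ hξ := CycLib.glue_adm (LinearMap.exact_iff.1 (CycLib.stalk_shortExact hS h₁ h₂ h₃ ξ).2.1).symm
    ((CycLib.strict_iff_span (f₁.adm ξ hξ) (f₁.len ξ hξ)).1 (f₁.strict ξ hξ)) (f₁.adm ξ hξ) (f₃.adm ξ hξ)
  strict ξ hξ := by
    have hex := (LinearMap.exact_iff.1 (CycLib.stalk_shortExact hS h₁ h₂ h₃ ξ).2.1).symm
    have hK := (CycLib.strict_iff_span (f₁.adm ξ hξ) (f₁.len ξ hξ)).1 (f₁.strict ξ hξ)
    refine (CycLib.strict_iff_span (CycLib.glue_adm hex hK (f₁.adm ξ hξ) (f₃.adm ξ hξ)) ?_).2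
      (CycLib.glue_span hex hK ((CycLib.strict_iff_span (f₃.adm ξ hξ) (f₃.len ξ hξ)).1 (f₃.strict ξ hξ)))
    rw [CycLib.length_stalk_shortExact hS h₁ h₂ h₃ ξ, f₁.len ξ hξ, f₃.len ξ hξ, Nat.cast_add]

theorem isValFun_glue (hd : Cyc.IsDimFun X δ) {S : ShortComplex X.Modules} (hS : S.ShortExact)
    (h₁ : Cyc.CohLe δ (k + 1) S.X₁) (h₂ : Cyc.CohLe δ (k + 1) S.X₂) (h₃ : Cyc.CohLe δ (k + 1) S.X₃)
    {f₁ : Frame δ k S.X₁} {f₃ : Frame δ k S.X₃} {D₁ D₃ : X → ℤ} (hD₁ : IsValFun S.X₁ f₁ D₁)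
    (hD₃ : IsValFun S.X₃ f₃ D₃) :
    IsValFun S.X₂ (glueFrame hS h₁.1.1 h₂.1.1 h₃.1.1 f₁ f₃) (D₁ + D₃) := by
  intro x
  refine ⟨fun hx => by rw [Pi.add_apply, (hD₁ x).1 hx, (hD₃ x).1 hx, add_zero], fun hx inst => ?_⟩
  have hsub₁ : CohB1.support S.X₁ ⊆ CohB1.support S.X₂ :=
    haveI := hS.mono_f
    QCoh.mem_support_of_mono h₁.1.1 h₂.1.1 S.f
  have hsub₃ : CohB1.support S.X₃ ⊆ CohB1.support S.X₂ :=
    haveI := hS.epi_g
    QCoh.support_of_epi h₂.1.1 h₃.1.1 S.g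
  obtain ⟨n₁, hn₁⟩ := exists_isValAt (x := x) (T := CohB1.support S.X₂) f₁ hd h₁
  obtain ⟨n₃, hn₃⟩ := exists_isValAt (x := x) (T := CohB1.support S.X₂) f₃ hd h₃
  rw [Pi.add_apply, hD₁.eq_of_isValAt hd h₁ hx hsub₁ hn₁, hD₃.eq_of_isValAt hd h₃ hx hsub₃ hn₃]
  haveI : ∀ i : Idx δ k (CohB1.support S.X₂) x, IsLocalizedModule (qIdx i).asIdeal.primeCompl (gIdx S.X₁ i) :=
    isLocalizedModule_gIdx h₁.1.1
  haveI : ∀ i : Idx δ k (CohB1.support S.X₂) x, IsLocalizedModule (qIdx i).asIdeal.primeCompl (gIdx S.X₂ i) :=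
    isLocalizedModule_gIdx h₂.1.1
  haveI : ∀ i : Idx δ k (CohB1.support S.X₂) x, IsLocalizedModule (qIdx i).asIdeal.primeCompl (gIdx S.X₃ i) :=
    isLocalizedModule_gIdx h₃.1.1
  haveI := QCoh.finite_stalk_of_isFT h₁.1.1 h₁.1.2 x
  haveI := QCoh.finite_stalk_of_isFT h₂.1.1 h₂.1.2 x
  haveI := QCoh.finite_stalk_of_isFT h₃.1.1 h₃.1.2 x
  have hst := fun ξ => CycLib.stalk_shortExact hS h₁.1.1 h₂.1.1 h₃.1.1 ξ
  exact isVal_add (f := CycLib.stalkLin S.f x) (π := CycLib.stalkLin S.g x) (g' := gIdx S.X₁) (g'' := gIdx S.X₃)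
    (fV := fun i => CycLib.stalkLin S.f i.1) (πV := fun i => CycLib.stalkLin S.g i.1)
    (hst x).1 (hst x).2.2 (LinearMap.exact_iff.1 (hst x).2.1).symm (fun i => (hst i.1).1)
    (fun i => (LinearMap.exact_iff.1 (hst i.1).2.1).symm)
    (fun i m => specLin_natural S.f i.2.1 m) (fun i m => specLin_natural S.g i.2.1 m)
    (fun i => (hst i.1).2.2) (sep_idx hd) (hl_idx f₁) (hl_idx f₃)
    (hl_idx (glueFrame hS h₁.1.1 h₂.1.1 h₃.1.1 f₁ f₃)) (supp_idx hd h₂ le_rfl hx) (ordData_idx hd hx)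
    (hE_idx f₁) (hE_idx f₃) hn₁ hn₃

theorem isValFun_of_cohLe (hd : Cyc.IsDimFun X δ) {F : X.Modules} (hF : Cyc.CohLe δ k F) (fr : Frame δ k F) :
    IsValFun F fr (Cyc.sheafFun δ k F) := by
  intro x
  refine ⟨fun hx => if_neg hx, fun hx inst => ?_⟩
  rw [Cyc.sheafFun, if_pos hx]
  haveI : ∀ i : Idx δ k (CohB1.support F) x, IsLocalizedModule (qIdx i).asIdeal.primeCompl (gIdx F i) :=
    isLocalizedModule_gIdx hF.1.1
  haveI := QCoh.finite_stalk_of_isFT hF.1.1 hF.1.2 x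
  refine isVal_of_length_zero (ordData_idx hd hx) fun i => ?_
  have hns : Subsingleton (F.presheaf.stalk i.1) := by
    by_contra hc
    have h1 := hF.2 i.1 (not_subsingleton_iff_nontrivial.1 hc)
    have h2 := i.2.2.1
    omega
  have h0 := fr.len i.1 i.2.2.1
  rw [Module.length_eq_zero_iff.2 hns] at h0
  exact_mod_cast h0.symm

/-- The class of the value function of a module. -/
noncomputable def clsFun (hd : Cyc.IsDimFun X δ) (k : ℤ) (F : X.Modules) : (X → ℤ) ⧸ ratSub hd k := by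
  classical
  exact if h : Cyc.CohLe δ (k + 1) F then
    QuotientAddGroup.mk (exists_isValFun hd h (nonempty_frame hd h).some).choose
  else 0

theorem clsFun_eq (hd : Cyc.IsDimFun X δ) {F : X.Modules} (hF : Cyc.CohLe δ (k + 1) F) {fr : Frame δ k F}
    {D : X → ℤ} (hD : IsValFun F fr D) : clsFun hd k F = QuotientAddGroup.mk D := by
  rw [clsFun, dif_pos hF, QuotientAddGroup.eq_iff_sub_mem]
  exact isValFun_sub_mem hd hF (exists_isValFun hd hF (nonempty_frame hd hF).some).choose_spec hD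

theorem clsFun_additive (hd : Cyc.IsDimFun X δ) {S : ShortComplex X.Modules} (hS : S.ShortExact)
    (h₁ : Cyc.CohLe δ (k + 1) S.X₁) (h₂ : Cyc.CohLe δ (k + 1) S.X₂) (h₃ : Cyc.CohLe δ (k + 1) S.X₃) :
    clsFun hd k S.X₂ = clsFun hd k S.X₁ + clsFun hd k S.X₃ := by
  obtain ⟨f₁⟩ := nonempty_frame hd h₁
  obtain ⟨f₃⟩ := nonempty_frame hd h₃
  obtain ⟨D₁, hD₁⟩ := exists_isValFun hd h₁ f₁
  obtain ⟨D₃, hD₃⟩ := exists_isValFun hd h₃ f₃
  rw [clsFun_eq hd h₁ hD₁, clsFun_eq hd h₃ hD₃, clsFun_eq hd h₂ (isValFun_glue hd hS h₁ h₂ h₃ hD₁ hD₃)]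
  rfl

theorem clsFun_of_cohLe (hd : Cyc.IsDimFun X δ) {F : X.Modules} (hF : Cyc.CohLe δ k F) :
    clsFun hd k F = QuotientAddGroup.mk (Cyc.sheafFun δ k F) := by
  have hF' : Cyc.CohLe δ (k + 1) F := cohLe_mono (by omega) hF
  exact clsFun_eq hd hF' (isValFun_of_cohLe hd hF (nonempty_frame hd hF').some)

/-- The homomorphism out of `K₀(Coh≤k+1 / Coh≤k-1)`. -/
theorem exists_hom (hd : Cyc.IsDimFun X δ) (k : ℤ) :
    ∃ Φ : Cyc.K0CohQuot δ (k + 1) (k - 1) →+ (X → ℤ) ⧸ ratSub hd k,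
      ∀ F, Cyc.CohLe δ (k + 1) F → Φ (Cyc.toK0CohQuot δ (k + 1) (k - 1) F) = clsFun hd k F := by
  obtain ⟨f, hf⟩ := KZ.exists_liftSub (Cyc.CohLe δ (k + 1)) (clsFun hd k)
    fun S hS h₁ h₂ h₃ => clsFun_additive hd hS h₁ h₂ h₃
  refine ⟨QuotientAddGroup.lift _ f ?_, fun F hF => hf F hF⟩
  rw [AddSubgroup.closure_le]
  rintro c ⟨F, hF, rfl⟩
  rw [SetLike.mem_coe, AddMonoidHom.mem_ker, hf F (cohLe_mono (by omega) hF),
    clsFun_of_cohLe hd (cohLe_mono (by omega) hF)]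
  have h0 : Cyc.sheafFun δ k F = 0 := by
    funext x
    rw [Cyc.sheafFun]
    split_ifs with hx
    · have hns : Subsingleton (F.presheaf.stalk x) := by
        by_contra hc
        have := hF.2 x (not_subsingleton_iff_nontrivial.1 hc)
        omega
      rw [Module.length_eq_zero_iff.2 hns]
      simp
    · rfl
  rw [h0]
  rfl

/-- Modules of dimension `≤ k` with equal classes have rationally equivalent cycles. -/
theorem sheafFun_sub_mem (hd : Cyc.IsDimFun X δ) {F G : X.Modules} (hF : Cyc.CohLe δ k F) (hG : Cyc.CohLe δ k G)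
    (h : Cyc.toK0CohQuot δ (k + 1) (k - 1) F = Cyc.toK0CohQuot δ (k + 1) (k - 1) G) :
    Cyc.sheafFun δ k F - Cyc.sheafFun δ k G ∈ ratSub hd k := by
  obtain ⟨Φ, hΦ⟩ := exists_hom hd k
  have := congrArg Φ h
  rw [hΦ F (cohLe_mono (by omega) hF), hΦ G (cohLe_mono (by omega) hG), clsFun_of_cohLe hd hF,
    clsFun_of_cohLe hd hG, QuotientAddGroup.eq_iff_sub_mem] at this
  exact this

end Groth.Agent.H9ChowK
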