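import Groth.Prelude.Def_ChowK
import Groth.Agent.H9ChowK.Hom
import Groth.Agent.KZ.CohClass

/-! Classes of coherent modules of bounded dimension. -/

set_option autoImplicit false
set_option linter.unusedSectionVars false
set_option backward.isDefEq.respectTransparency false
set_option backward.isDefEq.respectTransparency.types false

universe u

open CategoryTheory CategoryTheory.Limits AlgebraicGeometry ZeroObject

namespace Groth.Agent.H9ChowK

open Groth.Agent

variable {X : Scheme.{u}} [IsLocallyNoetherian X] {δ : X → ℤ} {n : ℤ}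

theorem cohLe_of_mono {M N : X.Modules} (f : M ⟶ N) [Mono f] (hM : Coh.IsQCoh M) (hN : Cyc.CohLe δ n N) :
    Cyc.CohLe δ n M :=
  ⟨QCoh.isCoh_of_mono f hN.1 hM, fun x hx => hN.2 x (not_subsingleton_iff_nontrivial.1
    (QCoh.mem_support_of_mono hM hN.1.1 f (not_subsingleton_iff_nontrivial.2 hx)))⟩

theorem cohLe_of_epi {M N : X.Modules} (f : M ⟶ N) [Epi f] (hN : Coh.IsQCoh N) (hM : Cyc.CohLe δ n M) :
    Cyc.CohLe δ n N :=
  ⟨QCoh.isCoh_of_epi f hM.1 hN, fun x hx => hM.2 x (not_subsingleton_iff_nontrivial.1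
    (QCoh.support_of_epi hM.1.1 hN f (not_subsingleton_iff_nontrivial.2 hx)))⟩

theorem cohLe_of_iso {M N : X.Modules} (e : M ≅ N) (hM : Cyc.CohLe δ n M) : Cyc.CohLe δ n N :=
  cohLe_of_epi e.hom ((SheafOfModules.isQuasicoherent X.ringCatSheaf).prop_of_iso e hM.1.1) hM

theorem cohLe_ext {S : ShortComplex X.Modules} (hS : S.ShortExact) (h₁ : Cyc.CohLe δ n S.X₁)
    (h₃ : Cyc.CohLe δ n S.X₃) : Cyc.CohLe δ n S.X₂ := by
  have hc := KZ.isCoh_X₂ hS h₁.1 h₃.1
  refine ⟨hc, fun x hx => ?_⟩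
  by_contra hn
  have h0 : ∀ {M : X.Modules}, Cyc.CohLe δ n M → Module.length (X.presheaf.stalk x) (M.presheaf.stalk x) = 0 :=
    fun hM => Module.length_eq_zero_iff.2 (not_not.1 fun h => hn (hM.2 x (not_subsingleton_iff_nontrivial.1 h)))
  have := CycLib.length_stalk_shortExact hS h₁.1.1 hc.1 h₃.1.1 x
  rw [h0 h₁, h0 h₃, add_zero, Module.length_eq_zero_iff] at this
  exact not_subsingleton_iff_nontrivial.2 hx this

theorem cohLe_zero : Cyc.CohLe δ n (0 : X.Modules) := by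
  refine ⟨KZ.isCoh_zero, fun x hx => absurd ?_ (not_subsingleton_iff_nontrivial.2 hx)⟩
  have h : x ∉ CohB1.support (0 : X.Modules) := by
    rw [QCoh.support_eq_empty_of_isZero (isZero_zero _) (KZ.isCoh_zero (X := X)).1]
    exact Set.notMem_empty x
  exact not_not.1 h

/-- The class in `K₀`. -/
noncomputable abbrev cls (δ : X → ℤ) (n : ℤ) (M : X.Modules) : KZero.K0sub (Cyc.CohLe δ n) :=
  KZero.clSub (Cyc.CohLe δ n) M

theorem cls_iso {M N : X.Modules} (e : M ≅ N) (hM : Cyc.CohLe δ n M) : cls δ n M = cls δ n N :=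
  KZ.clSub_iso _ e hM (cohLe_of_iso e hM) (isZero_zero _) cohLe_zero

/-- Four-term relation. -/
theorem cls_four {A B : X.Modules} (f : A ⟶ B) (hA : Cyc.CohLe δ n A) (hB : Cyc.CohLe δ n B) :
    cls δ n B + cls δ n (kernel f) = cls δ n A + cls δ n (cokernel f) := by
  have hK := cohLe_of_mono (kernel.ι f) (QCoh.isQCoh_kernel hA.1.1 hB.1.1 f) hA
  have hQ := cohLe_of_epi (cokernel.π f) (QCoh.isCoh_cokernel hA.1.1 hB.1 f).1 hB
  have hI : Cyc.CohLe δ n (Abelian.image f) :=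
    cohLe_of_mono (kernel.ι _) (QCoh.isQCoh_kernel hB.1.1 hQ.1.1 _) hB
  have hI' := cohLe_of_iso (Abelian.coimageIsoImage f).symm hI
  have h1 := KZ.clSub_ses (Cyc.CohLe δ n) (S := ShortComplex.mk (kernel.ι f) (cokernel.π (kernel.ι f))
    (cokernel.condition _)) (.mk' (ShortComplex.exact_of_g_is_cokernel _ (cokernelIsCokernel _)) inferInstance
      inferInstance) hK hA hI'
  have h2 := KZ.clSub_ses (Cyc.CohLe δ n) (S := ShortComplex.mk (kernel.ι (cokernel.π f)) (cokernel.π f)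
    (kernel.condition _)) (.mk' (ShortComplex.exact_of_f_is_kernel _ (kernelIsKernel _)) inferInstance
      inferInstance) hI hB hQ
  dsimp only at h1 h2
  rw [cls, cls, cls, cls, h1, h2, show KZero.clSub (Cyc.CohLe δ n) (cokernel (kernel.ι f)) =
    KZero.clSub (Cyc.CohLe δ n) (Abelian.image f) from cls_iso (Abelian.coimageIsoImage f) hI']
  abel

/-- The class of the homology of a short complex. -/
theorem cls_homology {S : ShortComplex X.Modules} (h₁ : Cyc.CohLe δ n S.X₁) (h₂ : Cyc.CohLe δ n S.X₂)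
    (h₃ : Coh.IsCoh S.X₃) : Cyc.CohLe δ n S.homology ∧
      cls δ n (kernel S.g) + cls δ n (kernel S.f) = cls δ n S.X₁ + cls δ n S.homology := by
  have hZ : Cyc.CohLe δ n S.cycles :=
    cohLe_of_iso ((kernelIsKernel S.g).conePointUniqueUpToIso S.cyclesIsKernel)
      (cohLe_of_mono (kernel.ι S.g) (QCoh.isQCoh_kernel h₂.1.1 h₃.1 _) h₂)
  have hQ := cohLe_of_epi (cokernel.π S.toCycles) (QCoh.isCoh_cokernel h₁.1.1 hZ.1 S.toCycles).1 hZ
  let e : cokernel S.toCycles ≅ S.homology := (cokernelIsCokernel S.toCycles).coconePointUniqueUpToIso S.homologyIsCokernel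
  let eK : kernel S.f ≅ kernel S.toCycles :=
    kernelIsoOfEq S.toCycles_i.symm ≪≫ kernelCompMono S.toCycles S.iCycles
  refine ⟨cohLe_of_iso e hQ, ?_⟩
  have h := cls_four S.toCycles h₁ hZ
  rw [cls_iso e hQ, ← cls_iso eK (cohLe_of_mono (kernel.ι _) (QCoh.isQCoh_kernel h₁.1.1 h₂.1.1 _) h₁)] at h
  rw [cls_iso (show kernel S.g ≅ S.cycles from (kernelIsKernel S.g).conePointUniqueUpToIso S.cyclesIsKernel)
    (cohLe_of_mono (kernel.ι S.g) (QCoh.isQCoh_kernel h₂.1.1 h₃.1 _) h₂)]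
  exact h

theorem toK0_eq_of_cls {a b : ℤ} {M N : X.Modules} (h : cls δ a M = cls δ a N) :
    Cyc.toK0CohQuot δ a b M = Cyc.toK0CohQuot δ a b N :=
  congrArg (QuotientAddGroup.mk) h

end Groth.Agent.H9ChowK
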