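import Groth.Agent.H9ChowK.Val

/-! Transport of the length invariant along linear equivalences, and scaling of frames. -/

set_option linter.unusedSectionVars false
set_option autoImplicit false

namespace Groth.Agent.H9ChowK

open CycDet IsLocalRing IntThLib Groth.Agent.CycLib

universe u

section cls

variable {T : Type u} [CommRing T] [IsLocalRing T] {W W' : Type u} [AddCommGroup W] [Module T W]
  [AddCommGroup W'] [Module T W'] {n : ℕ}

theorem spanBefore_map (f : W →ₗ[T] W') (e : Fin n → W) (k : ℕ) :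
    spanBefore T W' (f ∘ e) k = (spanBefore T W e k).map f := by
  rw [spanBefore, spanBefore, Submodule.map_span, Set.image_comp]

theorem adm_equiv (f : W ≃ₗ[T] W') {e : Fin n → W} (he : IsAdmissible T W e) :
    IsAdmissible T W' (f ∘ e) := fun i r hr => by
  rw [show spanBefore T W' (f ∘ e) i = _ from spanBefore_map f.toLinearMap e i]
  exact ⟨r • e i, he i r hr, f.map_smul r (e i)⟩

theorem strict_equiv (f : W ≃ₗ[T] W') {e : Fin n → W} (he : Strict T e) : Strict T (f ∘ e) := fun i hi => by
  rw [show spanBefore T W' (f ∘ e) i = _ from spanBefore_map f.toLinearMap e i] at hi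
  obtain ⟨w, hw, hwi⟩ := hi
  exact he i (f.injective hwi ▸ hw)

/-- Symbols along a linear equivalence. -/
theorem exists_clsMap (f : W ≃ₗ[T] W') :
    ∃ Φ : DetOfLen T W n →ₗ[ResidueField T] DetOfLen T W' n, ∀ e : Fin n → W,
      IsAdmissible T W e → Φ (clsT T e) = clsT T (f ∘ e) := by
  obtain ⟨Φ, hΦ⟩ := Groth.Agent.CycLib.exists_lift (R := T) (M := W) (l := n) (fun e => clsT T (f ∘ e.1))
    (fun e a ha => clsT_eq_zero a (by
      rw [show spanBefore T W' (f ∘ e.1) a = _ from spanBefore_map f.toLinearMap e.1 a]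
      exact ⟨_, ha, rfl⟩))
    (fun e e' a c hj hd => clsT_smul a c (fun j hne => congrArg f (hj j hne)) (by
      rw [show spanBefore T W' (f ∘ e.1) a = _ from spanBefore_map f.toLinearMap e.1 a]
      exact ⟨_, hd, by simp⟩))
    (fun e e' a b hab hm he' => by
      show clsT T (f ∘ e.1) + clsT T (f ∘ e'.1) = 0
      rw [he', clsT_swap (adm_equiv f e.2) hab (fun r hr => by
        rw [show spanBefore T W' (f ∘ e.1) b = _ from spanBefore_map f.toLinearMap e.1 b]
        exact ⟨_, hm r hr, f.map_smul r (e.1 a)⟩)]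
      exact neg_add_cancel _)
  exact ⟨Φ, fun e he => (congrArg Φ (clsT_adm (⟨e, he⟩ : Adm T W n))).trans (hΦ ⟨e, he⟩)⟩

/-- Scaling all entries by a unit. -/
theorem clsT_smul_all (φ : Tˣ) (e : Fin n → W) :
    clsT T (fun j => (φ : T) • e j) = residue T (φ : T) ^ n • clsT T e := by
  classical
  let H : ℕ → Fin n → W := fun k j => if (j : ℕ) < k then (φ : T) • e j else e j
  have key : ∀ k ≤ n, clsT T (H k) = residue T (φ : T) ^ k • clsT T e := fun k => by
    induction k with
    | zero => intro _; simp [H]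
    | succ k ih =>
      intro hk
      rw [pow_succ', mul_smul, ← ih (by omega)]
      refine clsT_smul ⟨k, hk⟩ φ (fun j hj => ?_) ?_
      · have hne : (j : ℕ) ≠ k := fun h => hj (Fin.ext h)
        simp only [H]
        by_cases h : (j : ℕ) < k
        · rw [if_pos h, if_pos (by omega)]
        · rw [if_neg h, if_neg (by omega)]
      · simp only [H, lt_irrefl, ↓reduceIte, Nat.lt_succ_self, sub_self]
        exact zero_mem _
  rw [← key n le_rfl]
  exact congrArg _ (funext fun j => (if_pos j.2).symm)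

theorem adm_smul_unit (φ : Tˣ) {e : Fin n → W} (he : IsAdmissible T W e) (hs : Strict T e) :
    IsAdmissible T W (fun j => (φ : T) • e j) ∧ Strict T (fun j => (φ : T) • e j) := by
  let f : W ≃ₗ[T] W := DistribMulAction.toLinearEquiv T W φ
  exact ⟨adm_equiv f he, strict_equiv f hs⟩

end cls

variable {R : Type u} [CommRing R] [IsNoetherianRing R] [IsLocalRing R] {ι : Type u} [Fintype ι]
  {q : ι → PrimeSpectrum R} {S : ι → Type u} [∀ i, CommRing (S i)] [∀ i, IsLocalRing (S i)]
  [∀ i, Algebra R (S i)] [hS : ∀ i, IsLocalization.AtPrime (S i) (q i).asIdeal]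
  {o : ∀ i, ResidueField (S i) → ℤ}
  {M M' : Type u} [AddCommGroup M] [Module R M] [AddCommGroup M'] [Module R M']
  {V V' : ι → Type u} [∀ i, AddCommGroup (V i)] [∀ i, Module R (V i)] [∀ i, Module (S i) (V i)]
  [∀ i, IsScalarTower R (S i) (V i)] [∀ i, AddCommGroup (V' i)] [∀ i, Module R (V' i)] [∀ i, Module (S i) (V' i)]
  [∀ i, IsScalarTower R (S i) (V' i)]
  {g : ∀ i, M →ₗ[R] V i} {g' : ∀ i, M' →ₗ[R] V' i} {l : ι → ℕ} {E : ∀ i, Fin (l i) → V i}

/-- The invariant is transported by compatible equivalences. -/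
theorem IsVal.map (e : M ≃ₗ[R] M') (f : ∀ i, V i ≃ₗ[S i] V' i) (hc : ∀ i m, g' i (e m) = f i (g i m))
    (hE : ∀ i, IsAdmissible (S i) (V i) (E i)) {n : ℤ} (h : IsVal q o g E n) :
    IsVal q o g' (fun i => f i ∘ E i) n := by
  obtain ⟨u, c, hu, hcE, rfl⟩ := h
  have hloc : ∀ i, Ratio.loc (g' i) (e ∘ u i) = f i ∘ Ratio.loc (g i) (u i) := fun i => funext fun j => hc i (u i j)
  refine ⟨fun i => e ∘ u i, c, ⟨fun i => by rw [hloc]; exact adm_equiv (f i) (hu.adm i),
    fun i => by rw [hloc]; exact strict_equiv (f i) (hu.strict i), fun i j r hr => ?_,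
    fun i i' hne j => by rw [Function.comp_apply, hc, hu.dead i i' hne j, map_zero]⟩, fun i => ?_, ?_⟩
  · rw [show spanBefore R M' (e ∘ u i) j = _ from spanBefore_map e.toLinearMap (u i) j]
    exact ⟨_, hu.chain i j r hr, e.map_smul r (u i j)⟩
  · obtain ⟨Φ, hΦ⟩ := exists_clsMap (n := l i) (f i)
    rw [hloc, ← hΦ _ (hu.adm i), hcE i, map_smul, hΦ _ (hE i)]
  · have hspan : (spanAll R u).map e.toLinearMap = spanAll R (fun i => e ∘ u i) := by
      rw [spanAll, Submodule.map_iSup]
      refine iSup_congr fun i => ?_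
      rw [Submodule.map_span, Set.range_comp]
      rfl
    rw [(Submodule.Quotient.equiv _ _ e hspan).length_eq]

end Groth.Agent.H9ChowK
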