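import Groth.Agent.H9ChowK.Hom
import Groth.Agent.H9ChowK.Transport
import Groth.Agent.H23.RatSecTensor
import Groth.Agent.H23.PullPush
import Groth.Agent.ParShLib.ResStalk
import Groth.Agent.H9ChowK.Classes
import Groth.Agent.QCoh.LocFree

/-! The invariant of a twist by an invertible module. -/

set_option autoImplicit false
set_option linter.unusedSectionVars false
set_option linter.style.haveILetI false
set_option backward.isDefEq.respectTransparency false
set_option backward.isDefEq.respectTransparency.types false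

universe u

open CategoryTheory AlgebraicGeometry TopologicalSpace Opposite IsLocalRing CycDet
open scoped TensorProduct

namespace Groth.Agent.H9ChowK

open Groth.Agent H23.RatSec H23.RatSecTensor

variable {X : Scheme.{u}} {F L : X.Modules}

/-- Tensoring a stalk with a generator of an invertible stalk. -/
theorem exists_tau (x : X) {t : L.presheaf.stalk x} (ht : IsGen t) :
    ∃ e : F.presheaf.stalk x ≃ₗ[X.presheaf.stalk x] (CohB1.tensorMod F L).presheaf.stalk x,
      ∀ a, e a = tm x a t := by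
  let R := X.presheaf.stalk x
  let MF : ModuleCat R := (DerSch.stalkFunctor X x).obj F
  let ML : ModuleCat R := (DerSch.stalkFunctor X x).obj L
  let eL : R ≃ₗ[R] ML := LinearEquiv.ofBijective (LinearMap.toSpanSingleton R ML t)
    ⟨(injective_iff_map_eq_zero _).2 fun r hr => ht.2 r hr,
      fun m => Submodule.mem_span_singleton.1 (ht.1.ge (Submodule.mem_top : m ∈ ⊤))⟩
  let i := (KFlatLib.stalkTensorIso x F L).toLinearEquiv
  let e : MF ≃ₗ[R] MF ⊗[R] ML :=
    (TensorProduct.rid R MF).symm.trans (TensorProduct.congr (LinearEquiv.refl R MF) eL)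
  have he : ∀ a : MF, e a = a ⊗ₜ[R] (t : ML) := fun a => by
    simp [e, eL]
  refine ⟨e.trans i, fun a => ?_⟩
  show i (e a) = _
  rw [he]
  rfl

theorem stalk_tau_support (hL : PicF.IsInvertible L) :
    CohB1.support (CohB1.tensorMod F L) = CohB1.support F := by
  ext x
  obtain ⟨t, ht, -⟩ := exists_gen hL x
  obtain ⟨e, -⟩ := exists_tau (F := F) x ht
  exact not_congr ⟨fun h => haveI := h; e.toEquiv.subsingleton, fun h => haveI := h; e.symm.toEquiv.subsingleton⟩

variable [IsLocallyNoetherian X] {δ : X → ℤ} {k : ℤ}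

theorem cohLe_tensor {n : ℤ} (hL : PicF.IsInvertible L) (hF : Cyc.CohLe δ n F) :
    Cyc.CohLe δ n (CohB1.tensorMod F L) :=
  ⟨ParShLib.isCoh_tensorMod hF.1
    (QCoh.isCoh_iff_isFP.2 (QCoh.isFP_of_isFinLocFree (H23.PullPush.isFinLocFree_of_isInvertible hL))),
  fun x hx => hF.2 x (not_subsingleton_iff_nontrivial.1
    ((stalk_tau_support hL).le (not_subsingleton_iff_nontrivial.2 hx)))⟩

theorem sheafFun_tensor {n : ℤ} (hL : PicF.IsInvertible L) :
    Cyc.sheafFun δ n (CohB1.tensorMod F L) = Cyc.sheafFun δ n F := by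
  funext x
  obtain ⟨t, ht, -⟩ := exists_gen hL x
  obtain ⟨e, -⟩ := exists_tau (F := F) x ht
  rw [Cyc.sheafFun, Cyc.sheafFun, e.length_eq]

omit [IsLocallyNoetherian X] in
theorem exists_gen_lift (hL : PicF.IsInvertible L) {ξ : X} {s : Cyc.secFibre L ξ} (hs : s ≠ 0) :
    ∃ t : L.presheaf.stalk ξ, IsGen t ∧ s = H23.RatSec.cls L ξ t := by
  obtain ⟨g, hg, -⟩ := exists_gen hL ξ
  obtain ⟨φ, rfl⟩ := exists_coord hg s
  have hu : IsUnit φ := by_contra fun h => (residue_ne_zero hg).2 hs (Ideal.Quotient.eq_zero_iff_mem.2 h)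
  exact ⟨φ • g, hg.smul_unit hu, (cls_smul φ g).symm⟩

theorem o_pow {R : Type u} [CommRing R] [IsNoetherianRing R] [IsLocalRing R] {ι : Type u} [Fintype ι]
    {q : ι → PrimeSpectrum R} {S : ι → Type u} [∀ i, CommRing (S i)] [∀ i, IsLocalRing (S i)]
    [∀ i, Algebra R (S i)] [hS : ∀ i, IsLocalization.AtPrime (S i) (q i).asIdeal]
    {o : ∀ i, ResidueField (S i) → ℤ} (hord : OrdData q o) (i : ι) {f : ResidueField (S i)} (hf : f ≠ 0) (m : ℕ) :
    o i (f ^ m)⁻¹ = -(m : ℤ) * o i f := by
  have hp : o i (f ^ m) = (m : ℤ) * o i f := by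
    induction m with
    | zero => simp [hord.one i]
    | succ m ih =>
      rw [pow_succ, hord.mul i _ _ (pow_ne_zero m hf) hf, ih]
      push_cast
      ring
  rw [inv_eq_one_div, hord.div one_ne_zero (pow_ne_zero m hf), hord.one i, hp]
  ring

theorem exists_isValFun_twist (hd : Cyc.IsDimFun X δ) (hL : PicF.IsInvertible L) (hF : Cyc.CohLe δ (k + 1) F)
    (s : (ξ : X) → Cyc.secFibre L ξ) (hs : ∀ ξ, s ξ ≠ 0) :
    clsFun hd k (CohB1.tensorMod F L) =
      clsFun hd k F + QuotientAddGroup.mk (Cyc.c1CapFun δ L (Cyc.sheafFun δ (k + 1) F) s) := by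
  classical
  have hT := cohLe_tensor hL hF
  choose g hg hsg using fun ξ => exists_gen_lift hL (hs ξ)
  choose τ hτ using fun ξ => exists_tau (F := F) ξ (hg ξ)
  obtain ⟨fr⟩ := nonempty_frame hd hF
  obtain ⟨D, hD⟩ := exists_isValFun hd hF fr
  let fr' : Frame δ k (CohB1.tensorMod F L) :=
  { n := fr.n
    E := fun ξ => τ ξ ∘ fr.E ξ
    len := fun ξ hξ => by rw [← (τ ξ).length_eq, fr.len ξ hξ]
    adm := fun ξ hξ => adm_equiv (τ ξ) (fr.adm ξ hξ)
    strict := fun ξ hξ => strict_equiv (τ ξ) (fr.strict ξ hξ) }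
  set γ := Cyc.c1CapFun δ L (Cyc.sheafFun δ (k + 1) F) s with hγ
  have hD' : IsValFun (CohB1.tensorMod F L) fr' (D + γ) := by
    intro x
    refine ⟨fun hx => ?_, fun hx => ?_⟩
    · rw [Pi.add_apply, (hD x).1 hx, zero_add, hγ, Cyc.c1CapFun]
      refine finsum_eq_zero_of_forall_eq_zero fun ξ => ?_
      by_cases h : δ ξ = k + 1
      · rw [Cyc.secDivFun, dif_neg fun h' => hx (by omega), mul_zero]
      · rw [Cyc.sheafFun, if_neg h, zero_mul]
    rw [stalk_tau_support hL]
    intro inst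
    obtain ⟨t, ht, ht'⟩ := exists_gen hL x
    obtain ⟨e, he⟩ := exists_tau (F := F) x ht
    choose f hf using fun i : Idx δ k (CohB1.support F) x => exists_tau (F := F) i.1 (ht' i.1 i.2.1)
    choose u hu hgu using fun i : Idx δ k (CohB1.support F) x => (ht' i.1 i.2.1).of_span (hg i.1).1
    haveI : ∀ i : Idx δ k (CohB1.support F) x, IsLocalizedModule (qIdx i).asIdeal.primeCompl (gIdx F i) :=
      isLocalizedModule_gIdx hF.1.1
    haveI : ∀ i : Idx δ k (CohB1.support F) x,
        IsLocalizedModule (qIdx i).asIdeal.primeCompl (gIdx (CohB1.tensorMod F L) i) :=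
      isLocalizedModule_gIdx hT.1.1
    haveI := QCoh.finite_stalk_of_isFT hT.1.1 hT.1.2 x
    have hnat : ∀ (i : Idx δ k (CohB1.support F) x) (m : F.presheaf.stalk x),
        gIdx (CohB1.tensorMod F L) i (e m) = f i (gIdx F i m) := fun i m => by
      rw [he, hf]
      exact (tm_stalkSpecializes i.2.1 m t).symm
    have h1 := IsVal.map (q := fun i : Idx δ k (CohB1.support F) x => qIdx i) (g' := gIdx (CohB1.tensorMod F L))
      e f hnat (fun i => (hE_idx fr i).1) ((hD x).2 hx)
    have hne : ∀ i : Idx δ k (CohB1.support F) x, residue (X.presheaf.stalk i.1) (u i) ^ fr.n i.1 ≠ 0 :=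
      fun i => pow_ne_zero _ (CycLib.residue_ne_zero (hu i))
    have hcls : ∀ i : Idx δ k (CohB1.support F) x, CycLib.clsT (X.presheaf.stalk i.1) (f i ∘ fr.E i.1) =
        (residue (X.presheaf.stalk i.1) (u i) ^ fr.n i.1)⁻¹ • CycLib.clsT (X.presheaf.stalk i.1) (fr'.E i.1) := by
      intro i
      have e1 : fr'.E i.1 = fun j => ((hu i).unit : X.presheaf.stalk i.1) • (f i ∘ fr.E i.1) j := funext fun j => by
        show τ i.1 (fr.E i.1 j) = u i • f i (fr.E i.1 j)
        rw [hτ, hf, hgu i]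
        refine Eq.trans ?_ ((congrArg (· • _) (one_mul (u i))))
        rw [← tm_smul_smul, one_smul]
      rw [e1, clsT_smul_all, IsUnit.unit_spec, smul_smul, inv_mul_cancel₀ (hne i), one_smul]
    have h2 := IsVal.change (q := fun i : Idx δ k (CohB1.support F) x => qIdx i)
      (hl_idx fr') (ordData_idx hd hx) (fun i => inv_ne_zero (hne i)) hcls h1
    suffices hsum : (D + γ) x = D x - ∑ i : Idx δ k (CohB1.support F) x,
        oIdx i (residue (X.presheaf.stalk i.1) (u i) ^ fr.n i.1)⁻¹ by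
      rw [hsum]; exact h2
    have hterm : ∀ i : Idx δ k (CohB1.support F) x,
        oIdx i (residue (X.presheaf.stalk i.1) (u i) ^ fr.n i.1)⁻¹ =
          -((Cyc.sheafFun δ (k + 1) F i.1) * Cyc.secDivFun δ L i.1 (s i.1) x) := fun i => by
      rw [o_pow (ordData_idx hd hx) i (CycLib.residue_ne_zero (hu i)), Cyc.sheafFun, if_pos i.2.2.1,
        fr.len i.1 i.2.2.1, ENat.toNat_natCast,
        secDivFun_eq hL hd i.2.1 ht.1 (φ := u i) (by rw [hsg i.1, ← cls_smul, ← hgu i])
          (CycLib.residue_ne_zero (hu i)),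
        CycLib.divFun_eq δ _ i.2.1 (by rw [hx, i.2.2.1])]
      rw [neg_mul]
      rfl
    rw [Finset.sum_congr rfl fun i _ => hterm i, Finset.sum_neg_distrib, sub_neg_eq_add, Pi.add_apply, hγ,
      Cyc.c1CapFun]
    congr 1
    let emb : Idx δ k (CohB1.support F) x ↪ X := ⟨fun i => i.1, fun i j h => Subtype.ext h⟩
    rw [finsum_eq_sum_of_support_subset (s := Finset.univ.map emb), Finset.sum_map]
    · rfl
    intro ξ hξ
    have h1 := left_ne_zero_of_mul hξ
    have h2 := right_ne_zero_of_mul hξ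
    simp only [Cyc.sheafFun] at h1
    split_ifs at h1 with hk1
    · have hsp : ξ ⤳ x := by
        by_contra hn
        exact h2 (dif_neg fun h => hn h.1)
      have hsupp : ξ ∈ CohB1.support F := fun hsub => h1 (by
        rw [Module.length_eq_zero_iff.2 hsub]; rfl)
      exact Finset.mem_map.2 ⟨⟨ξ, hsp, hk1, hsupp⟩, Finset.mem_univ _, rfl⟩
    · exact absurd rfl h1
  rw [clsFun_eq hd hT hD', clsFun_eq hd hF hD]
  rfl

end Groth.Agent.H9ChowK
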