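import Groth.Agent.KZ.CohClass
import Groth.Agent.QCoh.DevissageP
import Groth.Agent.QCoh.Tilde
import Groth.Agent.CycLib.StalkSES
import Groth.Agent.SiteBase.ModGroth

/-! Coproducts of locally finite families of coherent modules. -/

set_option autoImplicit false
set_option backward.isDefEq.respectTransparency false
set_option backward.isDefEq.respectTransparency.types false

universe u

open CategoryTheory CategoryTheory.Limits AlgebraicGeometry TopologicalSpace Opposite ZeroObject

namespace Groth.Agent.H9ChowK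

open Groth.Agent

variable {X : Scheme.{u}}

theorem isQCoh_sigma {J : Type u} (f : J → X.Modules) (h : ∀ j, Coh.IsQCoh (f j)) : Coh.IsQCoh (∐ f) :=
  QCoh.isQCoh_colimit _ fun j => h j.as

/-- A coproduct of modules without sections on an affine open has none. -/
theorem subsingleton_sigma {U : X.Opens} (hU : IsAffineOpen U) {J : Type u} (f : J → X.Modules)
    (hq : ∀ j, Coh.IsQCoh (f j)) (h : ∀ j, Subsingleton Γ(f j, U)) : Subsingleton Γ(∐ f, U) := by
  let R := Scheme.Modules.restrictFunctor U.ι
  haveI : IsAffine U.toScheme := hU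
  have hz : ∀ j, IsZero (R.obj (f j)) := fun j => by
    refine QCoh.isZero_of_cover (QCoh.isQCoh_restrict _ (hq j)) (fun _ : Unit => ⊤) (fun _ => isAffineOpen_top _)
      (fun _ => ⟨(), trivial⟩) fun _ => ?_
    show Subsingleton Γ(f j, U.ι ''ᵁ ⊤)
    rw [Scheme.Opens.ι_image_top]
    exact h j
  have hz' : IsZero (R.obj (∐ f)) := by
    refine IsZero.of_iso ?_ (PreservesCoproduct.iso R f)
    exact (IsZero.iff_id_eq_zero _).2 (Sigma.hom_ext _ _ fun k => (hz k).eq_of_src _ _)
  have h1 : ∀ s : Γ(R.obj (∐ f), ⊤), s = 0 := fun s => by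
    have h2 : Scheme.Modules.Hom.app (𝟙 (R.obj (∐ f))) ⊤ s =
        Scheme.Modules.Hom.app (0 : R.obj (∐ f) ⟶ R.obj (∐ f)) ⊤ s := by rw [hz'.eq_of_src (𝟙 _) 0]
    exact h2
  have hs' : Subsingleton Γ(∐ f, U.ι ''ᵁ ⊤) := ⟨fun a b => (h1 a).trans (h1 b).symm⟩
  rwa [Scheme.Opens.ι_image_top] at hs'

open Classical in
/-- Splitting off one summand. -/
noncomputable def splitOff {J : Type u} (f : J → X.Modules) (a : J) : ShortComplex X.Modules :=
  ShortComplex.mk (Sigma.ι f a)
    (Sigma.desc fun j => if h : j = a then 0 else Sigma.ι (fun j : {j // j ≠ a} => f j.1) ⟨j, h⟩)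
    (by simp)

open Classical in
/-- The splitting. -/
noncomputable def splitOffSplitting {J : Type u} (f : J → X.Modules) (a : J) : (splitOff f a).Splitting where
  r := Sigma.desc fun j => if h : j = a then eqToHom (congrArg f h) else 0
  s := Sigma.desc fun j : {j // j ≠ a} => Sigma.ι f j.1
  f_r := by simp [splitOff]
  s_g := Sigma.hom_ext _ _ fun j => by simp [splitOff, j.2]
  id := Sigma.hom_ext _ _ fun j => by
    by_cases h : j = a
    · subst h; simp [splitOff]
    · simp [splitOff, h]

theorem splitOff_shortExact {J : Type u} (f : J → X.Modules) (a : J) : (splitOff f a).ShortExact :=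
  (splitOffSplitting f a).shortExact

open Classical in
/-- Induction on the finitely many summands not vanishing on an affine open. -/
theorem sigma_induction (U : X.Opens) (Φ : ∀ (J : Type u), (J → X.Modules) → Finset J → Prop)
    (h0 : ∀ (J : Type u) (f : J → X.Modules), (∀ j, Coh.IsQCoh (f j)) → (∀ j, Subsingleton Γ(f j, U)) → Φ J f ∅)
    (hstep : ∀ (J : Type u) (f : J → X.Modules) (a : J) (s : Finset J), a ∉ s → (∀ j, Coh.IsQCoh (f j)) →
      Φ {j // j ≠ a} (fun j => f j.1) (s.subtype _) → Φ J f (insert a s)) :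
    ∀ (J : Type u) (f : J → X.Modules) (s : Finset J), (∀ j, Coh.IsQCoh (f j)) →
      (∀ j, j ∉ s → Subsingleton Γ(f j, U)) → Φ J f s := by
  suffices H : ∀ (n : ℕ) (J : Type u) (f : J → X.Modules) (s : Finset J), s.card = n → (∀ j, Coh.IsQCoh (f j)) →
      (∀ j, j ∉ s → Subsingleton Γ(f j, U)) → Φ J f s from fun J f s hq hv => H _ J f s rfl hq hv
  intro n
  induction n with
  | zero =>
    intro J f s hs hq hv
    obtain rfl := Finset.card_eq_zero.1 hs
    exact h0 J f hq fun j => hv j (Finset.notMem_empty j)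
  | succ n ih =>
    intro J f s hs hq hv
    obtain ⟨a, t, hat, rfl, ht⟩ := Finset.card_eq_succ.1 hs
    refine hstep J f a t hat hq (ih _ _ _ ?_ (fun j => hq _) fun j hj => hv j.1 fun h => ?_)
    · rw [Finset.card_subtype]; convert ht using 2
      exact Finset.filter_true_of_mem (fun j hj => by rintro rfl; exact hat hj)
    · rcases Finset.mem_insert.1 h with h | h
      · exact j.2 h
      · exact hj (Finset.mem_subtype.2 h)

/-- Near each point only finitely many members are nonzero on a given affine. -/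
def LocFin {J : Type u} (f : J → X.Modules) : Prop :=
  ∀ U : X.affineOpens, {j | ¬ Subsingleton Γ(f j, U.1)}.Finite

theorem finite_sigma {U : X.Opens} (hU : IsAffineOpen U) {J : Type u} (f : J → X.Modules) (s : Finset J)
    (hq : ∀ j, Coh.IsQCoh (f j)) (hv : ∀ j, j ∉ s → Subsingleton Γ(f j, U))
    (hfin : ∀ j, Module.Finite Γ(X, U) Γ(f j, U)) : Module.Finite Γ(X, U) Γ(∐ f, U) := by
  refine sigma_induction U (fun J f _ => (∀ j, Module.Finite Γ(X, U) Γ(f j, U)) → Module.Finite Γ(X, U) Γ(∐ f, U))
    (fun J f hq hv _ => haveI := subsingleton_sigma hU f hq hv; inferInstance)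
    (fun J f a s _ _ ih hf => ?_) J f s hq hv hfin
  haveI := hf a
  haveI := ih fun j => hf _
  let S := splitOff f a
  let sp := splitOffSplitting f a
  haveI : Module.Finite Γ(X, U) Γ(S.X₁, U) := hf a
  haveI : Module.Finite Γ(X, U) Γ(S.X₃, U) := ih fun j => hf _
  refine Module.Finite.of_surjective (LinearMap.coprod (KZ.appLin S.f U) (KZ.appLin sp.s U)) fun x => ?_
  exact ⟨(KZ.appLin sp.r U x, KZ.appLin S.g U x), congr(Scheme.Modules.Hom.app $(sp.id) U x)⟩

theorem isCoh_sigma {J : Type u} (f : J → X.Modules) (h : ∀ j, Coh.IsCoh (f j)) (hl : LocFin f) :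
    Coh.IsCoh (∐ f) :=
  QCoh.isCoh_iff.2 ⟨isQCoh_sigma f fun j => (h j).1, fun U => finite_sigma U.2 f (hl U).toFinset
    (fun j => (h j).1) (fun j hj => not_not.1 fun hc => hj ((hl U).mem_toFinset.2 hc))
    fun j => QCoh.finite_sections (h j) U.2⟩

open Classical in
theorem length_stalk_sigma {J : Type u} (f : J → X.Modules) (hq : ∀ j, Coh.IsQCoh (f j)) {U : X.Opens}
    (hU : IsAffineOpen U) {x : X} (hx : x ∈ U) (s : Finset J) (hv : ∀ j, j ∉ s → Subsingleton Γ(f j, U)) :
    Module.length (X.presheaf.stalk x) ((∐ f).presheaf.stalk x) =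
      ∑ j ∈ s, Module.length (X.presheaf.stalk x) ((f j).presheaf.stalk x) := by
  refine sigma_induction U (fun J f s => Module.length (X.presheaf.stalk x) ((∐ f).presheaf.stalk x) =
      ∑ j ∈ s, Module.length (X.presheaf.stalk x) ((f j).presheaf.stalk x))
    (fun J f hq hv => ?_) (fun J f a s has hq ih => ?_) J f s hq hv
  · rw [Finset.sum_empty, Module.length_eq_zero_iff]
    haveI := subsingleton_sigma hU f hq hv
    exact (QCoh.subsingleton_stalk_iff (isQCoh_sigma f hq) hU hx).2 fun m =>
      ⟨1, by rw [X.mem_basicOpen _ x hx, map_one]; exact isUnit_one, Subsingleton.elim _ _⟩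
  · have h := CycLib.length_stalk_shortExact (splitOff_shortExact f a) (hq a) (isQCoh_sigma f hq)
      (isQCoh_sigma _ fun j => hq _) x
    rw [Finset.sum_insert has]
    refine h.trans (congrArg _ (ih.trans ?_))
    exact Finset.sum_subtype_of_mem (fun j => Module.length (X.presheaf.stalk x) ((f j).presheaf.stalk x))
      fun j hj (h : j = a) => has (h ▸ hj)

theorem exists_summand_of_mem_support {J : Type u} (f : J → X.Modules) (hq : ∀ j, Coh.IsQCoh (f j)) (hl : LocFin f)
    {x : X} (hx : x ∈ CohB1.support (∐ f)) : ∃ j, x ∈ CohB1.support (f j) := by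
  by_contra hc
  obtain ⟨U, hU, hxU⟩ := QCoh.exists_affine_mem x
  have h := length_stalk_sigma f hq hU hxU (hl ⟨U, hU⟩).toFinset
    fun j hj => not_not.1 fun hc => hj ((hl ⟨U, hU⟩).mem_toFinset.2 hc)
  rw [Finset.sum_eq_zero fun j _ => Module.length_eq_zero_iff.2 (not_not.1 fun hj => hc ⟨j, hj⟩),
    Module.length_eq_zero_iff] at h
  exact hx h

end Groth.Agent.H9ChowK
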