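import Groth.Agent.H9ChowK.Val

/-! Additivity of the length invariant in short exact sequences, and change of the index set. -/

set_option linter.unusedSectionVars false
set_option autoImplicit false

namespace Groth.Agent.H9ChowK

open CycDet IsLocalRing IntThLib Groth.Agent.CycLib

universe u

variable {R : Type u} [CommRing R] [IsNoetherianRing R] [IsLocalRing R] {ι : Type u} [Fintype ι]
  {q : ι → PrimeSpectrum R} {S : ι → Type u} [∀ i, CommRing (S i)] [∀ i, IsLocalRing (S i)]
  [∀ i, Algebra R (S i)] [hS : ∀ i, IsLocalization.AtPrime (S i) (q i).asIdeal]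
  {o : ∀ i, ResidueField (S i) → ℤ}

section reindex

variable {M : Type u} [AddCommGroup M] [Module R M] {V : ι → Type u} [∀ i, AddCommGroup (V i)]
  [∀ i, Module R (V i)] [∀ i, Module (S i) (V i)] [∀ i, IsScalarTower R (S i) (V i)]
  {g : ∀ i, M →ₗ[R] V i} [hg : ∀ i, IsLocalizedModule (q i).asIdeal.primeCompl (g i)] {l : ι → ℕ}

/-- Primes where the module vanishes can be dropped from the index set. -/
theorem IsVal.restrict (hord : OrdData q o) (hl : ∀ i, Module.length (S i) (V i) = l i) {κ : Type u} [Fintype κ]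
    (e : κ → ι) (he : Function.Injective e) (h0 : ∀ i, i ∉ Set.range e → l i = 0)
    {E : ∀ i, Fin (l i) → V i} (hE : ∀ i, IsAdmissible (S i) (V i) (E i) ∧ Strict (S i) (E i)) {n : ℤ}
    (h : IsVal q o g E n) :
    IsVal (fun k => q (e k)) (S := fun k => S (e k)) (fun k => o (e k)) (fun k => g (e k)) (fun k => E (e k)) n := by
  classical
  obtain ⟨u, c, hu, hc, rfl⟩ := h
  refine ⟨fun k => u (e k), fun k => c (e k), ⟨fun k => hu.adm _, fun k => hu.strict _, fun k => hu.chain _,
    fun k k' hk => hu.dead _ _ fun h => hk (he h)⟩, fun k => hc _, ?_⟩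
  have hU : spanAll R (fun k => u (e k)) = spanAll R u := by
    refine le_antisymm (iSup_le fun k => le_iSup (fun i => Submodule.span R (Set.range (u i))) (e k)) (iSup_le fun i => ?_)
    by_cases hi : i ∈ Set.range e
    · obtain ⟨k, rfl⟩ := hi
      exact le_iSup (fun k => Submodule.span R (Set.range (u (e k)))) k
    · haveI : IsEmpty (Fin (l i)) := by rw [h0 i hi]; infer_instance
      rw [Set.range_eq_empty, Submodule.span_empty]
      exact bot_le
  have hsum : ∑ i, o i (c i) = ∑ k, o (e k) (c (e k)) := by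
    rw [← Finset.sum_image (f := fun i => o i (c i)) fun a _ b _ h => he h]
    refine (Finset.sum_subset (Finset.subset_univ _) fun i _ hi => ?_).symm
    have hi' : i ∉ Set.range e := fun ⟨k, hk⟩ => hi (Finset.mem_image.mpr ⟨k, Finset.mem_univ k, hk⟩)
    haveI : IsEmpty (Fin (l i)) := by rw [h0 i hi']; infer_instance
    have h1 := hc i
    rw [Subsingleton.elim (Ratio.loc (g i) (u i)) (E i)] at h1
    have hc1 : c i = 1 := smul_left_injective (ResidueField (S i))
      (clsT_ne_zero (hl i) (hE i).1 (hE i).2) (show c i • _ = (1 : ResidueField (S i)) • _ by rw [← h1, one_smul])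
    rw [hc1, hord.one]
  rw [hU, hsum]

end reindex

variable {M' M M'' : Type u} [AddCommGroup M'] [Module R M'] [AddCommGroup M] [Module R M] [AddCommGroup M'']
  [Module R M''] {f : M' →ₗ[R] M} {π : M →ₗ[R] M''}
  {V' V V'' : ι → Type u} [∀ i, AddCommGroup (V' i)] [∀ i, Module R (V' i)] [∀ i, Module (S i) (V' i)]
  [∀ i, IsScalarTower R (S i) (V' i)] [∀ i, AddCommGroup (V i)] [∀ i, Module R (V i)] [∀ i, Module (S i) (V i)]
  [∀ i, IsScalarTower R (S i) (V i)] [∀ i, AddCommGroup (V'' i)] [∀ i, Module R (V'' i)] [∀ i, Module (S i) (V'' i)]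
  [∀ i, IsScalarTower R (S i) (V'' i)]
  {g' : ∀ i, M' →ₗ[R] V' i} [hg' : ∀ i, IsLocalizedModule (q i).asIdeal.primeCompl (g' i)]
  {g : ∀ i, M →ₗ[R] V i} [hg : ∀ i, IsLocalizedModule (q i).asIdeal.primeCompl (g i)]
  {g'' : ∀ i, M'' →ₗ[R] V'' i} [hg'' : ∀ i, IsLocalizedModule (q i).asIdeal.primeCompl (g'' i)]
  {fV : ∀ i, V' i →ₗ[S i] V i} {πV : ∀ i, V i →ₗ[S i] V'' i} {a b : ι → ℕ}

section seq

variable (hf : Function.Injective f) (hπ : Function.Surjective π) (hex : LinearMap.range f = LinearMap.ker π)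
  (hfV : ∀ i, Function.Injective (fV i)) (hexV : ∀ i, LinearMap.range (fV i) = LinearMap.ker (πV i))
  (hcf : ∀ i m, g i (f m) = fV i (g' i m)) (hcπ : ∀ i m, g'' i (π m) = πV i (g i m))
  {u' : ∀ i, Fin (a i) → M'} {w : ∀ i, Fin (a i + b i) → M}

include hex hcπ in
theorem spanBefore_suffix_le (hwl : ∀ i j, w i (Fin.castAdd (b i) j) = f (u' i j)) (i : ι) (k : ℕ) :
    (spanBefore R M (w i) (a i + k)).map π ≤ spanBefore R M'' (fun j => π (w i (Fin.natAdd (a i) j))) k := by
  rw [spanBefore, Submodule.map_span, Submodule.span_le]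
  rintro _ ⟨_, ⟨t, ht, rfl⟩, rfl⟩
  induction t using Fin.addCases with
  | left t =>
    rw [hwl, show π (f (u' i t)) = 0 from LinearMap.mem_ker.mp (hex ▸ LinearMap.mem_range_self f _)]
    exact zero_mem _
  | right t =>
    exact mem_spanBefore (e := fun j => π (w i (Fin.natAdd (a i) j))) (j := t)
      (by simp only [Set.mem_ofPred_eq, Fin.val_natAdd] at ht; omega)

include hS hex hcπ in
theorem mem_map_of_suffix_zero (hwl : ∀ i j, w i (Fin.castAdd (b i) j) = f (u' i j))
    (hw : Adapted q (S := S) g (fun i => a i + b i) w)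
    (hu : Adapted q (S := S) g'' b fun i j => π (w i (Fin.natAdd (a i) j))) (i : ι) {z : M}
    (hz : z ∈ Submodule.span R (Set.range (w i))) (h0 : π z = 0) :
    z ∈ (Submodule.span R (Set.range (u' i))).map f := by
  suffices H : ∀ k, k ≤ b i → ∀ z ∈ spanBefore R M (w i) (a i + k), π z = 0 →
      z ∈ spanBefore R M (w i) (a i) by
    have h1 := H (b i) le_rfl z (by rwa [spanBefore_last (R := R) (w i) le_rfl]) h0
    refine (Submodule.span_le (p := (Submodule.span R (Set.range (u' i))).map f)).mpr ?_ h1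
    rintro _ ⟨t, ht, rfl⟩
    induction t using Fin.addCases with
    | left t => exact ⟨u' i t, Submodule.subset_span ⟨t, rfl⟩, (hwl i t).symm⟩
    | right t => simp only [Set.mem_ofPred_eq, Fin.val_natAdd] at ht; omega
  intro k
  induction k with
  | zero => exact fun _ z hz _ => hz
  | succ k ih =>
    intro hk z hz h0
    let kk : Fin (b i) := ⟨k, hk⟩
    rw [show a i + (k + 1) = ((Fin.natAdd (a i) kk : Fin (a i + b i)) : ℕ) + 1 from rfl, spanBefore_succ] at hz
    obtain ⟨v, hv, t, ht, rfl⟩ := Submodule.mem_sup.mp hz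
    obtain ⟨r, rfl⟩ := Submodule.mem_span_singleton.mp ht
    refine ih (by omega) _ (add_mem hv (hw.chain i (Fin.natAdd (a i) kk) r ?_)) h0
    refine Ratio.mem_of_smul_self (S := S i) (g := g'' i) (q i) (hu.strict i) kk
      (Ratio.spanBefore_le_sat (S := S i) (g := g'' i) _ kk ?_)
    rw [map_add, map_smul] at h0
    rw [show r • π (w i (Fin.natAdd (a i) kk)) = -π v from eq_neg_of_add_eq_zero_right h0]
    exact neg_mem (spanBefore_suffix_le hex hcπ hwl i k (Submodule.mem_map_of_mem hv))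

include hS hf hπ hex hcπ in
theorem length_quot_additive (hwl : ∀ i j, w i (Fin.castAdd (b i) j) = f (u' i j))
    (hw : Adapted q (S := S) g (fun i => a i + b i) w)
    (hu : Adapted q (S := S) g'' b fun i j => π (w i (Fin.natAdd (a i) j))) :
    Module.length R (M ⧸ spanAll R w) = Module.length R (M' ⧸ spanAll R u') +
      Module.length R (M'' ⧸ spanAll R fun i j => π (w i (Fin.natAdd (a i) j))) := by
  have hle : spanAll R u' ≤ (spanAll R w).comap f := iSup_le fun i => Submodule.span_le.mpr (by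
    rintro _ ⟨j, rfl⟩
    exact Submodule.mem_iSup_of_mem i (Submodule.subset_span ⟨_, hwl i j⟩))
  have hmap : ∀ i, (Submodule.span R (Set.range (w i))).map π ≤
      Submodule.span R (Set.range fun j => π (w i (Fin.natAdd (a i) j))) := fun i => by
    rw [← spanBefore_last (R := R) (w i) le_rfl, ← spanBefore_last (R := R) (fun j => π (w i (Fin.natAdd (a i) j))) le_rfl]
    exact spanBefore_suffix_le hex hcπ hwl i (b i)
  have hle2 : spanAll R w ≤ (spanAll R fun i j => π (w i (Fin.natAdd (a i) j))).comap π :=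
    iSup_le fun i => Submodule.map_le_iff_le_comap.mp ((hmap i).trans
      (le_iSup (fun i => Submodule.span R (Set.range fun j => π (w i (Fin.natAdd (a i) j)))) i))
  refine Module.length_eq_add_of_exact (Submodule.mapQ _ _ f hle) (Submodule.mapQ _ _ π hle2) ?_ ?_ ?_
  · refine LinearMap.ker_eq_bot.mp (LinearMap.ker_eq_bot'.mpr fun x hx => ?_)
    obtain ⟨m, rfl⟩ := Submodule.mkQ_surjective _ x
    rw [Submodule.mkQ_apply, Submodule.mapQ_apply, Submodule.Quotient.mk_eq_zero] at hx
    rw [Submodule.mkQ_apply, Submodule.Quotient.mk_eq_zero]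
    obtain ⟨s, hs, hsum⟩ := exists_components hx
    have hsz : ∀ i, π (s i) = 0 := fun i => hu.torsionFree i (hmap i (Submodule.mem_map_of_mem (hs i))) (by
      rw [hcπ, ← hw.map_component hs i, hsum, ← hcπ,
        show π (f m) = 0 from LinearMap.mem_ker.mp (hex ▸ LinearMap.mem_range_self f m), map_zero])
    choose y hy hye using fun i => mem_map_of_suffix_zero hex hcπ hwl hw hu i (hs i) (hsz i)
    rw [show m = ∑ i, y i from hf (by rw [map_sum, ← hsum]; exact Finset.sum_congr rfl fun i _ => (hye i).symm)]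
    exact sum_mem fun i _ => Submodule.mem_iSup_of_mem i (hy i)
  · intro x
    obtain ⟨m'', rfl⟩ := Submodule.mkQ_surjective _ x
    obtain ⟨m, rfl⟩ := hπ m''
    exact ⟨Submodule.Quotient.mk m, rfl⟩
  · intro x
    obtain ⟨m, rfl⟩ := Submodule.mkQ_surjective _ x
    constructor
    · intro hx
      rw [Submodule.mkQ_apply, Submodule.mapQ_apply, Submodule.Quotient.mk_eq_zero] at hx
      have hle3 : (spanAll R fun i j => π (w i (Fin.natAdd (a i) j))) ≤ (spanAll R w).map π :=
        iSup_le fun i => Submodule.span_le.mpr (by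
          rintro _ ⟨j, rfl⟩
          exact Submodule.mem_map_of_mem (Submodule.mem_iSup_of_mem i (Submodule.subset_span ⟨_, rfl⟩)))
      obtain ⟨z, hz, hzm⟩ := hle3 hx
      obtain ⟨m', hm'⟩ : m - z ∈ LinearMap.range f := by rw [hex, LinearMap.mem_ker, map_sub, hzm, sub_self]
      refine ⟨Submodule.Quotient.mk m', (Submodule.Quotient.eq _).mpr ?_⟩
      rw [hm', sub_sub_cancel_left]
      exact neg_mem hz
    · rintro ⟨y, hy⟩
      obtain ⟨m', rfl⟩ := Submodule.mkQ_surjective _ y
      rw [← hy, Submodule.mkQ_apply, Submodule.mapQ_apply, Submodule.mapQ_apply, Submodule.Quotient.mk_eq_zero,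
        show π (f m') = 0 from LinearMap.mem_ker.mp (hex ▸ LinearMap.mem_range_self f m')]
      exact zero_mem _

variable (hπV : ∀ i, Function.Surjective (πV i))
  (hsep : ∀ i i', i ≠ i' → ¬ (q i').asIdeal ≤ (q i).asIdeal)
  (hla : ∀ i, Module.length (S i) (V' i) = a i) (hlb : ∀ i, Module.length (S i) (V'' i) = b i)
  (hlab : ∀ i, Module.length (S i) (V i) = (a i + b i : ℕ))

include hS hg' hg hg'' hπ hex hfV hexV hcf hcπ hsep hla hlb hlab in
/-- Adapted systems compatible with a short exact sequence. -/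
theorem exists_adapted_seq : ∃ (u' : ∀ i, Fin (a i) → M') (w : ∀ i, Fin (a i + b i) → M),
    Adapted q (S := S) g' a u' ∧ Adapted q (S := S) g (fun i => a i + b i) w ∧
      (∀ i j, w i (Fin.castAdd (b i) j) = f (u' i j)) ∧
      Adapted q (S := S) g'' b fun i j => π (w i (Fin.natAdd (a i) j)) := by
  classical
  obtain ⟨u', hu'⟩ := exists_adapted q g' hsep hla
  obtain ⟨x, hx⟩ := exists_adapted q g'' hsep hlb
  choose y hy using fun i (j : Fin (b i)) => hπ (x i j)
  let z : ∀ i, Fin (a i + b i) → M := fun i => Fin.append (f ∘ u' i) (y i)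
  have hzl : ∀ i j, z i (Fin.castAdd (b i) j) = f (u' i j) := fun i j => Fin.append_left ..
  have hzr : ∀ i j, π (z i (Fin.natAdd (a i) j)) = x i j := fun i j => by
    show π (Fin.append _ _ _) = _
    rw [Fin.append_right]; exact hy i j
  have hzA : ∀ i, IsAdmissible (S i) (V i) (Ratio.loc (g i) (z i)) ∧ Strict (S i) (Ratio.loc (g i) (z i)) := fun i => by
    have hπs : Function.Surjective (πV i) := fun v => by
      obtain ⟨⟨m'', s⟩, hm⟩ := IsLocalizedModule.surj (q i).asIdeal.primeCompl (g'' i) v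
      obtain ⟨m, rfl⟩ := hπ m''
      refine ⟨((Ratio.unit_alg (S := S i) (q i) (s := (s : R)) s.2).unit⁻¹ : (S i)ˣ) • g i m, ?_⟩
      rw [Units.smul_def, map_smul, ← hcπ, ← hm, Submonoid.smul_def, ← algebraMap_smul (S i) (s : R), smul_smul,
        IsUnit.val_inv_mul, one_smul]
    have hspan := (strict_iff_span (hu'.adm i) (hla i)).mp (hu'.strict i)
    have hA := glue_adm (hg := hπs) (hexV i) hspan (hu'.adm i) (hx.adm i)
    have hS' := (strict_iff_span hA (hlab i)).mpr (glue_span (hg := hπs) (hexV i) hspan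
      ((strict_iff_span (hx.adm i) (hlb i)).mp (hx.strict i)))
    have hsub : ∀ t : Fin (a i + b i), glue (fV i) hπs (Ratio.loc (g' i) (u' i)) (Ratio.loc (g'' i) (x i)) t -
        ((1 : Fin (a i + b i) → (S i)ˣ) t : S i) • Ratio.loc (g i) (z i) t ∈
        spanBefore (S i) (V i) (glue (fV i) hπs (Ratio.loc (g' i) (u' i)) (Ratio.loc (g'' i) (x i))) t := fun t => by
      rw [Pi.one_apply, Units.val_one, one_smul]
      induction t using Fin.addCases with
      | left t =>
        rw [glue_left, show Ratio.loc (g i) (z i) (Fin.castAdd (b i) t) = g i (z i (Fin.castAdd (b i) t)) from rfl,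
          hzl, hcf]
        simp
      | right t =>
        rw [Fin.val_natAdd]
        refine range_le_glue hspan _ ?_
        rw [hexV i, LinearMap.mem_ker, map_sub, glue_right,
          show Ratio.loc (g i) (z i) (Fin.natAdd (a i) t) = g i (z i (Fin.natAdd (a i) t)) from rfl, ← hcπ, hzr]
        exact sub_self _
    exact ⟨adm_of_sub 1 hsub hA, (strict_iff_of_sub 1 hsub).mp hS'⟩
  choose t ht htk using exists_kill q g hsep hlab
  have hpre : ∀ i, ∀ j : Fin (a i + b i), (j : ℕ) < a i →
      (∀ i', i' ≠ i → g i' (z i j) = 0) ∧ ∀ r ∈ (q i).asIdeal, r • z i j ∈ spanBefore R M (z i) j := fun i j hj => by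
    obtain ⟨j, rfl⟩ : ∃ j', Fin.castAdd (b i) j' = j := ⟨⟨j, hj⟩, rfl⟩
    rw [hzl]
    refine ⟨fun i' hi' => by rw [hcf, hu'.dead i i' hi' j, map_zero], fun r hr => ?_⟩
    rw [← map_smul, Fin.val_castAdd]
    refine (Submodule.span_le (p := (spanBefore R M (z i) j).comap f)).mpr ?_ (hu'.chain i j r hr)
    rintro _ ⟨j', hj', rfl⟩
    rw [SetLike.mem_coe, Submodule.mem_comap, ← hzl i j']
    exact mem_spanBefore (e := z i) (j := Fin.castAdd (b i) j') hj'
  choose w hw1 hw2 hw3 hw4 using fun i => exists_scale (q i) (T := S i) (g i)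
    (fun m => ∀ i', i' ≠ i → g i' m = 0) (fun r m h i' hi' => by rw [map_smul, h i' hi', smul_zero])
    (ht i) (fun m i' hi' => htk i i' hi' m) (hzA i).1 (hzA i).2 (a i) (hpre i)
  have hw : Adapted q (S := S) g (fun i => a i + b i) w :=
    ⟨fun i => (adm_strict_scale (q i) (g i) (hzA i).1 (hzA i).2 (hw2 i)).1,
      fun i => (adm_strict_scale (q i) (g i) (hzA i).1 (hzA i).2 (hw2 i)).2, hw4, fun i i' h j => hw3 i j i' h⟩
  have hwl : ∀ i j, w i (Fin.castAdd (b i) j) = f (u' i j) := fun i j => by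
    rw [hw1 i _ (by simp), hzl]
  have hsc : ∀ i, ∀ j : Fin (b i), ∃ c : R, c ∉ (q i).asIdeal ∧ π (w i (Fin.natAdd (a i) j)) = c • x i j := fun i j => by
    obtain ⟨c, hc, e⟩ := hw2 i (Fin.natAdd (a i) j)
    exact ⟨c, hc, by rw [e, map_smul, hzr]⟩
  refine ⟨u', w, hu', hw, hwl, ⟨fun i => (adm_strict_scale (q i) (g'' i) (hx.adm i) (hx.strict i) (hsc i)).1,
    fun i => (adm_strict_scale (q i) (g'' i) (hx.adm i) (hx.strict i) (hsc i)).2, fun i j r hr => ?_,
    fun i i' h j => by rw [hcπ, hw.dead i i' h, map_zero]⟩⟩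
  rw [← map_smul]
  refine spanBefore_suffix_le hex hcπ hwl i j (Submodule.mem_map_of_mem ?_)
  have := hw.chain i (Fin.natAdd (a i) j) r hr
  rwa [Fin.val_natAdd] at this

variable [Module.Finite R M'] [Module.Finite R M] [Module.Finite R M'']
  (hsupp : ∀ p ∈ Module.support R M, p = closedPoint R ∨ ∃ i, p = q i)

include hS hg' hg hg'' hf hπ hex hfV hexV hcf hcπ hsep hla hlb hlab hsupp in
/-- Additivity of the invariant. -/
theorem isVal_add (hord : OrdData q o) {E' : ∀ i, Fin (a i) → V' i} {E'' : ∀ i, Fin (b i) → V'' i}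
    (hE' : ∀ i, IsAdmissible (S i) (V' i) (E' i) ∧ Strict (S i) (E' i))
    (hE'' : ∀ i, IsAdmissible (S i) (V'' i) (E'' i) ∧ Strict (S i) (E'' i))
    {n' n'' : ℤ} (h' : IsVal q o g' E' n') (h'' : IsVal q o g'' E'' n'') :
    IsVal q o g (fun i => glue (fV i) (hπV i) (E' i) (E'' i)) (n' + n'') := by
  have hsupp' : ∀ p ∈ Module.support R M', p = closedPoint R ∨ ∃ i, p = q i := fun p hp =>
    hsupp p (Module.support_subset_of_injective f hf hp)
  have hsupp'' : ∀ p ∈ Module.support R M'', p = closedPoint R ∨ ∃ i, p = q i := fun p hp =>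
    hsupp p (Module.support_subset_of_surjective π hπ hp)
  obtain ⟨u', w, hu', hw, hwl, hu''⟩ := exists_adapted_seq hπ hex hfV hexV hcf hcπ hsep hla hlb hlab
  choose c' hc'0 hc' using fun i => exists_coef (hla i) (hu'.adm i) (hu'.strict i) (hE' i).1 (hE' i).2
  choose c'' hc''0 hc'' using fun i => exists_coef (hlb i) (hu''.adm i) (hu''.strict i) (hE'' i).1 (hE'' i).2
  rw [IsVal.unique hla hsupp' hord hE' h' ⟨u', c', hu', hc', rfl⟩,
    IsVal.unique hlb hsupp'' hord hE'' h'' ⟨_, c'', hu'', hc'', rfl⟩]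
  refine ⟨w, fun i => c' i * c'' i, hw, fun i => ?_, ?_⟩
  · obtain ⟨B, hB⟩ := exists_bilin (b := b i) (hla i) (hexV i) (hπV i)
    let aK : Adm (S i) (V' i) (a i) := ⟨_, hu'.adm i⟩
    let aM : Adm (S i) (V'' i) (b i) := ⟨_, hu''.adm i⟩
    let aL : Adm (S i) (V i) (a i + b i) := ⟨Ratio.loc (g i) (w i), hw.adm i⟩
    let eK : Adm (S i) (V' i) (a i) := ⟨E' i, (hE' i).1⟩
    let eM : Adm (S i) (V'' i) (b i) := ⟨E'' i, (hE'' i).1⟩
    have e1 : clsT (S i) (Ratio.loc (g i) (w i)) = B (cls aK) (cls aM) := by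
      rw [hB aK aM, bilin_congr (hla i) (hexV i) (hπV i) aK aM aL
          (hu'.strict i) (fun j => show g i (w i _) = fV i (g' i (u' i j)) by rw [hwl, hcf])
          (fun j => (hcπ i _).symm)]
      exact clsT_adm aL
    have e2 : B (cls eK) (cls eM) = clsT (S i) (glue (fV i) (hπV i) (E' i) (E'' i)) := hB eK eM
    have f1 : cls aK = c' i • cls eK := by rw [← clsT_adm aK, ← clsT_adm eK]; exact hc' i
    have f2 : cls aM = c'' i • cls eM := by rw [← clsT_adm aM, ← clsT_adm eM]; exact hc'' i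
    rw [e1, f1, f2, map_smul, map_smul, LinearMap.smul_apply, smul_smul, e2, mul_comm]
  · rw [length_quot_additive hf hπ hex hcπ hwl hw hu'',
      ENat.toNat_add (hu'.length_quot_ne_top hla hsupp') (hu''.length_quot_ne_top hlb hsupp''),
      Finset.sum_congr rfl fun i _ => hord.mul i (c' i) (c'' i) (hc'0 i) (hc''0 i), Finset.sum_add_distrib]
    push_cast
    ring

end seq

end Groth.Agent.H9ChowK
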