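import Groth.Agent.H23.StalkPrimes
import Groth.Agent.H23.P1Fam
import Groth.Agent.CycLib.StalkSES
import Groth.Agent.CycLib.Div
import Groth.Agent.CycLib.Ratio

/-! Stalks of quasi-coherent modules at generalizations, as localisations. -/

set_option autoImplicit false
set_option linter.style.haveILetI false
set_option backward.isDefEq.respectTransparency false
set_option backward.isDefEq.respectTransparency.types false

universe u

open AlgebraicGeometry CategoryTheory TopologicalSpace Opposite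

namespace Groth.Agent.H9ChowK

open Groth.Agent

variable {X : Scheme.{u}} {x ξ : X}

/-- The local ring at a generalization as an algebra. -/
noncomputable abbrev specAlg (h : ξ ⤳ x) : Algebra (X.presheaf.stalk x) (X.presheaf.stalk ξ) :=
  (X.presheaf.stalkSpecializes h).hom.toAlgebra

/-- The stalk at a generalization as a module over the local ring. -/
noncomputable abbrev specMod (M : X.Modules) (h : ξ ⤳ x) : Module (X.presheaf.stalk x) (M.presheaf.stalk ξ) :=
  Module.compHom _ (X.presheaf.stalkSpecializes h).hom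

theorem isScalarTower_spec (M : X.Modules) (h : ξ ⤳ x) :
    letI := specAlg h; letI := specMod M h
    IsScalarTower (X.presheaf.stalk x) (X.presheaf.stalk ξ) (M.presheaf.stalk ξ) :=
  letI := specAlg h; letI := specMod M h
  IsScalarTower.of_algebraMap_smul fun _ _ => rfl

theorem spec_germ (M : X.Modules) (h : ξ ⤳ x) {U : X.Opens} (hx : x ∈ U) (m : Γ(M, U)) :
    M.presheaf.stalkSpecializes h (M.presheaf.germ U x hx m) = M.presheaf.germ U ξ (h.mem_open U.2 hx) m :=
  TopCat.Presheaf.germ_stalkSpecializes_apply M.presheaf hx h m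

theorem spec_smul (M : X.Modules) (h : ξ ⤳ x) (r : X.presheaf.stalk x) (m : M.presheaf.stalk x) :
    M.presheaf.stalkSpecializes h (r • m) =
      (X.presheaf.stalkSpecializes h).hom r • M.presheaf.stalkSpecializes h m := by
  obtain ⟨U, hxU, a, rfl⟩ := X.presheaf.exists_germ_eq r
  obtain ⟨V, hxV, n, rfl⟩ := M.presheaf.exists_germ_eq m
  have hW : x ∈ U ⊓ V := ⟨hxU, hxV⟩
  rw [← X.presheaf.germ_res_apply (homOfLE (inf_le_left : U ⊓ V ≤ U)) x hW a,
    ← TopCat.Presheaf.germ_res_apply (F := M.presheaf) (homOfLE (inf_le_right : U ⊓ V ≤ V)) x hW n,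
    ← QCoh.germ_smul', spec_germ, spec_germ, QCoh.germ_smul']
  exact congrArg (· • _) (TopCat.Presheaf.germ_stalkSpecializes_apply X.presheaf hW h _).symm

/-- Specialisation of stalks as a linear map. -/
noncomputable def specLin (M : X.Modules) (h : ξ ⤳ x) :
    letI := specMod M h; M.presheaf.stalk x →ₗ[X.presheaf.stalk x] M.presheaf.stalk ξ :=
  letI := specMod M h
  { toFun := M.presheaf.stalkSpecializes h
    map_add' := map_add (M.presheaf.stalkSpecializes h).hom
    map_smul' := spec_smul M h }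

theorem specLin_natural {M N : X.Modules} (φ : M ⟶ N) (h : ξ ⤳ x) (m : M.presheaf.stalk x) :
    specLin N h (CycLib.stalkLin φ x m) = CycLib.stalkLin φ ξ (specLin M h m) := by
  obtain ⟨U, hxU, n, rfl⟩ := M.presheaf.exists_germ_eq m
  show N.presheaf.stalkSpecializes h (CycLib.stalkAdd φ x _) = CycLib.stalkAdd φ ξ (M.presheaf.stalkSpecializes h _)
  rw [CycLib.stalkAdd_germ, spec_germ, spec_germ, CycLib.stalkAdd_germ]

theorem isLocalizedModule_spec {M : X.Modules} (hM : Coh.IsQCoh M) (h : ξ ⤳ x) :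
    letI := specMod M h
    IsLocalizedModule (CDiv6.primeOf h).asIdeal.primeCompl (specLin M h) := by
  obtain ⟨U, hU, hxU⟩ := QCoh.exists_affine_mem x
  have hξU : ξ ∈ U := h.mem_open U.2 hxU
  letI := specMod M h
  letI := QCoh.stalkModule M hxU
  letI := QCoh.stalkModule M hξU
  haveI hx' := QCoh.isLocalizedModule_germLin hM hU hxU
  haveI hξ' := QCoh.isLocalizedModule_germLin hM hU hξU
  have hg : ∀ m, specLin M h (QCoh.germLin M hxU m) = QCoh.germLin M hξU m := fun m => spec_germ M h hxU m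
  have hgr : ∀ a, (X.presheaf.stalkSpecializes h).hom (X.presheaf.germ U x hxU a) = X.presheaf.germ U ξ hξU a :=
    fun a => TopCat.Presheaf.germ_stalkSpecializes_apply X.presheaf hxU h a
  refine ⟨fun s => ?_, fun v => ?_, fun {m₁ m₂} hm => ?_⟩
  · rw [Module.End.isUnit_iff]
    have hu : IsUnit ((X.presheaf.stalkSpecializes h).hom (s : X.presheaf.stalk x)) :=
      not_not.1 fun hn => s.2 ((CDiv6.mem_primeOf h _).2 hn)
    refine ⟨fun a b hab => hu.smul_left_cancel.1 hab, fun b => ⟨hu.unit⁻¹.val • b, ?_⟩⟩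
    show (X.presheaf.stalkSpecializes h).hom (s : X.presheaf.stalk x) • hu.unit⁻¹.val • b = b
    rw [← mul_smul, IsUnit.mul_val_inv, one_smul]
  · obtain ⟨⟨n, s⟩, hs⟩ := IsLocalizedModule.surj (hU.primeIdealOf ⟨ξ, hξU⟩).asIdeal.primeCompl (QCoh.germLin M hξU) v
    have hmem : X.presheaf.germ U x hxU (s : Γ(X, U)) ∈ (CDiv6.primeOf h).asIdeal.primeCompl := fun hc =>
      (CDiv6.mem_primeOf h _).1 hc (by
        show IsUnit ((X.presheaf.stalkSpecializes h).hom _)
        rw [hgr]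
        exact (X.mem_basicOpen _ ξ hξU).1 ((QCoh.mem_basicOpen_iff_notMem hU hξU _).2 s.2))
    refine ⟨(QCoh.germLin M hxU n, ⟨_, hmem⟩), ?_⟩
    refine Eq.trans ?_ (hg n).symm
    refine Eq.trans ?_ hs
    show (X.presheaf.stalkSpecializes h).hom (X.presheaf.germ U x hxU _) • v = X.presheaf.germ U ξ hξU _ • v
    rw [hgr]
  · have h0 : specLin M h (m₁ - m₂) = 0 := by rw [map_sub, hm, sub_self]
    obtain ⟨⟨n, s⟩, hs⟩ := IsLocalizedModule.surj (hU.primeIdealOf ⟨x, hxU⟩).asIdeal.primeCompl (QCoh.germLin M hxU) (m₁ - m₂)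
    have hn : QCoh.germLin M hξU n = 0 := by
      rw [← hg, ← hs]
      show specLin M h (X.presheaf.germ U x hxU (s : Γ(X, U)) • (m₁ - m₂)) = 0
      rw [map_smul, h0, smul_zero]
    obtain ⟨⟨t, ht⟩, htn⟩ := (IsLocalizedModule.eq_zero_iff (hU.primeIdealOf ⟨ξ, hξU⟩).asIdeal.primeCompl _).1 hn
    have hu : IsUnit (X.presheaf.germ U x hxU (s : Γ(X, U))) :=
      (X.mem_basicOpen _ x hxU).1 ((QCoh.mem_basicOpen_iff_notMem hU hxU _).2 s.2)
    have hmem : X.presheaf.germ U x hxU t ∈ (CDiv6.primeOf h).asIdeal.primeCompl := fun hc =>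
      (CDiv6.mem_primeOf h _).1 hc (by
        show IsUnit ((X.presheaf.stalkSpecializes h).hom _)
        rw [hgr]
        exact (X.mem_basicOpen _ ξ hξU).1 ((QCoh.mem_basicOpen_iff_notMem hU hξU _).2 ht))
    refine ⟨⟨_, hmem⟩, sub_eq_zero.1 ?_⟩
    show X.presheaf.germ U x hxU t • m₁ - X.presheaf.germ U x hxU t • m₂ = 0
    rw [← smul_sub, ← hu.smul_left_cancel, smul_zero, smul_comm,
      show X.presheaf.germ U x hxU (s : Γ(X, U)) • (m₁ - m₂) = QCoh.germLin M hxU n from hs]
    refine ((QCoh.germLin M hxU).map_smul t n).symm.trans ?_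
    rw [show t • n = 0 from htn, map_zero]

theorem ordQ_congr {R : Type u} [CommRing R] {I J : Ideal R} (h : I = J) (a : R) :
    Ring.ord (R ⧸ I) (Ideal.Quotient.mk I a) = Ring.ord (R ⧸ J) (Ideal.Quotient.mk J a) := by
  subst h; rfl

theorem ord_ne_top [IsLocallyNoetherian X] {δ : X → ℤ} (hd : Cyc.IsDimFun X δ) (h : ξ ⤳ x) (hx : δ x + 1 = δ ξ)
    {a : X.presheaf.stalk x} (ha : a ∉ (CDiv6.primeOf h).asIdeal) :
    CycLib.Ratio.ordQ (CDiv6.primeOf h) a ≠ ⊤ := by
  haveI : Ring.KrullDimLE 1 (X.presheaf.stalk x ⧸ (CDiv6.primeOf h).asIdeal) := by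
    rw [Ring.KrullDimLE, Order.krullDimLE_iff]
    exact ((ringKrullDim_eq_of_ringEquiv (Ideal.quotEquivOfEq (CycLib.ker_specMap h))).symm.trans
      (CycLib.ringKrullDim_locQuot_eq_one hd h hx)).le
  exact Ring.ord_ne_top (mem_nonZeroDivisors_of_ne_zero (mt Ideal.Quotient.eq_zero_iff_mem.1 ha))

theorem ordAt_residue [IsLocallyNoetherian X] {δ : X → ℤ} (hd : Cyc.IsDimFun X δ) (h : ξ ⤳ x) (hx : δ x + 1 = δ ξ)
    {a : X.presheaf.stalk x} (ha : a ∉ (CDiv6.primeOf h).asIdeal) :
    Cyc.ordAt x ξ h (Cyc.specMap x ξ h a) = ((CycLib.Ratio.ordQ (CDiv6.primeOf h) a).toNat : ℤ) := by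
  have hne : Ideal.Quotient.mk (RingHom.ker (Cyc.specMap x ξ h)) a ≠ 0 := fun h0 => ha (by
    rw [← CycLib.ker_specMap h]; exact Ideal.Quotient.eq_zero_iff_mem.1 h0)
  rw [← CycLib.algebraMap_locQuot_mk, CycLib.ordAt_algebraMap hd h hx hne]
  exact congrArg (fun n : ℕ∞ => (n.toNat : ℤ)) (ordQ_congr (CycLib.ker_specMap h) a)

/-- The points of dimension `k + 1` of the support near a given point are finite in number. -/
theorem locFin_generic [IsLocallyNoetherian X] {δ : X → ℤ} (hd : Cyc.IsDimFun X δ) {k : ℤ} {F : X.Modules}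
    (hF : Coh.IsCoh F) (hdim : ∀ z : X, Nontrivial (F.presheaf.stalk z) → δ z ≤ k) (z : X) :
    ∃ U : Set X, IsOpen U ∧ z ∈ U ∧ {η | δ η = k ∧ η ∈ CohB1.support F ∧ (closure {η} ∩ U).Nonempty}.Finite := by
  obtain ⟨U, hU, hfin⟩ := H23.P1Fam.locFin_sheafFun hd hF hdim z
  obtain ⟨O, hOU, hO, hzO⟩ := mem_nhds_iff.1 hU
  refine ⟨O, hO, hzO, hfin.subset ?_⟩
  rintro η ⟨hη, hs, w, hw, hwO⟩
  refine ⟨hOU ((specializes_iff_mem_closure.2 hw).mem_open hO hwO), ?_⟩
  rw [Function.mem_support, Cyc.sheafFun, if_pos hη]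
  have hnt : Nontrivial (F.presheaf.stalk η) := not_subsingleton_iff_nontrivial.1 hs
  have hlt := CycLib.length_stalk_lt_top F hF (ξ := η) fun y hy hyη =>
    CycLib.eq_of_delta_le hd hyη ((hdim y hy).trans hη.ge)
  have hpos : 0 < Module.length (X.presheaf.stalk η) (F.presheaf.stalk η) := Module.length_pos
  intro h0
  have h1 : (Module.length (X.presheaf.stalk η) (F.presheaf.stalk η)).toNat = 0 := by exact_mod_cast h0
  rcases ENat.toNat_eq_zero.1 h1 with h2 | h2
  · exact hpos.ne' h2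
  · exact hlt.ne h2

end Groth.Agent.H9ChowK
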