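import Groth.Agent.H9ChowK.CycleSheaf
import Groth.Agent.H9ChowK.Stalks
import Groth.Agent.QCoh.ClosedPush

/-! Stalks of the structure sheaf of the closure of a point. -/

set_option autoImplicit false
set_option linter.unusedSectionVars false
set_option linter.style.haveILetI false
set_option backward.isDefEq.respectTransparency false
set_option backward.isDefEq.respectTransparency.types false

universe u

open CategoryTheory AlgebraicGeometry TopologicalSpace Opposite

namespace Groth.Agent.H9ChowK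

open Groth.Agent

variable {X : Scheme.{u}} (ξ : X)

/-- The unit section. -/
noncomputable def oneSec (U : X.Opens) : Γ(Cyc.closureStructureSheaf ξ, U) :=
  show Γ((IntMult.ptIdeal ξ).subscheme, (IntMult.ptIdeal ξ).subschemeι ⁻¹ᵁ U) from 1

theorem res_oneSec {U V : X.Opens} (h : V ≤ U) :
    (Cyc.closureStructureSheaf ξ).presheaf.map (homOfLE h).op (oneSec ξ U) = oneSec ξ V :=
  map_one ((IntMult.ptIdeal ξ).subscheme.presheaf.map
    ((Opens.map (IntMult.ptIdeal ξ).subschemeι.base).map (homOfLE h)).op).hom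

theorem smul_oneSec {U : X.Opens} (r : Γ(X, U)) :
    (show Γ((IntMult.ptIdeal ξ).subscheme, (IntMult.ptIdeal ξ).subschemeι ⁻¹ᵁ U) from r • oneSec ξ U) =
      (IntMult.ptIdeal ξ).subschemeι.app U r :=
  (QCoh.pushforward_smul (IntMult.ptIdeal ξ).subschemeι U r _).trans
    (mul_one (M := Γ((IntMult.ptIdeal ξ).subscheme, (IntMult.ptIdeal ξ).subschemeι ⁻¹ᵁ U)) _)

/-- The germ of the unit section. -/
noncomputable def oneGerm (x : X) : (Cyc.closureStructureSheaf ξ).presheaf.stalk x :=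
  (Cyc.closureStructureSheaf ξ).presheaf.germ ⊤ x trivial (oneSec ξ ⊤)

theorem germ_oneSec {x : X} (U : X.Opens) (hx : x ∈ U) :
    (Cyc.closureStructureSheaf ξ).presheaf.germ U x hx (oneSec ξ U) = oneGerm ξ x := by
  rw [← res_oneSec ξ (le_top : U ≤ ⊤)]
  exact TopCat.Presheaf.germ_res_apply (F := (Cyc.closureStructureSheaf ξ).presheaf) _ x hx _

theorem span_oneGerm (x : X) : Submodule.span (X.presheaf.stalk x) {oneGerm ξ x} = ⊤ := by
  refine top_unique fun t _ => ?_
  obtain ⟨W, hW, hx, m, rfl⟩ := CycLib.exists_germ_affine _ t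
  obtain ⟨r, hr⟩ := (IntMult.ptIdeal ξ).subschemeι.app_surjective W hW
    (show Γ((IntMult.ptIdeal ξ).subscheme, (IntMult.ptIdeal ξ).subschemeι ⁻¹ᵁ W) from m)
  refine Submodule.mem_span_singleton.2 ⟨X.presheaf.germ W x hx r, ?_⟩
  rw [← germ_oneSec ξ W hx, ← QCoh.germ_smul']
  exact congrArg _ ((smul_oneSec ξ r).trans hr)

theorem spec_oneGerm {x : X} (h : ξ ⤳ x) :
    specLin (Cyc.closureStructureSheaf ξ) h (oneGerm ξ x) = oneGerm ξ ξ :=
  spec_germ _ h (U := ⊤) trivial _

theorem smul_oneGerm_self (r : X.presheaf.stalk ξ) :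
    r • oneGerm ξ ξ = 0 ↔ r ∈ IsLocalRing.maximalIdeal (X.presheaf.stalk ξ) := by
  let L := LinearMap.toSpanSingleton (X.presheaf.stalk ξ) _ (oneGerm ξ ξ)
  have hs : Function.Surjective L := fun t =>
    Submodule.mem_span_singleton.1 ((span_oneGerm ξ ξ).ge (Submodule.mem_top : t ∈ ⊤))
  haveI : IsSimpleModule (X.presheaf.stalk ξ) ((Cyc.closureStructureSheaf ξ).presheaf.stalk ξ) :=
    Module.length_eq_one_iff.1 (length_closure_self ξ)
  haveI : IsSimpleModule (X.presheaf.stalk ξ) (X.presheaf.stalk ξ ⧸ LinearMap.ker L) :=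
    IsSimpleModule.congr (L.quotKerEquivOfSurjective hs)
  rw [← IsLocalRing.eq_maximalIdeal (I := LinearMap.ker L) ⟨isSimpleModule_iff_isCoatom.1 inferInstance⟩]
  exact (LinearMap.mem_ker (f := L)).symm

/-- A section is determined by its germ at the generic point. -/
theorem eq_zero_of_germ_eq_zero {U : X.Opens} (hU : IsAffineOpen U) (s : Γ(Cyc.closureStructureSheaf ξ, U))
    (h : ∀ hξ : ξ ∈ U, (Cyc.closureStructureSheaf ξ).presheaf.germ U ξ hξ s = 0) : s = 0 := by
  by_cases hξ : ξ ∈ U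
  · obtain ⟨a, ha, h0⟩ := (QCoh.germ_eq_zero_iff (isQCoh_closure ξ) hU hξ s).1 (h hξ)
    haveI := isIntegral_ptIdeal ξ
    set i := (IntMult.ptIdeal ξ).subschemeι
    have hgen : genericPoint (IntMult.ptIdeal ξ).subscheme ∈ i ⁻¹ᵁ U := by
      show i (genericPoint _) ∈ U
      rw [genericPoint_ptIdeal]; exact hξ
    have hz : genericPoint (IntMult.ptIdeal ξ).subscheme ∈ i ⁻¹ᵁ X.basicOpen a := by
      show i (genericPoint _) ∈ X.basicOpen a
      rw [genericPoint_ptIdeal]; exact ha
    rw [Scheme.preimage_basicOpen] at hz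
    have hne : i.app U a ≠ 0 := fun e => by
      rw [e, Scheme.basicOpen_zero] at hz
      exact hz
    haveI : IsDomain Γ((IntMult.ptIdeal ξ).subscheme, i ⁻¹ᵁ U) := @IsIntegral.component_integral _ _ _ ⟨⟨_, hgen⟩⟩
    exact (mul_eq_zero.1 ((QCoh.pushforward_smul i U a s).symm.trans h0)).resolve_left hne
  · haveI := subsingleton_closure_of_notMem hξ
    exact Subsingleton.elim _ _

theorem spec_injective {x : X} (h : ξ ⤳ x) : Function.Injective (specLin (Cyc.closureStructureSheaf ξ) h) := by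
  letI := specMod (Cyc.closureStructureSheaf ξ) h
  refine (injective_iff_map_eq_zero _).2 fun t ht => ?_
  obtain ⟨U, hU, hx, m, rfl⟩ := CycLib.exists_germ_affine _ t
  rw [eq_zero_of_germ_eq_zero ξ hU m fun hξ => (spec_germ _ h hx m).symm.trans ht, map_zero]

theorem spec_smul_oneGerm {x : X} (h : ξ ⤳ x) (r : X.presheaf.stalk x) :
    specLin (Cyc.closureStructureSheaf ξ) h (r • oneGerm ξ x) =
      (X.presheaf.stalkSpecializes h).hom r • oneGerm ξ ξ :=
  (spec_smul _ h r _).trans (congrArg _ (spec_germ _ h (U := ⊤) trivial _))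

theorem smul_oneGerm_eq_zero {x : X} (h : ξ ⤳ x) (r : X.presheaf.stalk x) :
    r • oneGerm ξ x = 0 ↔ r ∈ (CDiv6.primeOf h).asIdeal := by
  rw [CDiv6.mem_primeOf, ← mem_nonunits_iff, ← IsLocalRing.mem_maximalIdeal, ← smul_oneGerm_self,
    ← spec_smul_oneGerm ξ h r]
  exact ⟨fun e => by rw [e]; exact map_zero _, fun e => spec_injective ξ h (e.trans (map_zero _).symm)⟩

end Groth.Agent.H9ChowK
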