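import Groth.Agent.H9ChowK.Layers

/-! Modules with the same lengths at the points of top dimension have the same class. -/

set_option autoImplicit false
set_option linter.unusedSectionVars false
set_option linter.style.haveILetI false
set_option backward.isDefEq.respectTransparency false
set_option backward.isDefEq.respectTransparency.types false

universe u

open CategoryTheory CategoryTheory.Limits AlgebraicGeometry TopologicalSpace Opposite ZeroObject

namespace Groth.Agent.H9ChowK

open Groth.Agent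

attribute [local instance] Abelian.hasFiniteBiproducts

variable {X : Scheme.{u}} [IsLocallyNoetherian X] {δ : X → ℤ} {k : ℤ}

theorem stalkLin_add {A B : X.Modules} (f g : A ⟶ B) (x : X) (t : A.presheaf.stalk x) :
    CycLib.stalkLin (f + g) x t = CycLib.stalkLin f x t + CycLib.stalkLin g x t := by
  obtain ⟨U, hU, hx, n, rfl⟩ := CycLib.exists_germ_affine _ t
  show CycLib.stalkAdd (f + g) x _ = CycLib.stalkAdd f x _ + CycLib.stalkAdd g x _
  rw [CycLib.stalkAdd_germ, CycLib.stalkAdd_germ, CycLib.stalkAdd_germ, ← map_add]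
  rfl

theorem stalkLin_id {A : X.Modules} (x : X) (t : A.presheaf.stalk x) : CycLib.stalkLin (𝟙 A) x t = t := by
  obtain ⟨U, hU, hx, n, rfl⟩ := CycLib.exists_germ_affine _ t
  exact CycLib.stalkAdd_germ _ x hx n

theorem stalkLin_zero {A B : X.Modules} (x : X) (t : A.presheaf.stalk x) : CycLib.stalkLin (0 : A ⟶ B) x t = 0 := by
  obtain ⟨U, hU, hx, n, rfl⟩ := CycLib.exists_germ_affine _ t
  exact (CycLib.stalkAdd_germ _ x hx n).trans (map_zero _)

/-- The split sequence of a biproduct. -/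
theorem biprod_shortExact (A B : X.Modules) :
    (ShortComplex.mk (biprod.inl : A ⟶ A ⊞ B) biprod.snd biprod.inl_snd).ShortExact :=
  ShortComplex.Splitting.shortExact
    { r := biprod.fst
      s := biprod.inr
      f_r := biprod.inl_fst
      s_g := biprod.inr_snd
      id := biprod.total }

theorem cohLe_biprod {A B : X.Modules} (hA : Cyc.CohLe δ k A) (hB : Cyc.CohLe δ k B) : Cyc.CohLe δ k (A ⊞ B) :=
  cohLe_ext (biprod_shortExact A B) hA hB

theorem exists_equiv_of_length_le_one {R M N : Type u} [CommRing R] [IsLocalRing R] [AddCommGroup M] [Module R M]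
    [AddCommGroup N] [Module R N] (h : Module.length R M = Module.length R N) (h1 : Module.length R M ≤ 1) :
    Nonempty (M ≃ₗ[R] N) := by
  rcases eq_or_ne (Module.length R M) 0 with h0 | h0
  · haveI := Module.length_eq_zero_iff.1 h0
    haveI := Module.length_eq_zero_iff.1 (h ▸ h0)
    exact ⟨{ toFun := fun _ => 0, invFun := fun _ => 0, map_add' := fun _ _ => (add_zero 0).symm,
             map_smul' := fun r _ => (smul_zero r).symm, left_inv := fun _ => Subsingleton.elim _ _,
             right_inv := fun _ => Subsingleton.elim _ _ }⟩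
  · have hM : Module.length R M = 1 := le_antisymm h1 (Order.one_le_iff_pos.2 (pos_iff_ne_zero.2 h0))
    obtain ⟨m, hm, ⟨e⟩⟩ := isSimpleModule_iff_quot_maximal.1 (Module.length_eq_one_iff.1 hM)
    obtain ⟨m', hm', ⟨e'⟩⟩ := isSimpleModule_iff_quot_maximal.1 (Module.length_eq_one_iff.1 (h ▸ hM))
    obtain rfl := (IsLocalRing.eq_maximalIdeal hm).trans (IsLocalRing.eq_maximalIdeal hm').symm
    exact ⟨e.trans e'.symm⟩

/-- A correspondence between two modules with isomorphic stalks at the top-dimensional points. -/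
theorem exists_correspondence (hd : Cyc.IsDimFun X δ) {A B : X.Modules} (hA : Cyc.CohLe δ k A)
    (hB : Cyc.CohLe δ k B)
    (θ : ∀ η, δ η = k → A.presheaf.stalk η ≃ₗ[X.presheaf.stalk η] B.presheaf.stalk η) :
    ∃ (K : X.Modules) (ι : K ⟶ A ⊞ B), Mono ι ∧ Cyc.CohLe δ k K ∧ ∀ η, δ η = k →
      Function.Bijective (CycLib.stalkLin (ι ≫ biprod.fst) η) ∧
      Function.Bijective (CycLib.stalkLin (ι ≫ biprod.snd) η) := by
  classical
  have hP := cohLe_biprod hA hB
  set S := kPts δ k (A ⊞ B)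
  let E : ∀ η, Submodule (X.presheaf.stalk η) ((A ⊞ B).presheaf.stalk η) := fun η =>
    if h : δ η = k then LinearMap.eqLocus ((θ η h).toLinearMap.comp (CycLib.stalkLin biprod.fst η))
      (CycLib.stalkLin biprod.snd η) else ⊤
  have hfin := finSet_kPts hd hP
  have hanti : AntiSet S := antiSet_kPts hd
  have hq := isQCoh_gSub (E := E) hP.1.1 hfin fun η hη => length_ne_top hd hP hη.1
  refine ⟨(gSub (A ⊞ B) S E).toModules, (gSub (A ⊞ B) S E).ι, inferInstance,
    cohLe_of_mono (gSub (A ⊞ B) S E).ι hq hP, fun η hη => ?_⟩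
  set ι := (gSub (A ⊞ B) S E).ι
  have hinj := stalk_gSub_injective (S := S) (E := E) hP.1.1 hq η
  have hrange : ∀ t, (∃ s, CycLib.stalkLin ι η s = t) ↔
      θ η hη (CycLib.stalkLin biprod.fst η t) = CycLib.stalkLin biprod.snd η t := by
    intro t
    by_cases hS : η ∈ S
    · have h := range_stalk_gSub (E := E) hfin hanti hS
      have e : E η = LinearMap.eqLocus ((θ η hη).toLinearMap.comp (CycLib.stalkLin biprod.fst η))
          (CycLib.stalkLin biprod.snd η) := dif_pos hη
      rw [← LinearMap.mem_range, h, e]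
      rfl
    · haveI := subsingleton_of_notMem_kPts hη hS
      rw [Subsingleton.elim t 0]
      simp only [map_zero, iff_true]
      exact ⟨0, map_zero _⟩
  have htot : ∀ t : (A ⊞ B).presheaf.stalk η, t = CycLib.stalkLin biprod.inl η (CycLib.stalkLin biprod.fst η t) +
      CycLib.stalkLin biprod.inr η (CycLib.stalkLin biprod.snd η t) := fun t => by
    rw [← stalkLin_comp, ← stalkLin_comp, ← stalkLin_add, biprod.total, stalkLin_id]
  have hfst : Function.Bijective (CycLib.stalkLin (ι ≫ biprod.fst) η) := by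
    refine ⟨(injective_iff_map_eq_zero _).2 fun s hs => hinj ?_, fun a => ?_⟩
    · rw [stalkLin_comp] at hs
      have h2 := (hrange _).1 ⟨s, rfl⟩
      rw [hs, map_zero] at h2
      rw [map_zero, htot (CycLib.stalkLin ι η s), hs, ← h2, map_zero, map_zero, add_zero]
    · have hf1 : ∀ b, CycLib.stalkLin biprod.fst η
          (CycLib.stalkLin biprod.inl η a + CycLib.stalkLin (biprod.inr : B ⟶ A ⊞ B) η b) = a := fun b => by
        rw [map_add, ← stalkLin_comp, ← stalkLin_comp, biprod.inl_fst, biprod.inr_fst, stalkLin_id, stalkLin_zero,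
          add_zero]
      obtain ⟨s, hs⟩ := (hrange (CycLib.stalkLin biprod.inl η a + CycLib.stalkLin biprod.inr η (θ η hη a))).2 (by
        rw [hf1, map_add, ← stalkLin_comp, ← stalkLin_comp, biprod.inl_snd, biprod.inr_snd, stalkLin_id,
          stalkLin_zero, zero_add])
      exact ⟨s, by rw [stalkLin_comp, hs, hf1]⟩
  refine ⟨hfst, ?_⟩
  have e : ⇑(CycLib.stalkLin (ι ≫ biprod.snd) η) = θ η hη ∘ CycLib.stalkLin (ι ≫ biprod.fst) η := funext fun s => by
    rw [Function.comp_apply, stalkLin_comp, stalkLin_comp, (hrange _).1 ⟨s, rfl⟩]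
  rw [e]
  exact (θ η hη).bijective.comp hfst

/-- Layered families with the same lengths have the same class. -/
theorem toK0_sigma_eq_of_length (hd : Cyc.IsDimFun X δ) {A B : ℕ → X.Modules} (hA : ∀ i, Cyc.CohLe δ k (A i))
    (hB : ∀ i, Cyc.CohLe δ k (B i)) (sA : KZ.LF.Small KZ.LF.Vanish A) (sB : KZ.LF.Small KZ.LF.Vanish B)
    (hl : ∀ i η, δ η = k → Module.length (X.presheaf.stalk η) ((A i).presheaf.stalk η) =
      Module.length (X.presheaf.stalk η) ((B i).presheaf.stalk η))
    (h1 : ∀ i η, δ η = k → Module.length (X.presheaf.stalk η) ((A i).presheaf.stalk η) ≤ 1) :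
    Cyc.toK0CohQuot δ k (k - 1) (∐ A) = Cyc.toK0CohQuot δ k (k - 1) (∐ B) := by
  have θ := fun i η (hη : δ η = k) => exists_equiv_of_length_le_one (hl i η hη) (h1 i η hη)
  choose K ι hι hK hbij using fun i => exists_correspondence hd (hA i) (hB i) fun η hη => (θ i η hη).some
  have sK : KZ.LF.Small KZ.LF.Vanish K := fun U => by
    obtain ⟨n, hn⟩ := sA U
    obtain ⟨m, hm⟩ := sB U
    refine ⟨max n m, fun i hi => subsingleton_of_forall_eq 0 fun s => ?_⟩
    haveI : Subsingleton Γ(A i, U.1) := hn i ((le_max_left _ _).trans hi)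
    haveI : Subsingleton Γ(B i, U.1) := hm i ((le_max_right _ _).trans hi)
    haveI := hι i
    refine QCoh.app_injective (ι i) U.1 ?_
    have h : ∀ t : Γ(A i ⊞ B i, U.1), t = 0 := fun t => by
      have e := congr(($(biprod.total (X := A i) (Y := B i))).app U.1 t)
      refine e.symm.trans ?_
      show (biprod.inl : A i ⟶ A i ⊞ B i).app U.1 ((biprod.fst : A i ⊞ B i ⟶ A i).app U.1 t) +
        (biprod.inr : B i ⟶ A i ⊞ B i).app U.1 ((biprod.snd : A i ⊞ B i ⟶ B i).app U.1 t) = 0
      rw [Subsingleton.elim ((biprod.fst : A i ⊞ B i ⟶ A i).app U.1 t) 0,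
        Subsingleton.elim ((biprod.snd : A i ⊞ B i ⟶ B i).app U.1 t) 0, map_zero, map_zero, add_zero]
    exact (h _).trans (h _).symm
  exact (toK0_sigma_eq (fun i => ι i ≫ biprod.fst) hK hA sK sA fun i η hη => (hbij i η hη).1).symm.trans
    (toK0_sigma_eq (fun i => ι i ≫ biprod.snd) hK hB sK sB fun i η hη => (hbij i η hη).2)

/-- Modules with the same lengths at the top-dimensional points have the same class. -/
theorem toK0_eq_of_sheafFun_eq (hd : Cyc.IsDimFun X δ) {F G : X.Modules} (hF : Cyc.CohLe δ k F)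
    (hG : Cyc.CohLe δ k G) (h : Cyc.sheafFun δ k F = Cyc.sheafFun δ k G) :
    Cyc.toK0CohQuot δ k (k - 1) F = Cyc.toK0CohQuot δ k (k - 1) G := by
  obtain ⟨R, hR, sR, lR, eR⟩ := exists_layers hd hF
  obtain ⟨S, hS, sS, lS, eS⟩ := exists_layers hd hG
  have hn : ∀ η, δ η = k → lenN F η = lenN G η := fun η hη => by
    have := congrFun h η
    simp only [Cyc.sheafFun, if_pos hη] at this
    exact Int.natCast_inj.1 this
  rw [eR, eS]
  refine toK0_sigma_eq_of_length hd hR hS sR sS (fun i η hη => by rw [lR i η hη, lS i η hη, hn η hη]) fun i η hη => ?_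
  rw [lR i η hη]
  split_ifs
  · exact le_rfl
  · exact zero_le_one

theorem exists_sub_repr (c : Cyc.K0CohQuot δ k (k - 1)) : ∃ F G : X.Modules, Cyc.CohLe δ k F ∧ Cyc.CohLe δ k G ∧
    c = Cyc.toK0CohQuot δ k (k - 1) F - Cyc.toK0CohQuot δ k (k - 1) G := by
  obtain ⟨c, rfl⟩ := QuotientAddGroup.mk_surjective c
  obtain ⟨c, rfl⟩ := QuotientAddGroup.mk_surjective c
  induction c using FreeAbelianGroup.induction_on with
  | zero => exact ⟨0, 0, cohLe_zero, cohLe_zero, by rw [sub_self]; rfl⟩
  | of M =>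
    refine ⟨M.1, 0, M.2, cohLe_zero, ?_⟩
    rw [toK0_eq_zero (F := (0 : X.Modules)) cohLe_zero, sub_zero, Cyc.toK0CohQuot, KZ.clSub_of_prop _ M.2]
  | neg M h =>
    obtain ⟨F, G, hF, hG, e⟩ := h
    refine ⟨G, F, hG, hF, ?_⟩
    rw [← neg_sub (Cyc.toK0CohQuot δ k (k - 1) F), ← e]
    rfl
  | add a b ha hb =>
    obtain ⟨F, G, hF, hG, e⟩ := ha
    obtain ⟨F', G', hF', hG', e'⟩ := hb
    refine ⟨F ⊞ F', G ⊞ G', cohLe_biprod hF hF', cohLe_biprod hG hG', ?_⟩
    rw [toK0_ses (biprod_shortExact F F') hF (cohLe_biprod hF hF') hF',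
      toK0_ses (biprod_shortExact G G') hG (cohLe_biprod hG hG') hG', add_sub_add_comm, ← e, ← e']
    rfl

/-- The cycle homomorphism. -/
theorem exists_sheafFunHom (hd : Cyc.IsDimFun X δ) (k : ℤ) :
    ∃ ψ : Cyc.K0CohQuot δ k (k - 1) →+ (X → ℤ),
      (∀ F : X.Modules, Cyc.CohLe δ k F → ψ (Cyc.toK0CohQuot δ k (k - 1) F) = Cyc.sheafFun δ k F) ∧
      Function.Injective ψ := by
  obtain ⟨f, hf⟩ := KZ.exists_liftSub (Cyc.CohLe δ k) (Cyc.sheafFun δ k)
    fun S hS h₁ h₂ h₃ => CycLib.sheafFun_shortExact hd hS h₁.1 h₂.1 h₃.1 h₂.2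
  refine ⟨QuotientAddGroup.lift _ f ?_, fun F hF => hf F hF, (injective_iff_map_eq_zero _).2 fun c hc => ?_⟩
  · rw [AddSubgroup.closure_le]
    rintro c ⟨F, hF, rfl⟩
    rw [SetLike.mem_coe, AddMonoidHom.mem_ker, hf F (cohLe_mono (by omega) hF)]
    funext x
    rw [Cyc.sheafFun]
    split_ifs with hx
    · have hns : Subsingleton (F.presheaf.stalk x) := not_not.1 fun hn => by
        have := hF.2 x (not_subsingleton_iff_nontrivial.1 hn)
        omega
      rw [Module.length_eq_zero_iff.2 hns]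
      rfl
    · rfl
  · obtain ⟨F, G, hF, hG, rfl⟩ := exists_sub_repr c
    rw [map_sub, sub_eq_zero] at hc
    exact sub_eq_zero.2 (toK0_eq_of_sheafFun_eq hd hF hG ((hf F hF).symm.trans (hc.trans (hf G hG))))

end Groth.Agent.H9ChowK
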