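import Groth.Agent.H9ChowK.TwistK
import Groth.Agent.CurveCohLib.Skyscraper
import Groth.Agent.CurveFinMap.DetAlg
import Groth.Agent.QsAlgLib.Point
import Groth.Agent.H23.C1Cycle
import Groth.Agent.H23.SetupLFT
import Groth.Agent.CycLib.CurveDeg
import Groth.Agent.FibDim.BaseField
import Groth.Agent.Lib.Euler
import Groth.Agent.PnVan.Pull

/-! The degree of an invertible module on a proper scheme of dimension at most one. -/

set_option autoImplicit false
set_option linter.unusedSectionVars false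
set_option linter.style.haveILetI false
set_option backward.isDefEq.respectTransparency false
set_option backward.isDefEq.respectTransparency.types false

universe u

open CategoryTheory CategoryTheory.Limits AlgebraicGeometry TopologicalSpace Opposite

namespace Groth.Agent.H9ChowK

open Groth.Agent

variable {k : Type u} [Field k] {X : Scheme.{u}} [X.Over (Spec (CommRingCat.of k))]

theorem finrank_stalk_eq (M : X.Modules) (x : X)
    (hl : Module.length (X.presheaf.stalk x) (M.presheaf.stalk x) ≠ ⊤) :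
    letI := CurveCohLib.stalkModuleK k M x
    (Module.finrank k (M.presheaf.stalk x) : ℤ) =
      ((Module.length (X.presheaf.stalk x) (M.presheaf.stalk x)).toNat : ℤ) *
        (X ↘ Spec (CommRingCat.of k)).residueDegree x := by
  letI : Algebra k (X.presheaf.stalk x) := (Curv2.stalkMap k X x).toAlgebra
  letI := CurveCohLib.stalkModuleK k M x
  haveI : IsScalarTower k (X.presheaf.stalk x) (M.presheaf.stalk x) :=
    IsScalarTower.of_algebraMap_smul fun _ _ => rfl
  have h := CurveFinMap.length_eq_mul k (R := X.presheaf.stalk x) (M := M.presheaf.stalk x)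
    (Module.length_ne_top_iff.1 hl)
  rw [Module.length_eq_rank, Module.length_eq_rank] at h
  have h' := congrArg ENat.toNat h
  rw [ENat.toNat_mul, Cardinal.toNat_toENat, Cardinal.toNat_toENat] at h'
  have hr : (X ↘ Spec (CommRingCat.of k)).residueDegree x =
      Module.finrank k (IsLocalRing.ResidueField (X.presheaf.stalk x)) :=
    WeilLib.residueDegree_eq_finrank (X ↘ Spec (CommRingCat.of k)) x
  rw [hr, ← Nat.cast_mul]
  exact congrArg Nat.cast h'

variable [IsProper (X ↘ Spec (CommRingCat.of k))] {δ : X → ℤ}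

theorem deg_eq_sum (hdim : topologicalKrullDim X ≤ 1)
    (hδ : Cyc.DeltaCompat (X ↘ Spec (CommRingCat.of k)) δ (fun _ => 0)) {L : X.Modules} (hL : PicF.IsInvertible L)
    (s : (ξ : X) → Cyc.secFibre L ξ) (hs : ∀ ξ, s ξ ≠ 0) :
    Curv2.deg k X L 1 = ∑ᶠ x : X, ((X ↘ Spec (CommRingCat.of k)).residueDegree x : ℤ) *
      Cyc.c1CapFun δ L (Cyc.subschemeFun δ 1 (𝟙 X)) s x := by
  classical
  set c := X ↘ Spec (CommRingCat.of k)
  haveI := CurveCohLib.isNoetherian' (k := k) (X := X)
  have hd : Cyc.IsDimFun X δ := (H23.SetupLFT.isSetup c (CycLib.isSetup_spec_field k) hδ).2.2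
  have hrd : ∀ x : X, δ x = FibDim.rd c x := fun x => by
    rw [CycLib.deltaCompat_eq c hδ, zero_add]
  haveI : Subsingleton ↥(Spec (CommRingCat.of k)) := FibDim.subsingleton_spec_field k
  have hle : ∀ x : X, δ x ≤ 1 := fun x => by
    have h := (Topology.IsInducing.subtypeVal (t := closure ({x} : Set X))).topologicalKrullDim_le.trans hdim
    rw [FibDim.topologicalKrullDim_closure c x] at h
    rw [hrd]
    exact_mod_cast h
  have hnn : ∀ x : X, 0 ≤ δ x := fun x => by rw [hrd]; exact Int.natCast_nonneg _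
  have hclosed : ∀ x : X, δ x = 0 → IsClosed ({x} : Set X) := fun x hx => by
    have h0 : topologicalKrullDim ↥(closure ({x} : Set X)) ≤ 0 := by
      rw [FibDim.topologicalKrullDim_closure c x]
      have : FibDim.rd c x = 0 := by exact_mod_cast (hrd x).symm.trans hx
      rw [this]
      rfl
    rw [← Euler.closure_eq_self_of_dim_le_zero isClosed_closure h0 (subset_closure rfl)]
    exact isClosed_closure
  set O := Coh.structureModule X
  have hO : Cyc.CohLe δ (0 + 1) O := ⟨QCoh.isCoh_structureModule', fun x _ => (hle x).trans (by omega)⟩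
  have hα : Cyc.sheafFun δ (0 + 1) O = Cyc.subschemeFun δ 1 (𝟙 X) := by
    funext x
    simp only [Cyc.sheafFun, Cyc.subschemeFun, zero_add]
    split_ifs with hx
    · rw [show {z : X | (𝟙 X : X ⟶ X) z = x} = {x} from by ext z; simp, finsum_mem_singleton,
        H23.ClosedPushLen.length_structureModule]
    · rfl
  obtain ⟨α, hαk, eα⟩ := exists_sheafCycle hd hO
  let γ := H23.RatSec.c1CapCycle hL hd α s hs
  have hγ : ⇑γ = Cyc.c1CapFun δ L (Cyc.sheafFun δ (0 + 1) O) s := by rw [← eα]; rfl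
  have hγk : γ ∈ Cyc.Zk X δ 0 := fun x hx => by
    rw [hγ, Cyc.c1CapFun]
    refine finsum_eq_zero_of_forall_eq_zero fun ξ => ?_
    by_cases h : δ ξ = 0 + 1
    · rw [Cyc.secDivFun, dif_neg fun h' => hx (by omega), mul_zero]
    · rw [Cyc.sheafFun, if_neg h, zero_mul]
  have hk : ∀ ζ, (⇑γ : X → ℤ) ζ ≠ 0 → δ ζ = 0 := fun ζ hζ => by_contra fun hn => hζ (hγk ζ hn)
  have hp := cohLe_cycleSheafPos hd (finPts_cycle γ) hk
  have hn : Cyc.CohLe δ 0 (Cyc.cycleSheafNeg ⇑γ) :=
    cohLe_cycleSheafPos hd (finPts_neg (finPts_cycle γ)) fun ζ hζ => hk ζ fun h => hζ (by rw [Pi.neg_apply, h, neg_zero])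
  obtain ⟨f, hf⟩ := KZ.exists_liftSub (Cyc.CohLe δ (0 + 1)) (Curv2.euler k X)
    fun S hS h₁ h₂ h₃ => CurveCohLib.euler_additive (k := k) hS h₁.1 h₂.1 h₃.1
  obtain ⟨χ, hχ⟩ : ∃ χ : Cyc.K0CohQuot δ (0 + 1) (0 - 1) →+ ℤ,
      ∀ F, Cyc.CohLe δ (0 + 1) F → χ (Cyc.toK0CohQuot δ (0 + 1) (0 - 1) F) = Curv2.euler k X F := by
    refine ⟨QuotientAddGroup.lift _ f ?_, fun F hF => hf F hF⟩
    rw [AddSubgroup.closure_le]
    rintro z ⟨F, hF, rfl⟩
    have he : CohB1.support F ⊆ ∅ := fun x hx => by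
      have := hF.2 x (not_subsingleton_iff_nontrivial.1 hx)
      have := hnn x
      omega
    rw [SetLike.mem_coe, AddMonoidHom.mem_ker, hf F (cohLe_mono (by omega) hF),
      (CurveCohLib.euler_eq_sum_stalks (k := k) hF.1 (fun x hx => absurd (he hx) (Set.notMem_empty x)) ∅
        (by simpa using he)).1]
    rfl
  have key := congrArg χ (twist_class hd hL hO s hs hγk hγ)
  rw [map_sub, map_sub, hχ _ (cohLe_tensor hL hO), hχ _ hO, hχ _ (cohLe_mono (by omega) hp),
    hχ _ (cohLe_mono (by omega) hn)] at key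
  obtain ⟨e⟩ := PnVan.tensor_one_iso L
  rw [Curv2.deg, Nat.cast_one, one_mul, ← CurveCohLib.euler_congr (k := k) e, key]
  have hfinγ : (Function.support (⇑γ : X → ℤ)).Finite := by
    simpa using (γ.locallyFiniteSupport.finite_inter_support_of_isCompact (W := (Set.univ : Set X)) isCompact_univ)
  let S := hfinγ.toFinset
  have hsum : ∀ (β : X → ℤ), FinPts β → (∀ ζ, β ζ ≠ 0 → δ ζ = 0) → (∀ ζ, β ζ ≠ 0 → ζ ∈ S) →
      Curv2.euler k X (Cyc.cycleSheafPos β) = ∑ x ∈ S, (c.residueDegree x : ℤ) * max (β x) 0 := fun β h1 h2 h3 => by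
    have hB := cohLe_cycleSheafPos hd h1 h2
    have hsupp : CohB1.support (Cyc.cycleSheafPos β) ⊆ (S : Set X) := fun x hx => by
      have h0 : δ x = 0 := le_antisymm (hB.2 x (not_subsingleton_iff_nontrivial.1 hx)) (hnn x)
      refine h3 x fun hz => hx ?_
      have := sheafFun_cycleSheafPos hd h1 h2 x
      rw [Cyc.sheafFun, if_pos h0, hz, max_self, ← ENat.natCast_toNat (length_ne_top hd hB h0)] at this
      rw [← Module.length_eq_zero_iff (R := X.presheaf.stalk x), ← ENat.natCast_toNat (length_ne_top hd hB h0)]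
      norm_cast at this ⊢
    rw [(CurveCohLib.euler_eq_sum_stalks (k := k) hB.1
      (fun x hx => hclosed x (le_antisymm (hB.2 x (not_subsingleton_iff_nontrivial.1 hx)) (hnn x))) S hsupp).1]
    refine Finset.sum_congr rfl fun x hx => ?_
    have h0 := hk x (hfinγ.mem_toFinset.1 hx)
    rw [finrank_stalk_eq _ x (length_ne_top hd hB h0), mul_comm, ← sheafFun_cycleSheafPos hd h1 h2 x, Cyc.sheafFun,
      if_pos h0]
  rw [hsum _ (finPts_cycle γ) hk fun ζ hζ => hfinγ.mem_toFinset.2 hζ,
    show Cyc.cycleSheafNeg ⇑γ = Cyc.cycleSheafPos (-⇑γ) from rfl,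
    hsum _ (finPts_neg (finPts_cycle γ)) (fun ζ hζ => hk ζ fun h => hζ (by rw [Pi.neg_apply, h, neg_zero]))
      (fun ζ hζ => hfinγ.mem_toFinset.2 fun h => hζ (by rw [Pi.neg_apply, h, neg_zero])),
    ← Finset.sum_sub_distrib, ← hα, ← hγ, finsum_eq_sum_of_support_subset (s := S) _
      fun x hx => hfinγ.mem_toFinset.2 (right_ne_zero_of_mul hx)]
  refine Finset.sum_congr rfl fun x _ => ?_
  rw [← mul_sub, Pi.neg_apply]
  congr 1
  omega

end Groth.Agent.H9ChowK
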