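import Groth.Prelude.Def_ChowK
import Groth.Agent.H9ChowK.SigmaCoh
import Groth.Agent.H23.ClosedPushLen
import Groth.Agent.H23.RedSub
import Groth.Agent.CycLib.Envelope

/-! The sheaves attached to a cycle. -/

set_option autoImplicit false
set_option linter.unusedSectionVars false
set_option linter.style.haveILetI false
set_option backward.isDefEq.respectTransparency false
set_option backward.isDefEq.respectTransparency.types false

universe u

open CategoryTheory CategoryTheory.Limits AlgebraicGeometry TopologicalSpace Opposite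

namespace Groth.Agent.H9ChowK

open Groth.Agent

variable {X : Scheme.{u}}

theorem isIntegral_ptIdeal (ζ : X) : IsIntegral (IntMult.ptIdeal ζ).subscheme :=
  QCoh.isIntegral_closure_point ζ

theorem range_ptIdeal (ζ : X) : Set.range (IntMult.ptIdeal ζ).subschemeι = closure {ζ} :=
  H23.RedSub.range_vanishingIdeal _

theorem genericPoint_ptIdeal (ζ : X) [IsIntegral (IntMult.ptIdeal ζ).subscheme] :
    (IntMult.ptIdeal ζ).subschemeι (genericPoint (IntMult.ptIdeal ζ).subscheme) = ζ := by
  have h := QCoh.range_eq_closure (IntMult.ptIdeal ζ).subschemeι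
  rw [range_ptIdeal] at h
  exact ((specializes_iff_mem_closure.2 (h ▸ subset_closure rfl :
      ζ ∈ closure {(IntMult.ptIdeal ζ).subschemeι (genericPoint _)})).antisymm
    (specializes_iff_mem_closure.2 (h.symm ▸ subset_closure rfl))).eq

theorem isQCoh_closure (ζ : X) : Coh.IsQCoh (Cyc.closureStructureSheaf ζ) :=
  QCoh.isQCoh_pushforward _ QCoh.isQCoh_structureModule

theorem isCoh_closure [IsLocallyNoetherian X] (ζ : X) : Coh.IsCoh (Cyc.closureStructureSheaf ζ) :=
  haveI := LocallyOfFiniteType.isLocallyNoetherian (IntMult.ptIdeal ζ).subschemeι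
  QCoh.isCoh_pushforward_finite _ QCoh.isCoh_structureModule'

theorem subsingleton_closure_of_notMem {ζ : X} {U : X.Opens} (h : ζ ∉ U) :
    Subsingleton Γ(Cyc.closureStructureSheaf ζ, U) := by
  have he : (IntMult.ptIdeal ζ).subschemeι ⁻¹ᵁ U = ⊥ := by
    refine Opens.ext (Set.eq_empty_iff_forall_notMem.2 fun z hz => h ?_)
    exact (specializes_iff_mem_closure.2 ((range_ptIdeal ζ).subset ⟨z, rfl⟩)).mem_open U.2 hz
  show Subsingleton Γ((IntMult.ptIdeal ζ).subscheme, (IntMult.ptIdeal ζ).subschemeι ⁻¹ᵁ U)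
  rw [he]
  infer_instance

theorem support_closure_subset (ζ : X) : CohB1.support (Cyc.closureStructureSheaf ζ) ⊆ closure {ζ} :=
  (QCoh.support_push_subset _ QCoh.isQCoh_structureModule).trans (range_ptIdeal ζ).subset

theorem length_closure_self (ζ : X) :
    Module.length (X.presheaf.stalk ζ) ((Cyc.closureStructureSheaf ζ).presheaf.stalk ζ) = 1 := by
  haveI := isIntegral_ptIdeal ζ
  set i := (IntMult.ptIdeal ζ).subschemeι
  have h := H23.ClosedPushLen.length_stalk i (Coh.structureModule _)
    (genericPoint (IntMult.ptIdeal ζ).subscheme)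
  rw [H23.ClosedPushLen.length_structureModule] at h
  letI : Field ((IntMult.ptIdeal ζ).subscheme.presheaf.stalk (genericPoint (IntMult.ptIdeal ζ).subscheme)) :=
    inferInstanceAs (Field (IntMult.ptIdeal ζ).subscheme.functionField)
  rw [Module.length_eq_one ((IntMult.ptIdeal ζ).subscheme.presheaf.stalk
    (genericPoint (IntMult.ptIdeal ζ).subscheme))] at h
  have e := genericPoint_ptIdeal ζ
  exact (show ∀ y, i (genericPoint _) = y → Module.length (X.presheaf.stalk y)
    (((Coh.push i).obj (Coh.structureModule _)).presheaf.stalk y) = 1 from fun y hy => hy ▸ h) ζ e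

theorem delta_le_of_mem_support_closure {δ : X → ℤ} (hd : Cyc.IsDimFun X δ) {ζ x : X}
    (hx : x ∈ CohB1.support (Cyc.closureStructureSheaf ζ)) : δ x ≤ δ ζ ∧ (δ x = δ ζ → x = ζ) := by
  have hs := specializes_iff_mem_closure.2 (support_closure_subset ζ hx)
  rcases eq_or_ne ζ x with rfl | hne
  · exact ⟨le_rfl, fun _ => rfl⟩
  · exact ⟨(hd ζ x hs hne).1.le, fun he => absurd he (hd ζ x hs hne).1.ne⟩

/-- The index of the summands of `cycleSheafPos`. -/
abbrev CIdx (α : X → ℤ) : Type u := Σ ζ : {ζ : X // 0 < α ζ}, Fin (α ζ.1).toNat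

/-- Finitely many points on each affine. -/
def FinPts (α : X → ℤ) : Prop := ∀ U : X.affineOpens, ((U.1 : Set X) ∩ Function.support α).Finite

theorem finPts_cycle (α : AlgebraicCycle X ℤ) : FinPts ⇑α := fun U =>
  CycLib.finite_support_inter_affine α U.2

theorem finPts_neg {α : X → ℤ} (h : FinPts α) : FinPts (-α) := fun U => by rw [Function.support_neg]; exact h U

theorem finite_cidx {α : X → ℤ} (h : FinPts α) (U : X.affineOpens) : {i : CIdx α | i.1.1 ∈ U.1}.Finite := by
  have h1 : {ζ : {ζ : X // 0 < α ζ} | ζ.1 ∈ U.1}.Finite :=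
    ((h U).preimage Subtype.val_injective.injOn).subset fun ζ hζ => ⟨hζ, ζ.2.ne'⟩
  exact (h1.biUnion fun ζ _ => Set.finite_range fun a : Fin (α ζ.1).toNat => (⟨ζ, a⟩ : CIdx α)).subset
    fun i hi => Set.mem_biUnion (x := i.1) hi ⟨i.2, rfl⟩

theorem locFin_closure {α : X → ℤ} (h : FinPts α) :
    LocFin fun i : CIdx α => Cyc.closureStructureSheaf i.1.1 := fun U =>
  (finite_cidx h U).subset fun _ hi => by_contra fun hn => hi (subsingleton_closure_of_notMem hn)

theorem cohLe_cycleSheafPos [IsLocallyNoetherian X] {δ : X → ℤ} (hd : Cyc.IsDimFun X δ) {k : ℤ} {α : X → ℤ}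
    (h : FinPts α) (hk : ∀ ζ, α ζ ≠ 0 → δ ζ = k) : Cyc.CohLe δ k (Cyc.cycleSheafPos α) := by
  refine ⟨isCoh_sigma _ (fun i => isCoh_closure _) (locFin_closure h), fun x hx => ?_⟩
  obtain ⟨i, hi⟩ := exists_summand_of_mem_support _ (fun i => isQCoh_closure _) (locFin_closure h)
    (show x ∈ CohB1.support (Cyc.cycleSheafPos α) from not_subsingleton_iff_nontrivial.2 hx)
  exact (delta_le_of_mem_support_closure hd hi).1.trans (hk _ i.1.2.ne').le

theorem sheafFun_cycleSheafPos [IsLocallyNoetherian X] {δ : X → ℤ} (hd : Cyc.IsDimFun X δ) {k : ℤ} {α : X → ℤ}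
    (h : FinPts α) (hk : ∀ ζ, α ζ ≠ 0 → δ ζ = k) (x : X) :
    Cyc.sheafFun δ k (Cyc.cycleSheafPos α) x = max (α x) 0 := by
  classical
  rw [Cyc.sheafFun]
  split_ifs with hx
  · obtain ⟨U, hU, hxU⟩ := QCoh.exists_affine_mem x
    rw [show Cyc.cycleSheafPos α = ∐ fun i : CIdx α => Cyc.closureStructureSheaf i.1.1 from rfl,
      length_stalk_sigma _ (fun i => isQCoh_closure _) hU hxU (finite_cidx h ⟨U, hU⟩).toFinset
        fun i hi => subsingleton_closure_of_notMem fun hm => hi ((finite_cidx h ⟨U, hU⟩).mem_toFinset.2 hm)]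
    have hterm : ∀ i : CIdx α, Module.length (X.presheaf.stalk x)
        ((Cyc.closureStructureSheaf i.1.1).presheaf.stalk x) = if i.1.1 = x then 1 else 0 := fun i => by
      split_ifs with he
      · subst he; exact length_closure_self _
      · refine Module.length_eq_zero_iff.2 (not_not.1 fun hn => he ?_)
        exact ((delta_le_of_mem_support_closure hd hn).2 (hx.trans (hk _ i.1.2.ne').symm)).symm
    rw [Finset.sum_congr rfl fun i _ => hterm i, Finset.sum_boole]
    show (((Finset.filter _ _).card : ℕ∞).toNat : ℤ) = _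
    rw [ENat.toNat_natCast]
    rcases le_or_gt (α x) 0 with h0 | h0
    · rw [max_eq_right h0, Nat.cast_eq_zero, Finset.card_eq_zero, Finset.filter_eq_empty_iff]
      intro i _ he
      exact absurd (he ▸ i.1.2) (not_lt.2 h0)
    · rw [max_eq_left h0.le]
      have : ((finite_cidx h ⟨U, hU⟩).toFinset.filter fun i : CIdx α => i.1.1 = x) =
          Finset.univ.map ⟨fun a : Fin (α x).toNat => (⟨⟨x, h0⟩, a⟩ : CIdx α), fun a b e => by simpa using e⟩ := by
        ext ⟨⟨ζ, hζ⟩, a⟩
        simp only [Finset.mem_filter, Set.Finite.mem_toFinset, Finset.mem_map, Finset.mem_univ, true_and]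
        constructor
        · rintro ⟨-, rfl⟩
          exact ⟨a, rfl⟩
        · rintro ⟨b, hb⟩
          have := congrArg (fun i : CIdx α => i.1.1) hb
          exact ⟨(show x = ζ from this) ▸ hxU, (show x = ζ from this).symm⟩
      rw [this, Finset.card_map, Finset.card_univ, Fintype.card_fin, Int.toNat_of_nonneg h0.le]
  · rw [max_eq_right]
    by_contra hc
    exact hx (hk x (by omega))

theorem cycle_eq_sub [IsLocallyNoetherian X] {δ : X → ℤ} (hd : Cyc.IsDimFun X δ) {k : ℤ} {α : X → ℤ}
    (h : FinPts α) (hk : ∀ ζ, α ζ ≠ 0 → δ ζ = k) :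
    Cyc.sheafFun δ k (Cyc.cycleSheafPos α) - Cyc.sheafFun δ k (Cyc.cycleSheafNeg α) = α := by
  funext x
  rw [Pi.sub_apply, Cyc.cycleSheafNeg, sheafFun_cycleSheafPos hd h hk,
    sheafFun_cycleSheafPos hd (finPts_neg h) (fun ζ hζ => hk ζ (by simpa using hζ)), Pi.neg_apply]
  omega

end Groth.Agent.H9ChowK
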