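import Groth.Agent.CycLib.EulerDim1
import Groth.Agent.CycLib.Ratio

/-! Lengths in a cyclic module. -/

set_option autoImplicit false
set_option linter.unusedSectionVars false

universe u

namespace Groth.Agent.H9ChowK

open Groth.Agent.CycLib.Ratio (ordQ)

variable {R P : Type u} [CommRing R] [AddCommGroup P] [Module R P]

theorem length_quot_span [IsNoetherianRing R] [IsLocalRing R] {e : P} (he : Submodule.span R {e} = ⊤) {q : PrimeSpectrum R}
    (hker : ∀ r : R, r • e = 0 ↔ r ∈ q.asIdeal) (a : R) :
    Module.length R (P ⧸ Submodule.span R {a • e}) = ordQ q a := by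
  let g := (Submodule.span R {a • e}).mkQ ∘ₗ LinearMap.toSpanSingleton R P e
  have hsurj : Function.Surjective g := fun z => by
    obtain ⟨p, rfl⟩ := Submodule.mkQ_surjective _ z
    obtain ⟨r, rfl⟩ := Submodule.mem_span_singleton.1 (he.ge (Submodule.mem_top : p ∈ ⊤))
    exact ⟨r, rfl⟩
  have hk : LinearMap.ker g = q.asIdeal ⊔ Ideal.span {a} := by
    ext r
    show Submodule.Quotient.mk _ = 0 ↔ _
    rw [Submodule.Quotient.mk_eq_zero]
    show r • e ∈ Submodule.span R {a • e} ↔ _
    rw [Submodule.mem_span_singleton, Submodule.mem_sup]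
    constructor
    · rintro ⟨t, ht⟩
      refine ⟨r - t * a, (hker _).1 ?_, t * a, Ideal.mem_span_singleton'.2 ⟨t, rfl⟩, sub_add_cancel _ _⟩
      rw [sub_smul, mul_smul, ht, sub_self]
    · rintro ⟨w, hw, z, hz, rfl⟩
      obtain ⟨t, rfl⟩ := Ideal.mem_span_singleton'.1 hz
      exact ⟨t, by rw [add_smul, (hker w).2 hw, zero_add, mul_smul]⟩
  rw [ordQ, Groth.Agent.CycLib.ord_eq_length]
  exact ((Submodule.quotEquivOfEq _ _ hk.symm).trans (g.quotKerEquivOfSurjective hsurj)).length_eq.symm

theorem length_quot_of_le {D S : Submodule R P} (h : S ≤ D) :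
    Module.length R (P ⧸ S) = Module.length R (D ⧸ S.comap D.subtype) + Module.length R (P ⧸ D) := by
  refine Module.length_eq_add_of_exact (Submodule.mapQ _ S D.subtype le_rfl) (Submodule.factor h) ?_
    (Submodule.factor_surjective h) ?_
  · refine (injective_iff_map_eq_zero _).2 fun x hx => ?_
    obtain ⟨d, rfl⟩ := Submodule.mkQ_surjective _ x
    rw [Submodule.mkQ_apply, Submodule.mapQ_apply, Submodule.Quotient.mk_eq_zero] at hx
    exact (Submodule.Quotient.mk_eq_zero _).2 hx
  · intro y
    obtain ⟨p, rfl⟩ := Submodule.mkQ_surjective _ y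
    constructor
    · intro hp
      have hp' : p ∈ D := (Submodule.Quotient.mk_eq_zero D).1 hp
      exact ⟨Submodule.Quotient.mk ⟨p, hp'⟩, rfl⟩
    · rintro ⟨z, hz⟩
      obtain ⟨d, rfl⟩ := Submodule.mkQ_surjective _ z
      rw [← hz]
      exact (Submodule.Quotient.mk_eq_zero D).2 d.2

theorem comap_span_singleton (D : Submodule R P) {x : P} (hx : x ∈ D) :
    (Submodule.span R {x}).comap D.subtype = Submodule.span R {(⟨x, hx⟩ : D)} := by
  ext y
  rw [Submodule.mem_comap, Submodule.mem_span_singleton, Submodule.mem_span_singleton]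
  exact exists_congr fun t => ⟨fun h => Subtype.ext h, fun h => congrArg Subtype.val h⟩

theorem length_pair (D D' : Submodule R P) (g : D ≃ₗ[R] D') {u w : P} (hu : u ∈ D) (hw : w ∈ D')
    (hg : g ⟨u, hu⟩ = ⟨w, hw⟩) :
    Module.length R (P ⧸ D') + Module.length R (P ⧸ Submodule.span R {u}) =
      Module.length R (P ⧸ D) + Module.length R (P ⧸ Submodule.span R {w}) := by
  rw [length_quot_of_le ((Submodule.span_singleton_le_iff_mem _ _).2 hu),
    length_quot_of_le ((Submodule.span_singleton_le_iff_mem _ _).2 hw), comap_span_singleton D hu,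
    comap_span_singleton D' hw]
  have e : Module.length R (D ⧸ Submodule.span R {(⟨u, hu⟩ : D)}) =
      Module.length R (D' ⧸ Submodule.span R {(⟨w, hw⟩ : D')}) := by
    refine (Submodule.Quotient.equiv _ _ g ?_).length_eq
    rw [Submodule.map_span, Set.image_singleton]
    exact congrArg (fun z => Submodule.span R {z}) hg
  rw [e, add_left_comm, add_comm (Module.length R (P ⧸ D'))]
  abel

end Groth.Agent.H9ChowK
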