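import Groth.Agent.H9ChowK.ClosureStalk
import Groth.Agent.H9ChowK.CyclicOrd
import Groth.Agent.H9ChowK.Compare

/-! A principal divisor as a difference of cycles of coherent modules with equal classes. -/

set_option autoImplicit false
set_option linter.unusedSectionVars false
set_option linter.style.haveILetI false
set_option backward.isDefEq.respectTransparency false
set_option backward.isDefEq.respectTransparency.types false

universe u

open CategoryTheory CategoryTheory.Limits AlgebraicGeometry TopologicalSpace Opposite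

namespace Groth.Agent.H9ChowK

open Groth.Agent

attribute [local instance] Abelian.hasFiniteBiproducts

variable {X : Scheme.{u}} [IsLocallyNoetherian X] {δ : X → ℤ} {k : ℤ}

theorem length_coker_stalk {A B : X.Modules} (p : A ⟶ B) [Mono p] (hA : Coh.IsQCoh A) (hB : Coh.IsQCoh B) (x : X) :
    Module.length (X.presheaf.stalk x) ((cokernel p).presheaf.stalk x) =
      Module.length (X.presheaf.stalk x) (B.presheaf.stalk x ⧸ LinearMap.range (CycLib.stalkLin p x)) := by
  obtain ⟨-, h2, h3⟩ := CycLib.stalk_shortExact (KZ.shortExact_of_mono p) hA hB (QCoh.isQCoh_cokernel hA hB p) x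
  exact ((Submodule.quotEquivOfEq _ _ (LinearMap.exact_iff.1 h2).symm).trans
    (LinearMap.quotKerEquivOfSurjective _ h3)).length_eq.symm

theorem mono_of_app_injective_affine {A B : X.Modules} (hA : Coh.IsQCoh A) (hB : Coh.IsQCoh B) (p : A ⟶ B)
    (h : ∀ (U : X.Opens), IsAffineOpen U → ∀ s : Γ(A, U), p.app U s = 0 → s = 0) : Mono p := by
  refine Preadditive.mono_of_kernel_zero (IsZero.eq_of_src ?_ _ _)
  refine QCoh.isZero_of_cover (QCoh.isQCoh_kernel hA hB p) (fun U : X.affineOpens => U.1) (fun U => U.2)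
    (fun x => let ⟨U, hU, hx⟩ := QCoh.exists_affine_mem x; ⟨⟨U, hU⟩, hx⟩)
    fun U => subsingleton_of_forall_eq 0 fun s => ?_
  refine QCoh.app_injective (kernel.ι p) U.1 ?_
  rw [map_zero]
  exact h U.1 U.2 _ congr(($(kernel.condition p)).app U.1 s)

theorem exists_div_pair (hd : Cyc.IsDimFun X δ) {ξ : X} (hξ : δ ξ = k + 1) {f : X.residueField ξ} (hf : f ≠ 0) :
    ∃ (K : X.Modules) (p q : K ⟶ Cyc.closureStructureSheaf ξ), Mono p ∧ Mono q ∧ Cyc.CohLe δ (k + 1) K ∧
      Cyc.CohLe δ k (cokernel p) ∧ Cyc.CohLe δ k (cokernel q) ∧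
      ∀ x, Cyc.sheafFun δ k (cokernel q) x - Cyc.sheafFun δ k (cokernel p) x = Cyc.divFun δ ξ f x := by
  classical
  set O := Cyc.closureStructureSheaf ξ
  obtain ⟨φ, hφ⟩ := Ideal.Quotient.mk_surjective f
  have hu : IsUnit φ := IsLocalRing.notMem_maximalIdeal.1 fun h => hf (hφ ▸ Ideal.Quotient.eq_zero_iff_mem.2 h)
  have hO : Cyc.CohLe δ (k + 1) O := ⟨isCoh_closure ξ, fun z hz =>
    (delta_le_of_mem_support_closure hd (not_subsingleton_iff_nontrivial.2 hz)).1.trans hξ.le⟩
  have hP := cohLe_biprod hO hO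
  let E : ∀ η, Submodule (X.presheaf.stalk η) ((O ⊞ O).presheaf.stalk η) := fun η =>
    if h : η = ξ then LinearMap.eqLocus ((h ▸ φ : X.presheaf.stalk η) • CycLib.stalkLin biprod.fst η)
      (CycLib.stalkLin biprod.snd η) else ⊤
  set N := gSub (O ⊞ O) {ξ} E
  have hfin : FinSet ({ξ} : Set X) := fun U => (Set.finite_singleton ξ).inter_of_right _
  have hq : Coh.IsQCoh N.toModules := isQCoh_gSub hP.1.1 hfin fun η hη => by
    obtain rfl : η = ξ := hη
    exact length_ne_top hd hP hξ
  have hK : Cyc.CohLe δ (k + 1) N.toModules := cohLe_of_mono N.ι hq hP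
  have hE : E ξ = LinearMap.eqLocus (φ • CycLib.stalkLin (biprod.fst : O ⊞ O ⟶ O) ξ)
      (CycLib.stalkLin biprod.snd ξ) := dif_pos rfl
  set p := N.ι ≫ biprod.fst
  set q := N.ι ≫ biprod.snd
  have hrel : ∀ t, CycLib.stalkLin q ξ t = φ • CycLib.stalkLin p ξ t := fun t => by
    have h := (range_stalk_gSub hfin (fun a ha b hb _ => hb.trans ha.symm) (Set.mem_singleton ξ) (E := E)).le ⟨t, rfl⟩
    rw [hE] at h
    rw [stalkLin_comp, stalkLin_comp]
    exact (LinearMap.mem_eqLocus.1 h).symm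
  have hgerm : ∀ (U : X.Opens) (s : Γ(N.toModules, U)) (h : ξ ∈ U),
      O.presheaf.germ U ξ h (q.app U s) = φ • O.presheaf.germ U ξ h (p.app U s) := fun U s h => by
    rw [← CycLib.stalkAdd_germ q ξ h s, ← CycLib.stalkAdd_germ p ξ h s]
    exact hrel _
  have hzero : ∀ (U : X.Opens) (s : Γ(N.toModules, U)), p.app U s = 0 → q.app U s = 0 → s = 0 :=
    fun U s h1 h2 => by
      refine N.ι_app_injective U (?_ : N.ι.app U s = N.ι.app U 0)
      rw [map_zero]
      have e := congr(($(biprod.total (X := O) (Y := O))).app U (N.ι.app U s))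
      refine e.symm.trans ?_
      show (biprod.inl : O ⟶ O ⊞ O).app U (p.app U s) + (biprod.inr : O ⟶ O ⊞ O).app U (q.app U s) = 0
      rw [h1, h2, map_zero, map_zero, add_zero]
  haveI hp : Mono p := mono_of_app_injective_affine hq hO.1.1 p fun U hU s hs => hzero U s hs
    (eq_zero_of_germ_eq_zero ξ hU _ fun h => by rw [hgerm U s h, hs, map_zero, smul_zero])
  haveI hq' : Mono q := mono_of_app_injective_affine hq hO.1.1 q fun U hU s hs => hzero U s
    (eq_zero_of_germ_eq_zero ξ hU _ fun h => (hu.smul_eq_zero).1 (by rw [← hgerm U s h, hs, map_zero])) hs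
  have hbij : Function.Bijective (CycLib.stalkLin p ξ) ∧ Function.Bijective (CycLib.stalkLin q ξ) := by
    have hi := (CycLib.stalk_shortExact (KZ.shortExact_of_mono p) hq hO.1.1
      (QCoh.isQCoh_cokernel hq hO.1.1 p) ξ).1
    have hs : Function.Surjective (CycLib.stalkLin p ξ) := fun a => by
      obtain ⟨s, hs⟩ : CycLib.stalkLin (biprod.inl : O ⟶ O ⊞ O) ξ a +
          CycLib.stalkLin (biprod.inr : O ⟶ O ⊞ O) ξ (φ • a) ∈ LinearMap.range (CycLib.stalkLin N.ι ξ) := by
        rw [range_stalk_gSub hfin (fun a ha b hb _ => hb.trans ha.symm) (Set.mem_singleton ξ) (E := E), hE,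
          LinearMap.mem_eqLocus, LinearMap.smul_apply, map_add, map_add, ← stalkLin_comp, ← stalkLin_comp,
          ← stalkLin_comp, ← stalkLin_comp, biprod.inl_fst, biprod.inr_fst, biprod.inl_snd, biprod.inr_snd,
          stalkLin_id, stalkLin_zero, stalkLin_zero, stalkLin_id, add_zero, zero_add]
      refine ⟨s, ?_⟩
      rw [stalkLin_comp, hs, map_add, ← stalkLin_comp, ← stalkLin_comp, biprod.inl_fst, biprod.inr_fst,
        stalkLin_id, stalkLin_zero, add_zero]
    refine ⟨⟨hi, hs⟩, ?_⟩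
    rw [show ⇑(CycLib.stalkLin q ξ) = (fun a => φ • a) ∘ CycLib.stalkLin p ξ from funext hrel]
    exact hu.smul_bijective.comp ⟨hi, hs⟩
  have hcok : ∀ (r : N.toModules ⟶ O) [Mono r], Function.Bijective (CycLib.stalkLin r ξ) →
      Cyc.CohLe δ k (cokernel r) := fun r _ hr => by
    have h1 := cohLe_of_epi (cokernel.π r) (QCoh.isQCoh_cokernel hq hO.1.1 r) hO
    have h2 := cohLe_pred h1 fun η hη => by
      by_cases he : η = ξ
      · subst he
        rw [← Module.length_eq_zero_iff (R := X.presheaf.stalk η), length_coker_stalk r hq hO.1.1 η,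
          LinearMap.range_eq_top.2 hr.2, Module.length_eq_zero_iff]
        exact Submodule.Quotient.subsingleton_iff.2 rfl
      · haveI : Subsingleton (O.presheaf.stalk η) :=
          not_not.1 fun hn => he ((delta_le_of_mem_support_closure hd hn).2 (hη.trans hξ.symm))
        obtain ⟨-, -, h3⟩ := CycLib.stalk_shortExact (KZ.shortExact_of_mono r) hq hO.1.1 h1.1.1 η
        exact h3.subsingleton
    simpa using h2
  have hCp := hcok p hbij.1
  have hCq := hcok q hbij.2
  refine ⟨N.toModules, p, q, hp, hq', hK, hCp, hCq, fun x => ?_⟩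
  rw [Cyc.sheafFun, Cyc.sheafFun]
  by_cases hx : δ x = k
  swap
  · rw [if_neg hx, if_neg hx, Cyc.divFun, dif_neg fun h => hx (by omega), sub_zero]
  rw [if_pos hx, if_pos hx]
  by_cases hsp : ξ ⤳ x
  swap
  · haveI : Subsingleton (O.presheaf.stalk x) :=
      not_not.1 fun hn => hsp (specializes_iff_mem_closure.2 (support_closure_subset ξ hn))
    rw [Cyc.divFun, dif_neg fun h => hsp h.1, length_coker_stalk p hq hO.1.1, length_coker_stalk q hq hO.1.1,
      Module.length_eq_zero_iff.2 inferInstance, Module.length_eq_zero_iff.2 inferInstance, sub_self]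
  have hxξ : δ x + 1 = δ ξ := by omega
  rw [Cyc.divFun, dif_pos ⟨hsp, hxξ⟩]
  have hdim := hxξ
  letI := specAlg hsp
  haveI := H23.StalkPrimes.isLocalization_primeOf hsp
  obtain ⟨⟨a, b⟩, hab⟩ := IsLocalization.surj (CDiv6.primeOf hsp).asIdeal.primeCompl φ
  replace hab : φ * (X.presheaf.stalkSpecializes hsp).hom b.1 = (X.presheaf.stalkSpecializes hsp).hom a := hab
  have hb : b.1 ∉ (CDiv6.primeOf hsp).asIdeal := b.2
  have ha : a ∉ (CDiv6.primeOf hsp).asIdeal := by
    rw [CDiv6.mem_primeOf, not_not] at hb ⊢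
    exact hab ▸ hu.mul hb
  have hord : Cyc.ordAt x ξ hsp f = ((CycLib.Ratio.ordQ (CDiv6.primeOf hsp) a).toNat : ℤ) -
      ((CycLib.Ratio.ordQ (CDiv6.primeOf hsp) b.1).toNat : ℤ) := by
    have e : f * Cyc.specMap x ξ hsp b.1 = Cyc.specMap x ξ hsp a := by
      rw [← hφ]
      exact ((map_mul (X.residue ξ).hom φ _).symm.trans (congrArg (X.residue ξ).hom hab))
    have hb0 : Cyc.specMap x ξ hsp b.1 ≠ 0 := fun h0 =>
      hb ((CycLib.ker_specMap hsp).le (show b.1 ∈ RingHom.ker (Cyc.specMap x ξ hsp) from h0))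
    rw [eq_sub_iff_add_eq, ← ordAt_residue hd hsp hdim hb, ← ordAt_residue hd hsp hdim ha, ← e,
      CycLib.ordAt_mul hd hsp hdim hf hb0]
  obtain ⟨s, hs⟩ : ∃ s, CycLib.stalkLin N.ι x s =
      CycLib.stalkLin (biprod.inl : O ⟶ O ⊞ O) x (b.1 • oneGerm ξ x) +
        CycLib.stalkLin (biprod.inr : O ⟶ O ⊞ O) x (a • oneGerm ξ x) := by
    set t := CycLib.stalkLin (biprod.inl : O ⟶ O ⊞ O) x (b.1 • oneGerm ξ x) +
      CycLib.stalkLin (biprod.inr : O ⟶ O ⊞ O) x (a • oneGerm ξ x) with ht
    obtain ⟨V, hV, hxV, m, hm⟩ := CycLib.exists_germ_affine _ t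
    have hmem : m ∈ N.mem V := fun η h hη => by
      obtain rfl : η = ξ := hη
      rw [← spec_germ _ hsp hxV m, hm, hE, LinearMap.mem_eqLocus]
      letI := specMod (O ⊞ O) hsp
      letI := specMod O hsp
      show φ • CycLib.stalkLin biprod.fst η (specLin (O ⊞ O) hsp t) =
        CycLib.stalkLin biprod.snd η (specLin (O ⊞ O) hsp t)
      have e1 : CycLib.stalkLin biprod.fst x t = b.1 • oneGerm η x := by
        rw [ht, map_add, ← stalkLin_comp, ← stalkLin_comp, biprod.inl_fst, biprod.inr_fst, stalkLin_id,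
          stalkLin_zero, add_zero]
      have e2 : CycLib.stalkLin biprod.snd x t = a • oneGerm η x := by
        rw [ht, map_add, ← stalkLin_comp, ← stalkLin_comp, biprod.inl_snd, biprod.inr_snd, stalkLin_id,
          stalkLin_zero, zero_add]
      rw [← specLin_natural, ← specLin_natural, e1, e2, spec_smul_oneGerm, spec_smul_oneGerm, ← mul_smul, hab]
    obtain ⟨n, hn⟩ := N.exists_app_eq hmem
    exact ⟨N.toModules.presheaf.germ V x hxV n, (CycLib.stalkAdd_germ _ x hxV n).trans (by rw [hn, hm])⟩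
  have hps : CycLib.stalkLin p x s = b.1 • oneGerm ξ x := by
    rw [stalkLin_comp, hs, map_add, ← stalkLin_comp, ← stalkLin_comp, biprod.inl_fst, biprod.inr_fst,
      stalkLin_id, stalkLin_zero, add_zero]
  have hqs : CycLib.stalkLin q x s = a • oneGerm ξ x := by
    rw [stalkLin_comp, hs, map_add, ← stalkLin_comp, ← stalkLin_comp, biprod.inl_snd, biprod.inr_snd,
      stalkLin_id, stalkLin_zero, zero_add]
  have ip := (CycLib.stalk_shortExact (KZ.shortExact_of_mono p) hq hO.1.1 hCp.1.1 x).1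
  have iq := (CycLib.stalk_shortExact (KZ.shortExact_of_mono q) hq hO.1.1 hCq.1.1 x).1
  have key := length_pair (LinearMap.range (CycLib.stalkLin p x)) (LinearMap.range (CycLib.stalkLin q x))
    ((LinearEquiv.ofInjective _ ip).symm.trans (LinearEquiv.ofInjective _ iq)) (u := b.1 • oneGerm ξ x)
    (w := a • oneGerm ξ x) ⟨s, hps⟩ ⟨s, hqs⟩ (by
      refine Subtype.ext ?_
      rw [LinearEquiv.trans_apply, show (LinearEquiv.ofInjective _ ip).symm ⟨b.1 • oneGerm ξ x, ⟨s, hps⟩⟩ = s from
        (LinearEquiv.symm_apply_eq _).2 (Subtype.ext hps.symm)]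
      exact hqs)
  rw [length_quot_span (span_oneGerm ξ x) (smul_oneGerm_eq_zero ξ hsp),
    length_quot_span (span_oneGerm ξ x) (smul_oneGerm_eq_zero ξ hsp), ← length_coker_stalk p hq hO.1.1,
    ← length_coker_stalk q hq hO.1.1] at key
  have f1 := length_ne_top hd hCp hx
  have f2 := length_ne_top hd hCq hx
  have f3 := ord_ne_top hd hsp hdim ha
  have f4 := ord_ne_top hd hsp hdim hb
  rw [← ENat.natCast_toNat f1, ← ENat.natCast_toNat f2, ← ENat.natCast_toNat f3, ← ENat.natCast_toNat f4] at key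
  norm_cast at key
  rw [hord]
  omega

end Groth.Agent.H9ChowK
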