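import Groth.Agent.H9ChowK.Additive
import Groth.Agent.H9ChowK.Stalks
import Groth.Agent.H23.RatOn
import Groth.Prelude.Def_ChowK

/-! The invariant of a coherent module with framed generic stalks, as a function on points. -/

set_option autoImplicit false
set_option linter.unusedSectionVars false
set_option linter.style.haveILetI false
set_option backward.isDefEq.respectTransparency false
set_option backward.isDefEq.respectTransparency.types false

universe u

open AlgebraicGeometry CategoryTheory TopologicalSpace Opposite IsLocalRing CycDet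

namespace Groth.Agent.H9ChowK

open Groth.Agent

variable {X : Scheme.{u}}

/-- Strict admissible tuples in the stalks of dimension `k + 1`. -/
structure Frame (δ : X → ℤ) (k : ℤ) (F : X.Modules) where
  n : X → ℕ
  E : ∀ ξ : X, Fin (n ξ) → F.presheaf.stalk ξ
  len : ∀ ξ, δ ξ = k + 1 → Module.length (X.presheaf.stalk ξ) (F.presheaf.stalk ξ) = n ξ
  adm : ∀ ξ, δ ξ = k + 1 → IsAdmissible (X.presheaf.stalk ξ) (F.presheaf.stalk ξ) (E ξ)
  strict : ∀ ξ, δ ξ = k + 1 → CycLib.Strict (X.presheaf.stalk ξ) (E ξ)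

variable [IsLocallyNoetherian X] {δ : X → ℤ} {k : ℤ}

theorem length_ne_top (hd : Cyc.IsDimFun X δ) {F : X.Modules} (hF : Cyc.CohLe δ k F) {ξ : X} (hξ : δ ξ = k) :
    Module.length (X.presheaf.stalk ξ) (F.presheaf.stalk ξ) ≠ ⊤ :=
  (CycLib.length_stalk_lt_top F hF.1 fun y hy hyξ =>
    CycLib.eq_of_delta_le hd hyξ ((hF.2 y hy).trans hξ.ge)).ne

theorem nonempty_frame (hd : Cyc.IsDimFun X δ) {F : X.Modules} (hF : Cyc.CohLe δ (k + 1) F) :
    Nonempty (Frame δ k F) := by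
  classical
  have h : ∀ ξ : X, ∃ (n : ℕ) (E : Fin n → F.presheaf.stalk ξ), δ ξ = k + 1 →
      Module.length (X.presheaf.stalk ξ) (F.presheaf.stalk ξ) = n ∧
      IsAdmissible (X.presheaf.stalk ξ) (F.presheaf.stalk ξ) E ∧ CycLib.Strict (X.presheaf.stalk ξ) E := fun ξ => by
    by_cases hξ : δ ξ = k + 1
    · have hl := (ENat.natCast_toNat (length_ne_top hd hF hξ)).symm
      obtain ⟨e, he⟩ := CycLib.exists_strict _ (F.presheaf.stalk ξ) hl
      exact ⟨_, e.1, fun _ => ⟨hl, e.2, he⟩⟩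
    · exact ⟨0, Fin.elim0, fun h => absurd h hξ⟩
  choose n E hE using h
  exact ⟨⟨n, E, fun ξ h => (hE ξ h).1, fun ξ h => (hE ξ h).2.1, fun ξ h => (hE ξ h).2.2⟩⟩

/-- Generalizations of dimension `k + 1` in a given set. -/
abbrev Idx (δ : X → ℤ) (k : ℤ) (T : Set X) (x : X) : Type u := {ξ : X // ξ ⤳ x ∧ δ ξ = k + 1 ∧ ξ ∈ T}

variable {T : Set X} {x : X}

noncomputable instance algebraIdx (i : Idx δ k T x) : Algebra (X.presheaf.stalk x) (X.presheaf.stalk i.1) :=
  specAlg i.2.1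

noncomputable instance moduleIdx (F : X.Modules) (i : Idx δ k T x) :
    Module (X.presheaf.stalk x) (F.presheaf.stalk i.1) := specMod F i.2.1

instance scalarTowerIdx (F : X.Modules) (i : Idx δ k T x) :
    IsScalarTower (X.presheaf.stalk x) (X.presheaf.stalk i.1) (F.presheaf.stalk i.1) :=
  isScalarTower_spec F i.2.1

/-- The prime of a generalization. -/
noncomputable abbrev qIdx (i : Idx δ k T x) : PrimeSpectrum (X.presheaf.stalk x) := CDiv6.primeOf i.2.1

instance localizationIdx (i : Idx δ k T x) :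
    IsLocalization.AtPrime (X.presheaf.stalk i.1) (qIdx i).asIdeal :=
  H23.StalkPrimes.isLocalization_primeOf i.2.1

/-- The order along a generalization. -/
noncomputable abbrev oIdx (i : Idx δ k T x) : ResidueField (X.presheaf.stalk i.1) → ℤ :=
  fun f => Cyc.ordAt x i.1 i.2.1 f

/-- The localisation maps of the stalk. -/
noncomputable abbrev gIdx (F : X.Modules) (i : Idx δ k T x) :
    F.presheaf.stalk x →ₗ[X.presheaf.stalk x] F.presheaf.stalk i.1 := specLin F i.2.1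

theorem isLocalizedModule_gIdx {F : X.Modules} (hF : Coh.IsQCoh F) (i : Idx δ k T x) :
    IsLocalizedModule (qIdx i).asIdeal.primeCompl (gIdx F i) :=
  isLocalizedModule_spec hF i.2.1

theorem sep_idx (hd : Cyc.IsDimFun X δ) (i i' : Idx δ k T x) (h : i ≠ i') :
    ¬ (qIdx i').asIdeal ≤ (qIdx i).asIdeal := fun hle => h (Subtype.ext
  (CycLib.eq_of_delta_le hd ((H23.StalkPrimes.primeOf_le_iff i.2.1 i'.2.1).1 hle)
    (by rw [i'.2.2.1, i.2.2.1])).symm)

theorem supp_idx (hd : Cyc.IsDimFun X δ) {F : X.Modules} (hF : Cyc.CohLe δ (k + 1) F) (hT : CohB1.support F ⊆ T)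
    (hx : δ x = k) : ∀ p ∈ Module.support (X.presheaf.stalk x) (F.presheaf.stalk x),
      p = closedPoint (X.presheaf.stalk x) ∨ ∃ i : Idx δ k T x, p = qIdx i := by
  intro p hp
  obtain ⟨y, hy, hyp⟩ := H23.StalkPrimes.exists_point p.asIdeal
  have hp' : CDiv6.primeOf hy = p := PrimeSpectrum.ext hyp
  obtain ⟨m, hm⟩ := Module.mem_support_iff'.1 hp
  letI := specMod F hy
  haveI := isLocalizedModule_spec hF.1.1 hy
  have hne : specLin F hy m ≠ 0 := fun h0 => by
    obtain ⟨c, hc⟩ := (IsLocalizedModule.eq_zero_iff (CDiv6.primeOf hy).asIdeal.primeCompl _).1 h0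
    exact hm c (hyp ▸ c.2) hc
  have hnt : Nontrivial (F.presheaf.stalk y) := ⟨_, _, hne⟩
  rcases eq_or_ne y x with rfl | hyx
  · refine Or.inl (hp'.symm.trans ?_)
    refine PrimeSpectrum.ext (Ideal.ext fun g => ?_)
    rw [CDiv6.mem_primeOf, TopCat.Presheaf.stalkSpecializes_refl]
    exact Iff.rfl
  · refine Or.inr ⟨⟨y, hy, ?_, hT (not_subsingleton_iff_nontrivial.2 hnt)⟩, hp'.symm⟩
    have h1 := CycLib.delta_lt hd hy hyx
    have h2 := hF.2 y hnt
    omega

theorem ordData_idx (hd : Cyc.IsDimFun X δ) (hx : δ x = k) :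
    OrdData (S := fun i : Idx δ k T x => X.presheaf.stalk i.1) qIdx oIdx := by
  have hxi : ∀ i : Idx δ k T x, δ x + 1 = δ i.1 := fun i => by rw [hx, i.2.2.1]
  exact ⟨fun i f f' hf hf' => CycLib.ordAt_mul hd i.2.1 (hxi i) hf hf',
    fun i a ha => ordAt_residue hd i.2.1 (hxi i) ha, fun i a ha => ord_ne_top hd i.2.1 (hxi i) ha⟩

theorem finite_idx (hd : Cyc.IsDimFun X δ) {G : X.Modules} (hG : Cyc.CohLe δ (k + 1) G) (hT : T ⊆ CohB1.support G)
    (x : X) : Finite (Idx δ k T x) := by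
  obtain ⟨U, hU, hxU, hfin⟩ := locFin_generic hd hG.1 hG.2 x
  haveI := hfin.to_subtype
  refine Finite.of_injective (fun i : Idx δ k T x => (⟨i.1, i.2.2.1, hT i.2.2.2, x,
    specializes_iff_mem_closure.1 i.2.1, hxU⟩ : {η | δ η = k + 1 ∧ η ∈ CohB1.support G ∧ (closure {η} ∩ U).Nonempty}))
    fun i j h => Subtype.ext (congrArg (fun z => z.1) h)

/-- The value at a point, computed with an index set. -/
def IsValAt (F : X.Modules) (fr : Frame δ k F) (T : Set X) (x : X) [Fintype (Idx δ k T x)] (n : ℤ) : Prop :=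
  IsVal (S := fun i : Idx δ k T x => X.presheaf.stalk i.1) qIdx oIdx (gIdx F) (fun i => fr.E i.1) n

section

variable [Fintype (Idx δ k T x)] {F : X.Modules} (fr : Frame δ k F)

theorem hl_idx (i : Idx δ k T x) :
    Module.length (X.presheaf.stalk i.1) (F.presheaf.stalk i.1) = fr.n i.1 := fr.len i.1 i.2.2.1

theorem hE_idx (i : Idx δ k T x) :
    IsAdmissible (X.presheaf.stalk i.1) (F.presheaf.stalk i.1) (fr.E i.1) ∧
      CycLib.Strict (X.presheaf.stalk i.1) (fr.E i.1) := ⟨fr.adm i.1 i.2.2.1, fr.strict i.1 i.2.2.1⟩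

theorem exists_isValAt (hd : Cyc.IsDimFun X δ) (hF : Cyc.CohLe δ (k + 1) F) : ∃ n, IsValAt F fr T x n := by
  haveI : ∀ i : Idx δ k T x, IsLocalizedModule (qIdx i).asIdeal.primeCompl (gIdx F i) :=
    isLocalizedModule_gIdx hF.1.1
  exact exists_isVal (sep_idx hd) (hl_idx fr) (hE_idx fr)

theorem IsValAt.unique (hd : Cyc.IsDimFun X δ) (hF : Cyc.CohLe δ (k + 1) F) (hT : CohB1.support F ⊆ T) (hx : δ x = k)
    {n n' : ℤ} (h : IsValAt F fr T x n) (h' : IsValAt F fr T x n') : n = n' := by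
  haveI : ∀ i : Idx δ k T x, IsLocalizedModule (qIdx i).asIdeal.primeCompl (gIdx F i) :=
    isLocalizedModule_gIdx hF.1.1
  haveI := QCoh.finite_stalk_of_isFT hF.1.1 hF.1.2 x
  exact IsVal.unique (hl_idx fr) (supp_idx hd hF hT hx) (ordData_idx hd hx) (hE_idx fr) h h'

theorem IsValAt.restrict (hd : Cyc.IsDimFun X δ) (hF : Cyc.CohLe δ (k + 1) F) (hx : δ x = k) {T' : Set X}
    [Fintype (Idx δ k T' x)] (hTT : T' ⊆ T) (hT' : CohB1.support F ⊆ T') {n : ℤ} (h : IsValAt F fr T x n) :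
    IsValAt F fr T' x n := by
  haveI : ∀ i : Idx δ k T x, IsLocalizedModule (qIdx i).asIdeal.primeCompl (gIdx F i) :=
    isLocalizedModule_gIdx hF.1.1
  refine IsVal.restrict (ordData_idx hd hx) (hl_idx fr)
    (fun i : Idx δ k T' x => (⟨i.1, i.2.1, i.2.2.1, hTT i.2.2.2⟩ : Idx δ k T x))
    (fun i j hij => Subtype.ext (congrArg (fun z : Idx δ k T x => z.1) hij)) (fun i hi => ?_) (hE_idx fr) h
  have hns : Subsingleton (F.presheaf.stalk i.1) := by
    by_contra hc
    exact hi ⟨⟨i.1, i.2.1, i.2.2.1, hT' hc⟩, rfl⟩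
  have h0 := fr.len i.1 i.2.2.1
  rw [Module.length_eq_zero_iff.2 hns] at h0
  exact_mod_cast h0.symm

end

/-- `D` is the function of values of a framed module. -/
def IsValFun (F : X.Modules) (fr : Frame δ k F) (D : X → ℤ) : Prop :=
  ∀ x : X, (δ x ≠ k → D x = 0) ∧
    (δ x = k → ∀ [Fintype (Idx δ k (CohB1.support F) x)], IsValAt F fr (CohB1.support F) x (D x))

theorem exists_isValFun (hd : Cyc.IsDimFun X δ) {F : X.Modules} (hF : Cyc.CohLe δ (k + 1) F) (fr : Frame δ k F) :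
    ∃ D, IsValFun F fr D := by
  classical
  have h : ∀ x, ∃ n : ℤ, (δ x ≠ k → n = 0) ∧
      (δ x = k → ∀ [Fintype (Idx δ k (CohB1.support F) x)], IsValAt F fr (CohB1.support F) x n) := fun x => by
    by_cases hx : δ x = k
    · haveI := finite_idx hd hF (T := CohB1.support F) le_rfl x
      letI := Fintype.ofFinite (Idx δ k (CohB1.support F) x)
      obtain ⟨n, hn⟩ := exists_isValAt (x := x) (T := CohB1.support F) fr hd hF
      exact ⟨n, fun h => absurd hx h, fun _ inst => by convert hn using 1⟩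
    · exact ⟨0, fun _ => rfl, fun h => absurd h hx⟩
  choose n hn using h
  exact ⟨n, hn⟩

/-- The value computed with a larger index set. -/
theorem IsValFun.eq_of_isValAt (hd : Cyc.IsDimFun X δ) {F : X.Modules} (hF : Cyc.CohLe δ (k + 1) F)
    {fr : Frame δ k F} {D : X → ℤ} (hD : IsValFun F fr D) {x : X} (hx : δ x = k) {T : Set X}
    [Fintype (Idx δ k T x)] (hT : CohB1.support F ⊆ T) {n : ℤ} (h : IsValAt F fr T x n) : D x = n := by
  haveI := finite_idx hd hF (T := CohB1.support F) le_rfl x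
  letI := Fintype.ofFinite (Idx δ k (CohB1.support F) x)
  exact IsValAt.unique fr hd hF le_rfl hx ((hD x).2 hx) (IsValAt.restrict fr hd hF hx hT le_rfl h)

/-- Functions which are locally finite sums of principal divisors. -/
def ratSub (hd : Cyc.IsDimFun X δ) (k : ℤ) : AddSubgroup (X → ℤ) where
  carrier := {G | H23.RatOn.ZeroOn δ k Set.univ G}
  zero_mem' := H23.RatOn.zero _
  add_mem' {G G'} h h' := H23.RatOn.congr (H23.RatOn.add hd h h' 1 1) fun x => by simp
  neg_mem' {G} h := H23.RatOn.congr (H23.RatOn.add hd h (H23.RatOn.zero Set.univ) (-1) 1) fun x => by simp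

/-- Changing the frame changes the function of values by a locally finite sum of divisors. -/
theorem isValFun_sub_mem (hd : Cyc.IsDimFun X δ) {F : X.Modules} (hF : Cyc.CohLe δ (k + 1) F)
    {fr fr' : Frame δ k F} {D D' : X → ℤ} (hD : IsValFun F fr D) (hD' : IsValFun F fr' D') :
    D - D' ∈ ratSub hd k := by
  classical
  have hcast : ∀ ξ : X, ∃ γ : X.residueField ξ, γ ≠ 0 ∧ (δ ξ = k + 1 → ∃ h : fr'.n ξ = fr.n ξ,
      CycLib.clsT (X.presheaf.stalk ξ) (fr.E ξ) = (show ResidueField (X.presheaf.stalk ξ) from γ) •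
        CycLib.clsT (X.presheaf.stalk ξ) (fun j => fr'.E ξ (Fin.cast h.symm j))) := fun ξ => by
    by_cases hξ : δ ξ = k + 1
    · have h : fr'.n ξ = fr.n ξ := by exact_mod_cast (fr'.len ξ hξ).symm.trans (fr.len ξ hξ)
      have haux : ∀ {n n' : ℕ} (h : n' = n) (E' : Fin n' → F.presheaf.stalk ξ),
          IsAdmissible (X.presheaf.stalk ξ) (F.presheaf.stalk ξ) E' → CycLib.Strict (X.presheaf.stalk ξ) E' →
          IsAdmissible (X.presheaf.stalk ξ) (F.presheaf.stalk ξ) (fun j => E' (Fin.cast h.symm j)) ∧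
          CycLib.Strict (X.presheaf.stalk ξ) (fun j => E' (Fin.cast h.symm j)) := by
        intro n n' h E' ha hs; subst h; exact ⟨ha, hs⟩
      obtain ⟨ha, hs⟩ := haux h _ (fr'.adm ξ hξ) (fr'.strict ξ hξ)
      obtain ⟨γ, hγ, e⟩ := exists_coef (fr.len ξ hξ) (fr.adm ξ hξ) (fr.strict ξ hξ) ha hs
      exact ⟨γ, hγ, fun _ => ⟨h, e⟩⟩
    · exact ⟨1, one_ne_zero, fun h => absurd h hξ⟩
  choose γ hγ0 hγ using hcast
  refine ⟨{ξ : X // δ ξ = k + 1 ∧ ξ ∈ CohB1.support F}, fun i => i.1, fun i => γ i.1, fun i => i.2.1,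
    fun i => hγ0 _, fun _ => trivial, fun z => ?_, fun x => ?_⟩
  · obtain ⟨U, hU, hzU, hfin⟩ := locFin_generic hd hF.1 hF.2 z
    exact ⟨U, hU, hzU, (hfin.preimage Subtype.val_injective.injOn).subset fun i hi => ⟨i.2.1, i.2.2, hi⟩⟩
  rcases ne_or_eq (δ x) k with hx | hx
  · rw [Pi.sub_apply, (hD x).1 hx, (hD' x).1 hx, sub_zero]
    exact (finsum_eq_zero_of_forall_eq_zero fun i =>
      CycLib.divFun_eq_zero_of_delta δ _ (by rw [i.2.1]; omega)).symm
  haveI := finite_idx hd hF (T := CohB1.support F) le_rfl x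
  letI := Fintype.ofFinite (Idx δ k (CohB1.support F) x)
  let e : Idx δ k (CohB1.support F) x ↪ {ξ : X // δ ξ = k + 1 ∧ ξ ∈ CohB1.support F} :=
    ⟨fun i => ⟨i.1, i.2.2⟩, fun i j h => Subtype.ext (congrArg (fun z => z.1) h)⟩
  have hsum : ∑ᶠ i : {ξ : X // δ ξ = k + 1 ∧ ξ ∈ CohB1.support F}, Cyc.divFun δ i.1 (γ i.1) x =
      ∑ i : Idx δ k (CohB1.support F) x, Cyc.ordAt x i.1 i.2.1 (γ i.1) := by
    rw [finsum_eq_sum_of_support_subset _ (s := Finset.univ.map e) (fun i hi => ?_), Finset.sum_map]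
    · exact Finset.sum_congr rfl fun i _ => CycLib.divFun_eq δ _ i.2.1 (by rw [hx, i.2.2.1])
    · have hsp : i.1 ⤳ x := by_contra fun hn => hi (CycLib.divFun_eq_zero_of_not_specializes δ _ hn)
      exact Finset.mem_coe.2 (Finset.mem_map.2 ⟨⟨i.1, hsp, i.2⟩, Finset.mem_univ _, rfl⟩)
  rw [Pi.sub_apply, hsum]
  have hgen : ∀ (n' : X → ℕ) (h : ∀ ξ, δ ξ = k + 1 → n' ξ = fr.n ξ)
      (E' : ∀ ξ, Fin (n' ξ) → F.presheaf.stalk ξ) (m : ℤ),
      IsVal (S := fun i : Idx δ k (CohB1.support F) x => X.presheaf.stalk i.1) qIdx oIdx (gIdx F)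
        (fun i => E' i.1) m →
      IsVal (S := fun i : Idx δ k (CohB1.support F) x => X.presheaf.stalk i.1) qIdx oIdx (gIdx F)
        (fun i j => E' i.1 (Fin.cast (h i.1 i.2.2.1).symm j)) m := by
    intro n' h E' m hm
    suffices H : ∀ (l₁ l₂ : Idx δ k (CohB1.support F) x → ℕ) (hl : l₁ = l₂)
        (E₁ : ∀ i, Fin (l₁ i) → F.presheaf.stalk i.1),
        IsVal (S := fun i : Idx δ k (CohB1.support F) x => X.presheaf.stalk i.1) qIdx oIdx (gIdx F) E₁ m →
        IsVal (S := fun i : Idx δ k (CohB1.support F) x => X.presheaf.stalk i.1) qIdx oIdx (gIdx F)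
          (fun i j => E₁ i (Fin.cast (congrFun hl i).symm j)) m from
      H _ _ (funext fun i => h i.1 i.2.2.1) _ hm
    intro l₁ l₂ hl E₁ h1
    subst hl
    exact h1
  have h' := hgen fr'.n (fun ξ hξ => (hγ ξ hξ).1) fr'.E _ ((hD' x).2 hx)
  haveI : ∀ i : Idx δ k (CohB1.support F) x, IsLocalizedModule (qIdx i).asIdeal.primeCompl (gIdx F i) :=
    isLocalizedModule_gIdx hF.1.1
  haveI := QCoh.finite_stalk_of_isFT hF.1.1 hF.1.2 x
  have hc := IsVal.change (hl_idx fr) (ordData_idx hd hx) (γ := fun i => γ i.1)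
    (E' := fun i j => fr'.E i.1 (Fin.cast (hγ i.1 i.2.2.1).1.symm j)) (fun i => hγ0 _)
    (fun i => (hγ i.1 i.2.2.1).2) ((hD x).2 hx)
  have hE2 : ∀ i : Idx δ k (CohB1.support F) x,
      IsAdmissible (X.presheaf.stalk i.1) (F.presheaf.stalk i.1) (fun j => fr'.E i.1 (Fin.cast (hγ i.1 i.2.2.1).1.symm j)) ∧
      CycLib.Strict (X.presheaf.stalk i.1) (fun j => fr'.E i.1 (Fin.cast (hγ i.1 i.2.2.1).1.symm j)) := fun i => by
    have haux : ∀ {n n' : ℕ} (h : n' = n) (E' : Fin n' → F.presheaf.stalk i.1),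
        IsAdmissible (X.presheaf.stalk i.1) (F.presheaf.stalk i.1) E' → CycLib.Strict (X.presheaf.stalk i.1) E' →
        IsAdmissible (X.presheaf.stalk i.1) (F.presheaf.stalk i.1) (fun j => E' (Fin.cast h.symm j)) ∧
        CycLib.Strict (X.presheaf.stalk i.1) (fun j => E' (Fin.cast h.symm j)) := by
      intro n n' h E' ha hs; subst h; exact ⟨ha, hs⟩
    exact haux (hγ i.1 i.2.2.1).1 _ (fr'.adm _ i.2.2.1) (fr'.strict _ i.2.2.1)
  have := IsVal.unique (hl_idx fr) (supp_idx hd hF le_rfl hx) (ordData_idx hd hx) hE2 hc h'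
  simp only [oIdx] at this
  omega

end Groth.Agent.H9ChowK
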