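import Groth.Agent.H9ChowK.Classes
import Groth.Agent.H9ChowK.Stalks
import Groth.Agent.QCoh.Submod
import Groth.Agent.QCoh.Qcqs
import Groth.Agent.QCoh.ExtendFT
import Groth.Agent.QCoh.SubCompare

/-! Submodules given by conditions on the germs at a locally finite set of points. -/

set_option autoImplicit false
set_option linter.unusedSectionVars false
set_option linter.style.haveILetI false
set_option backward.isDefEq.respectTransparency false
set_option backward.isDefEq.respectTransparency.types false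

universe u

open CategoryTheory CategoryTheory.Limits AlgebraicGeometry TopologicalSpace Opposite

namespace Groth.Agent.H9ChowK

open Groth.Agent

variable {X : Scheme.{u}}

/-- Finitely many points of the set lie on each affine open. -/
def FinSet (S : Set X) : Prop := ∀ U : X.affineOpens, ((U.1 : Set X) ∩ S).Finite

/-- No point of the set specializes to another one. -/
def AntiSet (S : Set X) : Prop := ∀ η ∈ S, ∀ η' ∈ S, η' ⤳ η → η' = η

theorem exists_sep_nhd {S : Set X} (hS : FinSet S) (ha : AntiSet S) {η : X} (hη : η ∈ S) {V : X.Opens} (hV : η ∈ V) :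
    ∃ W : X.Opens, IsAffineOpen W ∧ η ∈ W ∧ W ≤ V ∧ ∀ η' ∈ S, η' ∈ W → η' = η := by
  obtain ⟨_, ⟨U, hU, rfl⟩, hηU, hUV⟩ := X.isBasis_affineOpens.exists_subset_of_mem_open hV V.isOpen
  have hfin := (hS ⟨U, hU⟩).sdiff (t := {η})
  have hC : IsClosed (⋃ η' ∈ ((U : Set X) ∩ S) \ {η}, closure {η'}) :=
    hfin.isClosed_biUnion fun _ _ => isClosed_closure
  have hη' : η ∉ ⋃ η' ∈ ((U : Set X) ∩ S) \ {η}, closure {η'} := fun h => by
    obtain ⟨η', ⟨⟨-, hη'S⟩, hne⟩, hc⟩ := Set.mem_iUnion₂.1 h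
    exact hne (ha η hη η' hη'S (specializes_iff_mem_closure.2 hc))
  obtain ⟨_, ⟨W, hW, rfl⟩, hηW, hWU⟩ := X.isBasis_affineOpens.exists_subset_of_mem_open
    (show η ∈ (U : Set X) ∩ (⋃ η' ∈ ((U : Set X) ∩ S) \ {η}, closure {η'})ᶜ from ⟨hηU, hη'⟩)
    (U.isOpen.inter hC.isOpen_compl)
  refine ⟨W, hW, hηW, fun x hx => hUV (hWU hx).1, fun η' hη'S hη'W => by_contra fun hne => (hWU hη'W).2 ?_⟩
  exact Set.mem_biUnion (x := η') ⟨⟨(hWU hη'W).1, hη'S⟩, hne⟩ (subset_closure rfl)

/-- Sections whose germs at the points of `S` lie in prescribed submodules. -/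
noncomputable def gSub (M : X.Modules) (S : Set X)
    (E : ∀ η, Submodule (X.presheaf.stalk η) (M.presheaf.stalk η)) : QCoh.SubMod M where
  mem U :=
    { carrier := {s | ∀ η (h : η ∈ U), η ∈ S → M.presheaf.germ U η h s ∈ E η}
      add_mem' := fun {a b} ha hb η h hS => by rw [map_add]; exact (E η).add_mem (ha η h hS) (hb η h hS)
      zero_mem' := fun η h _ => by rw [map_zero]; exact (E η).zero_mem
      smul_mem' := fun r s hs η h hS => by
        rw [QCoh.germ_smul']; exact (E η).smul_mem _ (hs η h hS) }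
  map_mem {U V} i {s} hs η h hS := by
    rw [TopCat.Presheaf.germ_res_apply (F := M.presheaf)]
    exact hs η (i h) hS
  of_locally U s H η h hS := by
    obtain ⟨V, i, hηV, hV⟩ := H η h
    have := hV η hηV hS
    rwa [TopCat.Presheaf.germ_res_apply (F := M.presheaf)] at this

theorem mem_gSub {M : X.Modules} {S : Set X} {E : ∀ η, Submodule (X.presheaf.stalk η) (M.presheaf.stalk η)}
    {U : X.Opens} {s : Γ(M, U)} :
    s ∈ (gSub M S E).mem U ↔ ∀ η (h : η ∈ U), η ∈ S → M.presheaf.germ U η h s ∈ E η := Iff.rfl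

theorem exists_pow_smul_eq_zero_of_length {R N : Type*} [CommRing R] [IsLocalRing R] [AddCommGroup N] [Module R N]
    (hl : Module.length R N ≠ ⊤) {f : R} (hf : f ∈ IsLocalRing.maximalIdeal R) : ∃ n, ∀ x : N, f ^ n • x = 0 := by
  have hfl : IsFiniteLength R N := Module.length_ne_top_iff.1 hl
  obtain ⟨h1, h2⟩ := isFiniteLength_iff_isNoetherian_isArtinian.1 hfl
  obtain ⟨n, hn⟩ := IsArtinian.monotone_stabilizes (R := R) (M := N)
    ⟨fun i => LinearMap.range (LinearMap.lsmul R N (f ^ i)), fun i j hij => by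
      rintro x ⟨y, rfl⟩
      exact ⟨f ^ (j - i) • y, by rw [LinearMap.lsmul_apply, LinearMap.lsmul_apply, ← mul_smul, ← pow_add,
        Nat.add_sub_cancel' hij]⟩⟩
  refine ⟨n, fun x => ?_⟩
  have h0 : LinearMap.range (LinearMap.lsmul R N (f ^ n)) = ⊥ := by
    refine Submodule.eq_bot_of_le_smul_of_le_jacobson_bot (IsLocalRing.maximalIdeal R) _ (IsNoetherian.noetherian _)
      ?_ (IsLocalRing.maximalIdeal_le_jacobson _)
    intro z hz
    have he : LinearMap.range (LinearMap.lsmul R N (f ^ n)) = LinearMap.range (LinearMap.lsmul R N (f ^ (n + 1))) :=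
      hn (n + 1) (Nat.le_succ n)
    obtain ⟨y, rfl⟩ := he.le hz
    rw [LinearMap.lsmul_apply, pow_succ', mul_smul]
    exact Submodule.smul_mem_smul hf ⟨y, rfl⟩
  exact (Submodule.mem_bot R).1 (h0.le ⟨x, rfl⟩)

variable {M : X.Modules} {S : Set X} {E : ∀ η, Submodule (X.presheaf.stalk η) (M.presheaf.stalk η)}

theorem isQCoh_gSub (hM : Coh.IsQCoh M) (hS : FinSet S)
    (hl : ∀ η ∈ S, Module.length (X.presheaf.stalk η) (M.presheaf.stalk η) ≠ ⊤) :
    Coh.IsQCoh (gSub M S E).toModules := by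
  refine QCoh.isQCoh_of_sections (fun U hU f s => ?_) (fun U hU f t ht => ?_)
  · obtain ⟨n, z, hz⟩ := QCoh.exists_pow_smul_eq_map hM hU f ((gSub M S E).ι.app _ s)
    have hnil : ∀ η : ↥((U : Set X) ∩ S), ∃ m, η.1 ∉ X.basicOpen f →
        ∀ x : M.presheaf.stalk η.1, X.presheaf.germ U η.1 η.2.1 f ^ m • x = 0 := fun η => by
      by_cases h : η.1 ∈ X.basicOpen f
      · exact ⟨0, fun hn => absurd h hn⟩
      · obtain ⟨m, hm⟩ := exists_pow_smul_eq_zero_of_length (hl η.1 η.2.2)
          (f := X.presheaf.germ U η.1 η.2.1 f)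
          ((IsLocalRing.mem_maximalIdeal _).2 fun hu => h ((X.mem_basicOpen f η.1 η.2.1).2 hu))
        exact ⟨m, fun _ => hm⟩
    choose m hm using hnil
    haveI : Fintype ↥((U : Set X) ∩ S) := (hS ⟨U, hU⟩).fintype
    obtain ⟨N, hN⟩ : ∃ N, ∀ η, m η ≤ N := ⟨Finset.univ.sup m, fun η => Finset.le_sup (Finset.mem_univ η)⟩
    have hmem : f ^ N • z ∈ (gSub M S E).mem U := fun η h hηS => by
      rw [QCoh.germ_smul', map_pow]
      by_cases hd : η ∈ X.basicOpen f
      · rw [← TopCat.Presheaf.germ_res_apply (F := M.presheaf) (homOfLE (X.basicOpen_le f)) η hd z, hz,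
          QCoh.germ_smul']
        exact (E η).smul_mem _ ((E η).smul_mem _ ((gSub M S E).ι_app_mem _ s η hd hηS))
      · rw [← Nat.sub_add_cancel (hN ⟨η, h, hηS⟩), pow_add, mul_smul, hm ⟨η, h, hηS⟩ hd, smul_zero]
        exact (E η).zero_mem
    obtain ⟨t, ht⟩ := (gSub M S E).exists_app_eq hmem
    refine ⟨N + n, t, (gSub M S E).ι_app_injective _ ?_⟩
    rw [QCoh.ι_app_smul, QCoh.map_app_comm, ht]
    show QCoh.rs M _ (f ^ N • z) = _
    rw [QCoh.rs_smul, QCoh.rs, hz, pow_add, mul_smul]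
    simp only [QCoh.rf, map_pow]
  · obtain ⟨n, hn⟩ := QCoh.exists_pow_smul_eq_zero hM hU f ((gSub M S E).ι.app _ t) (by
      rw [← QCoh.map_app_comm, ht, map_zero])
    exact ⟨n, (gSub M S E).ι_app_injective _ (by rw [QCoh.ι_app_smul, hn, map_zero])⟩

theorem stalk_gSub_injective (hM : Coh.IsQCoh M) (hq : Coh.IsQCoh (gSub M S E).toModules) (x : X) :
    Function.Injective (CycLib.stalkLin (gSub M S E).ι x) := by
  refine (injective_iff_map_eq_zero _).2 fun t ht => ?_
  obtain ⟨U, hU, hx, n, rfl⟩ := CycLib.exists_germ_affine _ t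
  obtain ⟨a, ha, h0⟩ := (QCoh.germ_eq_zero_iff hM hU hx _).1
    ((CycLib.stalkAdd_germ (gSub M S E).ι x hx n).symm.trans ht)
  exact (QCoh.germ_eq_zero_iff hq hU hx _).2 ⟨a, ha, (gSub M S E).ι_app_injective U
    (((Scheme.Modules.Hom.app_smul _ a n).trans h0).trans (map_zero _).symm)⟩

theorem range_stalk_gSub (hS : FinSet S) (ha : AntiSet S) {η : X} (hη : η ∈ S) :
    LinearMap.range (CycLib.stalkLin (gSub M S E).ι η) = E η := by
  refine le_antisymm ?_ fun e he => ?_
  · rintro _ ⟨t, rfl⟩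
    obtain ⟨U, hU, hx, n, rfl⟩ := CycLib.exists_germ_affine _ t
    exact (CycLib.stalkAdd_germ (gSub M S E).ι η hx n).symm ▸ (gSub M S E).ι_app_mem U n η hx hη
  · obtain ⟨V, hηV, s, rfl⟩ := M.presheaf.exists_germ_eq e
    obtain ⟨W, hW, hηW, hWV, huniq⟩ := exists_sep_nhd hS ha hη hηV
    have hmem : M.presheaf.map (homOfLE hWV).op s ∈ (gSub M S E).mem W := fun η' h hS' => by
      obtain rfl := huniq η' hS' h
      rw [TopCat.Presheaf.germ_res_apply (F := M.presheaf)]
      exact he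
    obtain ⟨t, ht⟩ := (gSub M S E).exists_app_eq hmem
    refine ⟨(gSub M S E).toModules.presheaf.germ W η hηW t, (CycLib.stalkAdd_germ _ η hηW t).trans ?_⟩
    rw [ht, TopCat.Presheaf.germ_res_apply (F := M.presheaf)]

theorem length_stalk_gSub (hM : Coh.IsQCoh M) (hq : Coh.IsQCoh (gSub M S E).toModules) (hS : FinSet S)
    (ha : AntiSet S) {η : X} (hη : η ∈ S) :
    Module.length (X.presheaf.stalk η) ((gSub M S E).toModules.presheaf.stalk η) =
      Module.length (X.presheaf.stalk η) (E η) :=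
  ((LinearEquiv.ofInjective _ (stalk_gSub_injective hM hq η)).trans
    (LinearEquiv.ofEq _ _ (range_stalk_gSub hS ha hη))).length_eq

theorem exists_hom_gSub (hM : Coh.IsQCoh M) {E' : ∀ η, Submodule (X.presheaf.stalk η) (M.presheaf.stalk η)}
    (hq : Coh.IsQCoh (gSub M S E').toModules) (hq' : Coh.IsQCoh (gSub M S E).toModules)
    (hle : ∀ η, E' η ≤ E η) :
    ∃ j : (gSub M S E').toModules ⟶ (gSub M S E).toModules, j ≫ (gSub M S E).ι = (gSub M S E').ι := by
  have h0 : (gSub M S E').ι ≫ cokernel.π (gSub M S E).ι = 0 :=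
    QCoh.hom_eq_zero_of_cover hq (QCoh.isQCoh_cokernel hq' hM _) _ (fun U : X.affineOpens => U.1) (fun U => U.2)
      (fun x => let ⟨U, hU, hx⟩ := QCoh.exists_affine_mem x; ⟨⟨U, hU⟩, hx⟩)
      fun U s => (QCoh.mem_range_iff_cokernel (gSub M S E).ι U.1 _).2
        ((gSub M S E).exists_app_eq fun η h hS => hle η ((gSub M S E').ι_app_mem U.1 s η h hS))
  exact ⟨Abelian.monoLift (gSub M S E).ι _ h0, Abelian.monoLift_comp _ _ _⟩

end Groth.Agent.H9ChowK
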