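import Groth.Agent.H9ChowK.GermSub
import Groth.Agent.KZ.LFClosed

/-! The points of top dimension in the support of a coherent module, and families of modules. -/

set_option autoImplicit false
set_option linter.unusedSectionVars false
set_option linter.style.haveILetI false
set_option backward.isDefEq.respectTransparency false
set_option backward.isDefEq.respectTransparency.types false

universe u

open CategoryTheory CategoryTheory.Limits AlgebraicGeometry TopologicalSpace Opposite ZeroObject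

namespace Groth.Agent.H9ChowK

open Groth.Agent

variable {X : Scheme.{u}} [IsLocallyNoetherian X] {δ : X → ℤ} {k : ℤ}

/-- Points of dimension `k` of the support. -/
def kPts (δ : X → ℤ) (k : ℤ) (F : X.Modules) : Set X := {η | δ η = k ∧ η ∈ CohB1.support F}

theorem finSet_kPts (hd : Cyc.IsDimFun X δ) {F : X.Modules} (hF : Cyc.CohLe δ k F) : FinSet (kPts δ k F) := by
  intro U
  choose O hO hzO hfin using fun z : X => locFin_generic hd hF.1 hF.2 z
  obtain ⟨T, hT⟩ := U.2.isCompact.elim_finite_subcover O hO fun z _ => Set.mem_iUnion.2 ⟨z, hzO z⟩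
  refine (Set.Finite.biUnion T.finite_toSet fun z _ => hfin z).subset ?_
  rintro η ⟨hηU, hη, hs⟩
  obtain ⟨z, hzT, hz⟩ := Set.mem_iUnion₂.1 (hT hηU)
  exact Set.mem_biUnion (x := z) hzT ⟨hη, hs, η, subset_closure rfl, hz⟩

theorem antiSet_kPts (hd : Cyc.IsDimFun X δ) {F : X.Modules} : AntiSet (kPts δ k F) := fun η hη η' hη' h =>
  by_contra fun hne => (hd η' η h hne).1.ne (hη.1.trans hη'.1.symm)

theorem subsingleton_of_notMem_kPts {F : X.Modules} {η : X} (hη : δ η = k) (h : η ∉ kPts δ k F) :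
    Subsingleton (F.presheaf.stalk η) := not_not.1 fun hn => h ⟨hη, hn⟩

theorem cohLe_pred {F : X.Modules} (hF : Cyc.CohLe δ k F)
    (h : ∀ η, δ η = k → Subsingleton (F.presheaf.stalk η)) : Cyc.CohLe δ (k - 1) F :=
  ⟨hF.1, fun x hx => by
    have h1 := hF.2 x hx
    have h2 : δ x ≠ k := fun he => not_subsingleton_iff_nontrivial.2 hx (h x he)
    omega⟩

theorem cohLe_sigmaNat {n : ℤ} (f : ℕ → X.Modules) (hf : ∀ i, Cyc.CohLe δ n (f i))
    (hs : KZ.LF.Small KZ.LF.Vanish f) : Cyc.CohLe δ n (∐ f) :=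
  ⟨KZ.LF.isCoh_sigma f (fun i => (hf i).1) hs, fun x hx =>
    KZ.LF.support_sigma {x | δ x ≤ n} f (fun i => (hf i).1.1) hs
      (fun i x hx => (hf i).2 x (not_subsingleton_iff_nontrivial.1 hx)) (not_subsingleton_iff_nontrivial.2 hx)⟩

theorem small_of_mono {A B : ℕ → X.Modules} (f : ∀ i, A i ⟶ B i) [∀ i, Mono (f i)]
    (hB : KZ.LF.Small KZ.LF.Vanish B) : KZ.LF.Small KZ.LF.Vanish A := fun U => by
  obtain ⟨n, hn⟩ := hB U
  exact ⟨n, fun i hi => haveI : Subsingleton Γ(B i, U.1) := hn i hi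
    (QCoh.app_injective (f i) U.1).subsingleton⟩

theorem small_of_epi {A B : ℕ → X.Modules} (f : ∀ i, A i ⟶ B i) [∀ i, Epi (f i)] (hA : ∀ i, Coh.IsQCoh (A i))
    (hB : ∀ i, Coh.IsQCoh (B i)) (h : KZ.LF.Small KZ.LF.Vanish A) : KZ.LF.Small KZ.LF.Vanish B := fun U => by
  obtain ⟨n, hn⟩ := h U
  exact ⟨n, fun i hi => haveI : Subsingleton Γ(A i, U.1) := hn i hi
    (QCoh.app_surjective_of_epi (hA i) (hB i) (f i) U.2).subsingleton⟩

theorem toK0_ses {a b : ℤ} {T : ShortComplex X.Modules} (hT : T.ShortExact) (h₁ : Cyc.CohLe δ a T.X₁)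
    (h₂ : Cyc.CohLe δ a T.X₂) (h₃ : Cyc.CohLe δ a T.X₃) :
    Cyc.toK0CohQuot δ a b T.X₂ = Cyc.toK0CohQuot δ a b T.X₁ + Cyc.toK0CohQuot δ a b T.X₃ :=
  (congrArg QuotientAddGroup.mk (KZ.clSub_ses _ hT h₁ h₂ h₃)).trans (QuotientAddGroup.mk_add _ _ _)

theorem toK0_eq_zero {a b : ℤ} {F : X.Modules} (hF : Cyc.CohLe δ b F) : Cyc.toK0CohQuot δ a b F = 0 :=
  (QuotientAddGroup.eq_zero_iff _).2 (AddSubgroup.subset_closure ⟨F, hF, rfl⟩)

theorem stalkLin_comp {A B C : X.Modules} (f : A ⟶ B) (g : B ⟶ C) (x : X) (t : A.presheaf.stalk x) :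
    CycLib.stalkLin (f ≫ g) x t = CycLib.stalkLin g x (CycLib.stalkLin f x t) := by
  obtain ⟨U, hU, hx, n, rfl⟩ := CycLib.exists_germ_affine _ t
  show CycLib.stalkAdd (f ≫ g) x _ = CycLib.stalkAdd g x (CycLib.stalkAdd f x _)
  rw [CycLib.stalkAdd_germ, CycLib.stalkAdd_germ, CycLib.stalkAdd_germ]
  rfl

/-- Families of maps bijective at the points of dimension `k` do not change the class. -/
theorem toK0_sigma_eq {A B : ℕ → X.Modules} (f : ∀ i, A i ⟶ B i) (hA : ∀ i, Cyc.CohLe δ k (A i))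
    (hB : ∀ i, Cyc.CohLe δ k (B i)) (sA : KZ.LF.Small KZ.LF.Vanish A) (sB : KZ.LF.Small KZ.LF.Vanish B)
    (hf : ∀ i η, δ η = k → Function.Bijective (CycLib.stalkLin (f i) η)) :
    Cyc.toK0CohQuot δ k (k - 1) (∐ A) = Cyc.toK0CohQuot δ k (k - 1) (∐ B) := by
  let K := fun i => kernel (f i)
  let I := fun i => Abelian.coimage (f i)
  let Q := fun i => cokernel (Abelian.factorThruCoimage (f i))
  let p : ∀ i, A i ⟶ I i := fun i => Abelian.coimage.π (f i)
  let m : ∀ i, I i ⟶ B i := fun i => Abelian.factorThruCoimage (f i)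
  have qK : ∀ i, Coh.IsQCoh (K i) := fun i => QCoh.isQCoh_kernel (hA i).1.1 (hB i).1.1 _
  have qI : ∀ i, Coh.IsQCoh (I i) := fun i => QCoh.isQCoh_cokernel (qK i) (hA i).1.1 _
  have hK : ∀ i, Cyc.CohLe δ k (K i) := fun i => cohLe_of_mono (kernel.ι (f i)) (qK i) (hA i)
  have hI : ∀ i, Cyc.CohLe δ k (I i) := fun i => cohLe_of_epi (p i) (qI i) (hA i)
  have hQ : ∀ i, Cyc.CohLe δ k (Q i) := fun i =>
    cohLe_of_epi (cokernel.π (m i)) (QCoh.isQCoh_cokernel (qI i) (hB i).1.1 _) (hB i)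
  have e1 : ∀ i, (ShortComplex.mk (kernel.ι (f i)) (p i) (cokernel.condition _)).ShortExact :=
    fun i => KZ.shortExact_of_mono _
  have e2 : ∀ i, (ShortComplex.mk (m i) (cokernel.π (m i)) (cokernel.condition _)).ShortExact :=
    fun i => KZ.shortExact_of_mono _
  have hbad : ∀ i η, δ η = k → Subsingleton ((K i).presheaf.stalk η) ∧ Subsingleton ((Q i).presheaf.stalk η) := by
    intro i η hη
    obtain ⟨a1, a2, a3⟩ := CycLib.stalk_shortExact (e1 i) (qK i) (hA i).1.1 (qI i) η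
    obtain ⟨b1, b2, b3⟩ := CycLib.stalk_shortExact (e2 i) (qI i) (hB i).1.1 (hQ i).1.1 η
    have hc : ∀ t, CycLib.stalkLin (f i) η t = CycLib.stalkLin (m i) η (CycLib.stalkLin (p i) η t) := fun t => by
      rw [← stalkLin_comp, show p i ≫ m i = f i from Abelian.coimage.fac (f i)]
    refine ⟨subsingleton_of_forall_eq 0 fun t => a1 ((?_ : _ = (0 : (A i).presheaf.stalk η)).trans (map_zero _).symm),
      subsingleton_of_forall_eq 0 fun t => ?_⟩
    · refine (hf i η hη).1 ?_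
      rw [hc, map_zero, a2.apply_apply_eq_zero, map_zero]
    · obtain ⟨b, rfl⟩ := b3 t
      obtain ⟨a, rfl⟩ := (hf i η hη).2 b
      rw [hc]
      exact b2.apply_apply_eq_zero _
  have sK : KZ.LF.Small KZ.LF.Vanish K := small_of_mono (fun i => kernel.ι (f i)) sA
  have sI : KZ.LF.Small KZ.LF.Vanish I := small_of_epi p (fun i => (hA i).1.1) qI sA
  have sQ : KZ.LF.Small KZ.LF.Vanish Q :=
    small_of_epi (fun i => cokernel.π (m i)) (fun i => (hB i).1.1) (fun i => (hQ i).1.1) sB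
  have r1 := toK0_ses (b := k - 1) (KZ.LF.sigma_shortExact (fun i => kernel.ι (f i)) p _ e1) (cohLe_sigmaNat K hK sK)
    (cohLe_sigmaNat A hA sA) (cohLe_sigmaNat I hI sI)
  have r2 := toK0_ses (b := k - 1) (KZ.LF.sigma_shortExact m (fun i => cokernel.π (m i)) _ e2)
    (cohLe_sigmaNat I hI sI) (cohLe_sigmaNat B hB sB) (cohLe_sigmaNat Q hQ sQ)
  dsimp only at r1 r2
  rw [r1, r2, toK0_eq_zero (cohLe_sigmaNat K (fun i => cohLe_pred (hK i) fun η hη => (hbad i η hη).1) sK),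
    toK0_eq_zero (cohLe_sigmaNat Q (fun i => cohLe_pred (hQ i) fun η hη => (hbad i η hη).2) sQ), zero_add, add_zero]

end Groth.Agent.H9ChowK
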