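import Groth.Agent.H9ChowK.KPts

/-! Dévissage of a coherent module into layers of generic length at most one. -/

set_option autoImplicit false
set_option linter.unusedSectionVars false
set_option linter.style.haveILetI false
set_option backward.isDefEq.respectTransparency false
set_option backward.isDefEq.respectTransparency.types false

universe u

open CategoryTheory CategoryTheory.Limits AlgebraicGeometry TopologicalSpace Opposite ZeroObject

namespace Groth.Agent.H9ChowK

open Groth.Agent

theorem exists_chain (R M : Type u) [CommRing R] [AddCommGroup M] [Module R M] {l : ℕ}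
    (hl : Module.length R M = l) :
    ∃ E : ℕ → Submodule R M, E 0 = ⊤ ∧ (∀ i, E (i + 1) ≤ E i) ∧ ∀ i, Module.length R (E i) = ((l - i : ℕ) : ℕ∞) := by
  haveI : IsNoetherian R M :=
    (isFiniteLength_iff_isNoetherian_isArtinian.1 (Module.length_ne_top_iff.1 (by simp [hl]))).1
  have step : ∀ (n : ℕ) (P : Submodule R M), Module.length R P = n →
      ∃ Q ≤ P, Module.length R Q = ((n - 1 : ℕ) : ℕ∞) := by
    intro n P hP
    cases n with
    | zero => exact ⟨P, le_rfl, by simpa using hP⟩
    | succ n =>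
      haveI : Nontrivial P := by
        by_contra h
        rw [not_nontrivial_iff_subsingleton] at h
        rw [Module.length_eq_zero_iff.2 h] at hP
        exact absurd hP.symm (by simp)
      obtain ⟨W, hW, -⟩ := (eq_top_or_exists_le_coatom (⊥ : Submodule R P)).resolve_left bot_ne_top
      refine ⟨W.map P.subtype, Submodule.map_subtype_le P W, ?_⟩
      haveI : IsSimpleModule R (P ⧸ W) := isSimpleModule_iff_isCoatom.2 hW
      have h := Module.length_eq_add_of_exact W.subtype W.mkQ W.subtype_injective W.mkQ_surjective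
        (LinearMap.exact_subtype_mkQ W)
      rw [Module.length_eq_one R (P ⧸ W), hP, Nat.cast_succ] at h
      rw [← (Submodule.equivMapOfInjective P.subtype P.subtype_injective W).length_eq, Nat.add_sub_cancel]
      exact (WithTop.add_right_cancel (by simp) h).symm
  choose! next hnext hlen using step
  let E : ℕ → Submodule R M := fun i => Nat.rec (motive := fun _ => Submodule R M) ⊤ (fun j P => next (l - j) P) i
  have hE : ∀ i : ℕ, Module.length R ↥(E i) = ((l - i : ℕ) : ℕ∞) := by
    intro i
    induction i with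
    | zero => exact (Module.length_top (R := R) (M := M)).trans hl
    | succ j ih => exact (hlen (l - j) (E j) ih).trans (by rw [Nat.sub_sub])
  exact ⟨E, rfl, fun i => hnext (l - i) (E i) (hE i), hE⟩

variable {X : Scheme.{u}} [IsLocallyNoetherian X] {δ : X → ℤ} {k : ℤ}

/-- The length of the stalk as a natural number. -/
noncomputable def lenN (F : X.Modules) (η : X) : ℕ :=
  (Module.length (X.presheaf.stalk η) (F.presheaf.stalk η)).toNat

theorem cast_lenN (hd : Cyc.IsDimFun X δ) {F : X.Modules} (hF : Cyc.CohLe δ k F) {η : X} (hη : δ η = k) :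
    (lenN F η : ℕ∞) = Module.length (X.presheaf.stalk η) (F.presheaf.stalk η) :=
  ENat.natCast_toNat (length_ne_top hd hF hη)

/-- Modules determined by their germs at the top-dimensional points. -/
def TorsFree (δ : X → ℤ) (k : ℤ) (F : X.Modules) : Prop :=
  ∀ (U : X.Opens), IsAffineOpen U → ∀ s : Γ(F, U),
    (∀ η (h : η ∈ U), δ η = k → F.presheaf.germ U η h s = 0) → s = 0

theorem exists_torsFree (hd : Cyc.IsDimFun X δ) {F : X.Modules} (hF : Cyc.CohLe δ k F) :
    ∃ F' : X.Modules, Cyc.CohLe δ k F' ∧ TorsFree δ k F' ∧ (∀ η, δ η = k → lenN F' η = lenN F η) ∧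
      Cyc.toK0CohQuot δ k (k - 1) F = Cyc.toK0CohQuot δ k (k - 1) F' := by
  set S := kPts δ k F
  let E : ∀ η, Submodule (X.presheaf.stalk η) (F.presheaf.stalk η) := fun _ => ⊥
  set N := gSub F S E
  have hfin := finSet_kPts hd hF
  have hanti : AntiSet S := antiSet_kPts hd
  have hlen : ∀ η ∈ S, Module.length (X.presheaf.stalk η) (F.presheaf.stalk η) ≠ ⊤ :=
    fun η hη => length_ne_top hd hF hη.1
  have hq : Coh.IsQCoh N.toModules := isQCoh_gSub hF.1.1 hfin hlen
  have hN := cohLe_of_mono N.ι hq hF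
  have hN0 : ∀ η, δ η = k → Subsingleton (N.toModules.presheaf.stalk η) := fun η hη => by
    by_cases hS : η ∈ S
    · refine subsingleton_of_forall_eq 0 fun t => stalk_gSub_injective hF.1.1 hq η ?_
      rw [map_zero]
      exact (Submodule.mem_bot _).1 ((range_stalk_gSub hfin hanti hS (E := E)).le ⟨t, rfl⟩)
    · haveI := subsingleton_of_notMem_kPts hη hS
      exact (stalk_gSub_injective hF.1.1 hq η).subsingleton
  have hQ := cohLe_of_epi (cokernel.π N.ι) (QCoh.isQCoh_cokernel hq hF.1.1 _) hF
  have hses := KZ.shortExact_of_mono N.ι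
  refine ⟨cokernel N.ι, hQ, fun U hU s hs => ?_, fun η hη => ?_, ?_⟩
  · obtain ⟨t, rfl⟩ := QCoh.app_surjective_of_epi hF.1.1 hQ.1.1 (cokernel.π N.ι) hU s
    refine (QCoh.mem_range_iff_cokernel N.ι U t).2 (N.exists_app_eq fun η h hS => ?_)
    refine (Submodule.mem_bot _).2 ?_
    obtain ⟨-, h2, -⟩ := CycLib.stalk_shortExact hses hq hF.1.1 hQ.1.1 η
    obtain ⟨a, ha⟩ := (h2 (F.presheaf.germ U η h t)).1 ((CycLib.stalkAdd_germ _ η h t).trans (hs η h hS.1))
    haveI := hN0 η hS.1
    rw [← ha, Subsingleton.elim a 0, map_zero]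
  · unfold lenN
    rw [CycLib.length_stalk_shortExact hses hq hF.1.1 hQ.1.1 η, Module.length_eq_zero_iff.2 (hN0 η hη), zero_add]
  · rw [toK0_ses hses hN hF hQ, toK0_eq_zero (cohLe_pred hN hN0), zero_add]

theorem exists_layers (hd : Cyc.IsDimFun X δ) {F : X.Modules} (hF : Cyc.CohLe δ k F) :
    ∃ R : ℕ → X.Modules, (∀ i, Cyc.CohLe δ k (R i)) ∧ KZ.LF.Small KZ.LF.Vanish R ∧
      (∀ i η, δ η = k → Module.length (X.presheaf.stalk η) ((R i).presheaf.stalk η) =
        if i < lenN F η then 1 else 0) ∧
      Cyc.toK0CohQuot δ k (k - 1) F = Cyc.toK0CohQuot δ k (k - 1) (∐ R) := by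
  obtain ⟨G, hG, htf, hlenG, hcl⟩ := exists_torsFree hd hF
  set S := kPts δ k G
  have hfin := finSet_kPts hd hG
  have hanti : AntiSet S := antiSet_kPts hd
  have hlen : ∀ η ∈ S, Module.length (X.presheaf.stalk η) (G.presheaf.stalk η) ≠ ⊤ :=
    fun η hη => length_ne_top hd hG hη.1
  have hch : ∀ η : X, ∃ E : ℕ → Submodule (X.presheaf.stalk η) (G.presheaf.stalk η), δ η = k →
      E 0 = ⊤ ∧ (∀ i, E (i + 1) ≤ E i) ∧ ∀ i, Module.length _ (E i) = ((lenN G η - i : ℕ) : ℕ∞) := fun η => by
    by_cases hη : δ η = k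
    · obtain ⟨E, hE⟩ := exists_chain _ _ (cast_lenN hd hG hη).symm
      exact ⟨E, fun _ => hE⟩
    · exact ⟨fun _ => ⊤, fun h => absurd h hη⟩
  choose E hE using hch
  classical
  let E' : ℕ → ∀ η, Submodule (X.presheaf.stalk η) (G.presheaf.stalk η) :=
    fun i η => if δ η = k then E η i else ⊤
  let N : ℕ → QCoh.SubMod G := fun i => gSub G S (E' i)
  have hle : ∀ i η, E' (i + 1) η ≤ E' i η := fun i η => by
    by_cases h : δ η = k
    · simp only [E', if_pos h]; exact (hE η h).2.1 i
    · simp [E', h]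
  have hq : ∀ i, Coh.IsQCoh (N i).toModules := fun i => isQCoh_gSub hG.1.1 hfin hlen
  have hN : ∀ i, Cyc.CohLe δ k (N i).toModules := fun i => cohLe_of_mono (N i).ι (hq i) hG
  choose j hj using fun i => exists_hom_gSub hG.1.1 (hq (i + 1)) (hq i) (hle i)
  haveI hjm : ∀ i, Mono (j i) := fun i => by
    haveI : Mono (j i ≫ (gSub G S (E' i)).ι) := by
      rw [hj i]
      infer_instance
    exact mono_of_mono (j i) (gSub G S (E' i)).ι
  have hsmall : KZ.LF.Small KZ.LF.Vanish fun i => (N i).toModules := fun U => by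
    refine ⟨(hfin U).toFinset.sup fun η => lenN G η, fun i hi => subsingleton_of_forall_eq 0 fun s => ?_⟩
    refine (N i).ι_app_injective U.1 ((htf U.1 U.2 _ fun η h hη => ?_).trans (map_zero _).symm)
    by_cases hS : η ∈ S
    · have hm := (N i).ι_app_mem U.1 s η h hS
      have h0 : lenN G η - i = 0 := Nat.sub_eq_zero_of_le
        ((Finset.le_sup (f := fun η => lenN G η) ((hfin U).mem_toFinset.2 ⟨h, hS⟩)).trans hi)
      have hb : E' i η = ⊥ := by
        simp only [E', if_pos hη]
        have := (hE η hη).2.2 i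
        rw [h0, Nat.cast_zero, Module.length_eq_zero_iff] at this
        exact Submodule.subsingleton_iff_eq_bot.1 this
      exact (Submodule.mem_bot _).1 (hb ▸ hm)
    · haveI := subsingleton_of_notMem_kPts hη hS
      exact Subsingleton.elim _ _
  have hlN : ∀ i η, δ η = k →
      Module.length (X.presheaf.stalk η) ((N i).toModules.presheaf.stalk η) = ((lenN G η - i : ℕ) : ℕ∞) := by
    intro i η hη
    by_cases hS : η ∈ S
    · have e : E' i η = E η i := if_pos hη
      rw [length_stalk_gSub hG.1.1 (hq i) hfin hanti hS, e]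
      exact (hE η hη).2.2 i
    · haveI := subsingleton_of_notMem_kPts hη hS
      haveI := (stalk_gSub_injective hG.1.1 (hq i) η).subsingleton (β := G.presheaf.stalk η)
      have h0 : lenN G η = 0 := by rw [lenN, Module.length_eq_zero_iff.2 inferInstance]; rfl
      rw [Module.length_eq_zero_iff.2 inferInstance, h0, Nat.zero_sub, Nat.cast_zero]
  let R : ℕ → X.Modules := fun i => cokernel (j i)
  have qR : ∀ i, Coh.IsQCoh (R i) := fun i => QCoh.isQCoh_cokernel (hq (i + 1)) (hq i) (j i)
  have hR : ∀ i, Cyc.CohLe δ k (R i) := fun i => cohLe_of_epi (cokernel.π (j i)) (qR i) (hN i)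
  have hses : ∀ i, (ShortComplex.mk (j i) (cokernel.π (j i)) (cokernel.condition _)).ShortExact :=
    fun i => KZ.shortExact_of_mono _
  have sR : KZ.LF.Small KZ.LF.Vanish R :=
    small_of_epi (fun i => cokernel.π (j i)) (fun i => hq i) qR hsmall
  refine ⟨R, hR, sR, fun i η hη => ?_, ?_⟩
  · have h := CycLib.length_stalk_shortExact (hses i) (hq (i + 1)) (hq i) (qR i) η
    dsimp only at h
    rw [hlN i η hη, hlN (i + 1) η hη, hlenG η hη] at h
    refine (WithTop.add_left_cancel (z := ((if i < lenN F η then 1 else 0 : ℕ∞)))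
      (ENat.natCast_ne_top _) (h.symm.trans ?_))
    split_ifs with hi
    · rw [show lenN F η - i = lenN F η - (i + 1) + 1 by omega]; norm_cast
    · rw [add_zero, show lenN F η - i = lenN F η - (i + 1) by omega]
  · have h0 : IsIso (N 0).ι := by
      have hb : ∀ U : X.Opens, ∀ s : Γ(G, U), s ∈ (N 0).mem U := fun U s η h hS => by
        show _ ∈ (if δ η = k then E η 0 else ⊤)
        rw [if_pos hS.1, (hE η hS.1).1]
        trivial
      haveI : Epi (N 0).ι := ⟨fun {W} a b e => Scheme.Modules.hom_ext _ _ fun U => by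
        ext x
        obtain ⟨t, rfl⟩ := (N 0).exists_app_eq (hb U x)
        exact congrArg (fun φ : (N 0).toModules ⟶ W => φ.app U t) e⟩
      exact isIso_of_mono_of_epi _
    have hNs := cohLe_sigmaNat _ hN hsmall
    have hNt := cohLe_sigmaNat _ (fun i => hN (i + 1)) hsmall.tail
    rw [hcl, ← toK0_eq_of_cls (cls_iso (@asIso _ _ _ _ (N 0).ι h0) (hN 0))]
    exact congrArg QuotientAddGroup.mk (KZ.LF.clSub_chain (Cyc.CohLe δ k) j (fun i => cokernel.π (j i))
      (fun i => cokernel.condition _) hses (hN 0) hNs hNt (cohLe_sigmaNat R hR sR))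

end Groth.Agent.H9ChowK
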