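import Groth.Agent.H9ChowK.Ratio
import Groth.Agent.CycLib.Append

/-! Adapted systems of tuples and the length invariant of a module with trivialised determinants
at the height one primes. -/

set_option linter.unusedSectionVars false
set_option autoImplicit false

namespace Groth.Agent.H9ChowK

open CycDet IsLocalRing IntThLib Groth.Agent.CycLib
open Groth.Agent.CycLib.Ratio (ordQ)

universe u

variable {R : Type u} [CommRing R] [IsNoetherianRing R] [IsLocalRing R] {ι : Type u} [Fintype ι]
  (q : ι → PrimeSpectrum R) {S : ι → Type u} [∀ i, CommRing (S i)] [∀ i, IsLocalRing (S i)]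
  [∀ i, Algebra R (S i)] [hS : ∀ i, IsLocalization.AtPrime (S i) (q i).asIdeal]

section one

variable {M : Type u} [AddCommGroup M] [Module R M] (p : PrimeSpectrum R) {T : Type u} [CommRing T] [IsLocalRing T]
  [Algebra R T] [hT : IsLocalization.AtPrime T p.asIdeal] {W : Type u} [AddCommGroup W] [Module R W] [Module T W]
  [IsScalarTower R T W] (g : M →ₗ[R] W) [hg : IsLocalizedModule p.asIdeal.primeCompl g]

include hT in
/-- A span after localising pulls back up to a scalar. -/
theorem exists_smul_mem_span {A : Set M} {m : M} (h : g m ∈ Submodule.span T (g '' A)) :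
    ∃ t : R, t ∉ p.asIdeal ∧ t • m ∈ Submodule.span R A := by
  have key : ∀ v ∈ Submodule.span T (g '' A), ∃ (s : R) (w : M), s ∉ p.asIdeal ∧
      w ∈ Submodule.span R A ∧ algebraMap R T s • v = g w := by
    intro v hv
    induction hv using Submodule.span_induction with
    | mem v hv =>
      obtain ⟨a, ha, rfl⟩ := hv
      exact ⟨1, a, p.asIdeal.primeCompl.one_mem, Submodule.subset_span ha, by simp⟩
    | zero => exact ⟨1, 0, p.asIdeal.primeCompl.one_mem, zero_mem _, by simp⟩
    | add v v' _ _ ih ih' =>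
      obtain ⟨s, w, hs, hw, e⟩ := ih
      obtain ⟨s', w', hs', hw', e'⟩ := ih'
      refine ⟨s * s', s' • w + s • w', p.asIdeal.primeCompl.mul_mem hs hs',
        add_mem (Submodule.smul_mem _ _ hw) (Submodule.smul_mem _ _ hw'), ?_⟩
      rw [map_add, map_smul, map_smul, ← e, ← e', ← algebraMap_smul T s', ← algebraMap_smul T s,
        map_mul, smul_add, smul_smul, smul_smul, mul_comm (algebraMap R T s)]
    | smul c v _ ih =>
      obtain ⟨s, w, hs, hw, e⟩ := ih
      obtain ⟨a, t, ht, ha⟩ := Ratio.exists_fraction (S := T) p c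
      refine ⟨t * s, a • w, p.asIdeal.primeCompl.mul_mem ht hs, Submodule.smul_mem _ _ hw, ?_⟩
      rw [map_smul, ← e, ← algebraMap_smul T a, ← ha, map_mul, smul_smul, smul_smul]
      congr 1
      ring
  obtain ⟨s, w, hs, hw, e⟩ := key _ h
  rw [algebraMap_smul, ← map_smul] at e
  obtain ⟨c, hc⟩ := IsLocalizedModule.exists_of_eq (S := p.asIdeal.primeCompl) e
  refine ⟨(c : R) * s, p.asIdeal.primeCompl.mul_mem c.2 hs, ?_⟩
  rw [mul_smul, show (c : R) • s • m = (c : R) • w from hc]
  exact Submodule.smul_mem _ _ hw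

include hT hg in
/-- An element dying after localisation is killed by a scalar outside the prime. -/
theorem exists_smul_eq_zero_of_map {m : M} (h : g m = 0) : ∃ t : R, t ∉ p.asIdeal ∧ t • m = 0 := by
  obtain ⟨c, hc⟩ := (IsLocalizedModule.eq_zero_iff p.asIdeal.primeCompl g).mp h
  exact ⟨c, c.2, hc⟩

/-- A power of the maximal ideal kills the span of an admissible tuple. -/
theorem pow_smul_eq_zero {l : ℕ} {e : Fin l → W} (he : IsAdmissible T W e) {a : T} (ha : a ∈ maximalIdeal T) :
    ∀ k, k ≤ l → ∀ z ∈ spanBefore T W e k, a ^ k • z = 0 := by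
  intro k
  induction k with
  | zero => intro _ z hz; rw [spanBefore_zero, Submodule.mem_bot] at hz; rw [hz, smul_zero]
  | succ k ih =>
    intro hk z hz
    rw [show k + 1 = ((⟨k, hk⟩ : Fin l) : ℕ) + 1 from rfl, spanBefore_succ] at hz
    obtain ⟨v, hv, w, hw, rfl⟩ := Submodule.mem_sup.mp hz
    obtain ⟨c, rfl⟩ := Submodule.mem_span_singleton.mp hw
    show a ^ (k + 1) • (v + c • e ⟨k, hk⟩) = 0
    rw [pow_succ, mul_smul]
    refine ih (by omega) _ ?_
    rw [smul_add, smul_comm]
    exact add_mem (Submodule.smul_mem _ _ hv) (Submodule.smul_mem _ _ (he ⟨k, hk⟩ a ha))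

end one

section tuples

variable {M : Type u} [AddCommGroup M] [Module R M] {V : ι → Type u} [∀ i, AddCommGroup (V i)]
  [∀ i, Module R (V i)] [∀ i, Module (S i) (V i)] [∀ i, IsScalarTower R (S i) (V i)]
  (g : ∀ i, M →ₗ[R] V i) [hg : ∀ i, IsLocalizedModule (q i).asIdeal.primeCompl (g i)]
  (l : ι → ℕ)

/-- An adapted system: at each prime a chain with quotients `R ⧸ q i`, vanishing at the other primes. -/
structure Adapted (u : ∀ i, Fin (l i) → M) : Prop where
  adm : ∀ i, IsAdmissible (S i) (V i) (Ratio.loc (g i) (u i))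
  strict : ∀ i, Strict (S i) (Ratio.loc (g i) (u i))
  chain : ∀ i, ∀ j : Fin (l i), ∀ r ∈ (q i).asIdeal, r • u i j ∈ spanBefore R M (u i) j
  dead : ∀ i i', i' ≠ i → ∀ j : Fin (l i), g i' (u i j) = 0

variable {l}

variable (R) in
/-- The span of all entries. -/
def spanAll (u : ∀ i, Fin (l i) → M) : Submodule R M := ⨆ i, Submodule.span R (Set.range (u i))

variable {q g} {u : ∀ i, Fin (l i) → M}

theorem Adapted.dead_span (hu : Adapted q (S := S) g l u) {i i' : ι} (h : i' ≠ i) {z : M}
    (hz : z ∈ Submodule.span R (Set.range (u i))) : g i' z = 0 := by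
  refine (Submodule.span_le (p := LinearMap.ker (g i'))).mpr ?_ hz
  rintro _ ⟨j, rfl⟩
  exact hu.dead i i' h j

/-- The span of one chain injects into its localisation. -/
theorem Adapted.torsionFree (hu : Adapted q (S := S) g l u) (i : ι) {z : M}
    (hz : z ∈ Submodule.span R (Set.range (u i))) (h0 : g i z = 0) : z = 0 := by
  suffices H : ∀ k, k ≤ l i → ∀ z ∈ spanBefore R M (u i) k, g i z = 0 → z = 0 from
    H (l i) le_rfl z (by rwa [spanBefore_last (R := R) (u i) le_rfl]) h0
  intro k
  induction k with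
  | zero => intro _ z hz _; rwa [spanBefore_zero, Submodule.mem_bot] at hz
  | succ k ih =>
    intro hk z hz h0
    let kk : Fin (l i) := ⟨k, hk⟩
    rw [show k + 1 = (kk : ℕ) + 1 from rfl, spanBefore_succ] at hz
    obtain ⟨v, hv, w, hw, rfl⟩ := Submodule.mem_sup.mp hz
    obtain ⟨r, rfl⟩ := Submodule.mem_span_singleton.mp hw
    refine ih (by omega) _ (add_mem hv (hu.chain i kk r ?_)) h0
    refine Ratio.mem_of_smul_self (S := S i) (g := g i) (q i) (hu.strict i) kk ?_
    rw [show r • u i kk = (v + r • u i kk) - v by abel]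
    refine sub_mem ?_ (Ratio.spanBefore_le_sat (S := S i) (g := g i) (u i) kk hv)
    rw [Ratio.mem_sat, h0]
    exact zero_mem _

theorem exists_components {z : M} (hz : z ∈ spanAll R u) :
    ∃ s : ι → M, (∀ i, s i ∈ Submodule.span R (Set.range (u i))) ∧ ∑ i, s i = z := by
  classical
  refine Submodule.iSup_induction (motive := fun z => ∃ s : ι → M,
    (∀ i, s i ∈ Submodule.span R (Set.range (u i))) ∧ ∑ i, s i = z) _ hz (fun i x hx => ?_) ?_ ?_
  · refine ⟨Pi.single i x, fun j => ?_, by simp⟩
    rcases eq_or_ne j i with rfl | h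
    · rwa [Pi.single_eq_same]
    · rw [Pi.single_eq_of_ne h]; exact zero_mem _
  · exact ⟨0, fun i => zero_mem _, by simp⟩
  · rintro x y ⟨s, hs, rfl⟩ ⟨t, ht, rfl⟩
    exact ⟨s + t, fun i => add_mem (hs i) (ht i), Finset.sum_add_distrib⟩

theorem Adapted.map_component (hu : Adapted q (S := S) g l u) {s : ι → M}
    (hs : ∀ i, s i ∈ Submodule.span R (Set.range (u i))) (i : ι) : g i (∑ j, s j) = g i (s i) := by
  classical
  rw [map_sum, Finset.sum_eq_single i (fun j _ hj => hu.dead_span (Ne.symm hj) (hs j))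
    (fun h => absurd (Finset.mem_univ i) h)]

theorem Adapted.eq_zero_of_mem (hu : Adapted q (S := S) g l u) {z : M} (hz : z ∈ spanAll R u)
    (h : ∀ i, g i z = 0) : z = 0 := by
  obtain ⟨s, hs, rfl⟩ := exists_components hz
  refine Finset.sum_eq_zero fun i _ => hu.torsionFree i (hs i) ?_
  rw [← hu.map_component hs i, h]

variable (hl : ∀ i, Module.length (S i) (V i) = l i)

include hl in
theorem Adapted.span_top (hu : Adapted q (S := S) g l u) (i : ι) :
    Submodule.span (S i) (Set.range (Ratio.loc (g i) (u i))) = ⊤ :=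
  (strict_iff_span (hu.adm i) (hl i)).mp (hu.strict i)

include hl in
theorem Adapted.sat_last (hu : Adapted q (S := S) g l u) (i : ι) :
    Ratio.sat (S := S i) (g i) (u i) (l i) = ⊤ := by
  refine eq_top_iff.mpr fun z _ => ?_
  rw [Ratio.mem_sat, spanBefore_last _ le_rfl, hu.span_top hl i]
  trivial

theorem sat_zero (i : ι) : Ratio.sat (S := S i) (g i) (u i) 0 = LinearMap.ker (g i) := by
  ext z
  rw [Ratio.mem_sat, spanBefore_zero, Submodule.mem_bot, LinearMap.mem_ker]

theorem relLen_top (K : Submodule R M) : relLen R ⊤ K = Module.length R (M ⧸ K) :=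
  (Submodule.Quotient.equiv (K.submoduleOf ⊤) K Submodule.topEquiv (by
    ext z
    simp [Submodule.submoduleOf])).length_eq

include hl in
theorem Adapted.length_coord (hu : Adapted q (S := S) g l u) (i : ι) :
    Module.length R (M ⧸ (LinearMap.ker (g i) ⊔ Submodule.span R (Set.range (u i)))) =
      Ratio.total (S := S i) (g i) (u i) := by
  rw [← relLen_top, ← sat_zero (S := S) (g := g) (u := u) i, ← spanBefore_last (R := R) (u i) le_rfl, ← hu.sat_last hl i]
  exact Ratio.relLen_total (S := S i) (g := g i) (q i) (hu.strict i) (hu.chain i) (l i) le_rfl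

variable (g) in
/-- The map to the torsion-free parts at the primes. -/
def parts : M →ₗ[R] ∀ i, M ⧸ LinearMap.ker (g i) := LinearMap.pi fun i => (LinearMap.ker (g i)).mkQ

include hl in
/-- The length of the quotient by an adapted span, up to a term independent of the system. -/
theorem Adapted.length_identity (hu : Adapted q (S := S) g l u) :
    Module.length R (M ⧸ spanAll R u) + Module.length R ((∀ i, M ⧸ LinearMap.ker (g i)) ⧸ LinearMap.range (parts g)) =
      Module.length R (LinearMap.ker (parts g)) + ∑ i, Ratio.total (S := S i) (g i) (u i) := by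
  classical
  let K : ι → Submodule R M := fun i => LinearMap.ker (g i) ⊔ Submodule.span R (Set.range (u i))
  have hle : spanAll R u ≤ LinearMap.ker (LinearMap.pi fun i => (K i).mkQ) := by
    refine iSup_le fun j => ?_
    intro z hz
    rw [LinearMap.mem_ker]
    funext i
    show (K i).mkQ z = 0
    rw [Submodule.mkQ_apply, Submodule.Quotient.mk_eq_zero]
    rcases eq_or_ne i j with rfl | h
    · exact Submodule.mem_sup_right hz
    · exact Submodule.mem_sup_left (hu.dead_span h hz)
  let ψ : (M ⧸ spanAll R u) →ₗ[R] ∀ i, M ⧸ K i := (spanAll R u).liftQ _ hle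
  let π : (∀ i, M ⧸ LinearMap.ker (g i)) →ₗ[R] ∀ i, M ⧸ K i :=
    LinearMap.pi fun i => (Submodule.factor (le_sup_left : LinearMap.ker (g i) ≤ K i)) ∘ₗ LinearMap.proj i
  have hπp : π ∘ₗ parts g = LinearMap.pi fun i => (K i).mkQ := rfl
  have hπ : Function.Surjective π := fun y => by
    choose m hm using fun i => Submodule.mkQ_surjective (K i) (y i)
    exact ⟨fun i => (LinearMap.ker (g i)).mkQ (m i), funext fun i => hm i⟩
  have hrange : LinearMap.range ψ = LinearMap.range (π ∘ₗ parts g) := by rw [hπp]; exact Submodule.range_liftQ _ _ hle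
  have hker : LinearMap.ker ((LinearMap.range ψ).mkQ ∘ₗ π) = LinearMap.range (parts g) := by
    refine le_antisymm (fun y hy => ?_) ?_
    · rw [LinearMap.mem_ker, LinearMap.comp_apply, Submodule.mkQ_apply, Submodule.Quotient.mk_eq_zero, hrange] at hy
      obtain ⟨m, hm⟩ := hy
      have h1 : ∀ i, ∃ s ∈ Submodule.span R (Set.range (u i)), (LinearMap.ker (g i)).mkQ s = y i - parts g m i := fun i => by
        obtain ⟨a, ha⟩ := Submodule.mkQ_surjective _ (y i - parts g m i)
        have h2 : (K i).mkQ a = 0 := by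
          rw [show (K i).mkQ a = π (y - parts g m) i by
            show _ = Submodule.factor (le_sup_left : LinearMap.ker (g i) ≤ K i) ((y - parts g m) i)
            rw [Pi.sub_apply, ← ha]; rfl, map_sub]
          rw [show π y = π (parts g m) from hm.symm, sub_self, Pi.zero_apply]
        obtain ⟨b, hb, c, hc, hbc⟩ := Submodule.mem_sup.mp ((Submodule.Quotient.mk_eq_zero _).mp h2)
        refine ⟨c, hc, ?_⟩
        rw [← ha, Submodule.mkQ_apply, Submodule.mkQ_apply, Submodule.Quotient.eq, ← hbc]
        simpa using neg_mem hb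
      choose s hs hse using h1
      refine ⟨m + ∑ i, s i, funext fun i => ?_⟩
      show (LinearMap.ker (g i)).mkQ (m + ∑ j, s j) = y i
      have h3 : (LinearMap.ker (g i)).mkQ (∑ j, s j) = (LinearMap.ker (g i)).mkQ (s i) := by
        rw [Submodule.mkQ_apply, Submodule.mkQ_apply, Submodule.Quotient.eq, LinearMap.mem_ker, map_sub,
          hu.map_component hs i, sub_self]
      rw [map_add, h3, hse i]
      exact add_sub_cancel _ _
    · rintro _ ⟨m, rfl⟩
      rw [LinearMap.mem_ker, LinearMap.comp_apply, Submodule.mkQ_apply, Submodule.Quotient.mk_eq_zero, hrange]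
      exact ⟨m, rfl⟩
  have hcoker : Module.length R ((∀ i, M ⧸ K i) ⧸ LinearMap.range ψ) =
      Module.length R ((∀ i, M ⧸ LinearMap.ker (g i)) ⧸ LinearMap.range (parts g)) :=
    ((Submodule.quotEquivOfEq _ _ hker.symm).trans (LinearMap.quotKerEquivOfSurjective _
      ((Submodule.mkQ_surjective _).comp hπ))).length_eq.symm
  let κ : LinearMap.ker (parts g) →ₗ[R] LinearMap.ker ψ :=
    ((spanAll R u).mkQ ∘ₗ (LinearMap.ker (parts g)).subtype).codRestrict _ fun z => by
      show ψ ((spanAll R u).mkQ z.1) = 0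
      show (π ∘ₗ parts g) z.1 = 0
      rw [LinearMap.comp_apply, LinearMap.mem_ker.mp z.2, map_zero]
  have hκ : Function.Bijective κ := by
    refine ⟨(injective_iff_map_eq_zero _).2 fun z hz => Subtype.ext ?_, fun y => ?_⟩
    · refine hu.eq_zero_of_mem ((Submodule.Quotient.mk_eq_zero _).mp (congrArg Subtype.val hz)) fun i => ?_
      exact (Submodule.Quotient.mk_eq_zero _).mp (congrFun (LinearMap.mem_ker.mp z.2) i)
    · obtain ⟨⟨y, hy⟩, rfl⟩ : ∃ y', y' = y := ⟨y, rfl⟩
      obtain ⟨m, rfl⟩ := Submodule.mkQ_surjective _ y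
      have h1 : ∀ i, ∃ s ∈ Submodule.span R (Set.range (u i)), g i (m - s) = 0 := fun i => by
        obtain ⟨b, hb, c, hc, hbc⟩ := Submodule.mem_sup.mp
          ((Submodule.Quotient.mk_eq_zero _).mp (congrFun (LinearMap.mem_ker.mp hy) i))
        exact ⟨c, hc, by rw [← hbc, add_sub_cancel_right]; exact hb⟩
      choose s hs hse using h1
      refine ⟨⟨m - ∑ i, s i, LinearMap.mem_ker.mpr (funext fun i => (Submodule.Quotient.mk_eq_zero _).mpr ?_)⟩,
        Subtype.ext ((Submodule.Quotient.eq _).mpr ?_)⟩
      · rw [LinearMap.mem_ker, map_sub, hu.map_component hs i, ← map_sub]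
        exact hse i
      · rw [show (LinearMap.ker (parts g)).subtype ⟨m - ∑ i, s i, _⟩ = m - ∑ i, s i from rfl, sub_sub_cancel_left]
        exact neg_mem (sum_mem fun i _ => Submodule.mem_iSup_of_mem i (hs i))
  have h1 : Module.length R (M ⧸ spanAll R u) = Module.length R (LinearMap.ker ψ) + Module.length R (LinearMap.range ψ) :=
    Module.length_eq_add_of_exact (LinearMap.ker ψ).subtype ψ.rangeRestrict (Submodule.injective_subtype _)
      ψ.surjective_rangeRestrict (LinearMap.exact_iff.mpr (by rw [LinearMap.ker_rangeRestrict, Submodule.range_subtype]))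
  have h2 : Module.length R (∀ i, M ⧸ K i) =
      Module.length R (LinearMap.range ψ) + Module.length R ((∀ i, M ⧸ K i) ⧸ LinearMap.range ψ) :=
    Module.length_eq_add_of_exact (LinearMap.range ψ).subtype (LinearMap.range ψ).mkQ (Submodule.injective_subtype _)
      (Submodule.mkQ_surjective _) (LinearMap.exact_subtype_mkQ _)
  rw [h1, ← (LinearEquiv.ofBijective κ hκ).length_eq, add_assoc, ← hcoker, ← h2, Module.length_pi_of_fintype]
  exact congrArg _ (Finset.sum_congr rfl fun i _ => hu.length_coord hl i)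

end tuples

end Groth.Agent.H9ChowK
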