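import Groth.Agent.H9ChowK.DivPair

/-! Rational equivalence gives equal classes. -/

set_option autoImplicit false
set_option linter.unusedSectionVars false
set_option linter.style.haveILetI false
set_option backward.isDefEq.respectTransparency false
set_option backward.isDefEq.respectTransparency.types false

universe u

open CategoryTheory CategoryTheory.Limits AlgebraicGeometry TopologicalSpace Opposite

namespace Groth.Agent.H9ChowK

open Groth.Agent

variable {X : Scheme.{u}}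

instance hasExactColimits_discrete (J : Type u) : HasExactColimitsOfShape (Discrete J) X.Modules := by
  haveI : IsGrothendieckAbelian.{u} X.Modules := SiteBase.isGrothendieckAbelian_sheafOfModules _
  infer_instance

theorem sigmaShortExact {J : Type u} {F G R : J → X.Modules} (f : ∀ j, F j ⟶ G j) (g : ∀ j, G j ⟶ R j)
    (w : ∀ j, f j ≫ g j = 0) (h : ∀ j, (ShortComplex.mk (f j) (g j) (w j)).ShortExact) :
    (ShortComplex.mk (Limits.Sigma.map f) (Limits.Sigma.map g)
      (Sigma.hom_ext _ _ fun k => by simp [reassoc_of% w k])).ShortExact := by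
  haveI : ∀ j, Mono (f j) := fun j => (h j).mono_f
  haveI : ∀ j, Epi (g j) := fun j => (h j).epi_g
  haveI : Epi (Limits.Sigma.map g) := ⟨fun {Z} a b hab => Sigma.hom_ext _ _ fun j => by
    have := Sigma.ι G j ≫= hab
    simp only [Sigma.ι_map_assoc] at this
    exact (cancel_epi (g j)).1 this⟩
  haveI : Mono (Limits.Sigma.map f) := by
    haveI : ∀ j, Mono ((Discrete.natTrans (fun j : Discrete J => f j.as) :
        Discrete.functor F ⟶ Discrete.functor G).app j) := fun j => inferInstanceAs (Mono (f j.as))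
    haveI : Mono (Discrete.natTrans (fun j : Discrete J => f j.as) : Discrete.functor F ⟶ Discrete.functor G) :=
      NatTrans.mono_of_mono_app _
    exact inferInstanceAs (Mono (colim.map (Discrete.natTrans (fun j : Discrete J => f j.as) :
      Discrete.functor F ⟶ Discrete.functor G)))
  refine .mk' (ShortComplex.exact_of_g_is_cokernel _ ?_) inferInstance inferInstance
  refine CokernelCofork.IsColimit.ofπ _ _
    (fun {W} a ha => Sigma.desc fun j =>
      haveI : Epi (ShortComplex.mk (f j) (g j) (w j)).g := (h j).epi_g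
      (h j).exact.desc (Sigma.ι G j ≫ a) (by
        have := Sigma.ι F j ≫= ha
        simpa using this))
    (fun {W} a ha => Sigma.hom_ext _ _ fun j => by
      haveI : Epi (ShortComplex.mk (f j) (g j) (w j)).g := (h j).epi_g
      simp only [Sigma.ι_map_assoc, Sigma.ι_desc]
      exact (h j).exact.g_desc _ _)
    (fun {W} a ha b hb => ?_)
  refine (cancel_epi (Limits.Sigma.map g)).1 (hb.trans ?_)
  refine Sigma.hom_ext _ _ fun j => ?_
  haveI : Epi (ShortComplex.mk (f j) (g j) (w j)).g := (h j).epi_g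
  simp only [Sigma.ι_map_assoc, Sigma.ι_desc]
  exact ((h j).exact.g_desc _ _).symm

variable [IsLocallyNoetherian X] {δ : X → ℤ} {k : ℤ}

theorem cohLe_sigma {n : ℤ} {J : Type u} (f : J → X.Modules) (hf : ∀ j, Cyc.CohLe δ n (f j)) (hl : LocFin f) :
    Cyc.CohLe δ n (∐ f) :=
  ⟨isCoh_sigma f (fun j => (hf j).1) hl, fun x hx => by
    obtain ⟨j, hj⟩ := exists_summand_of_mem_support f (fun j => (hf j).1.1) hl
      (not_subsingleton_iff_nontrivial.2 hx)
    exact (hf j).2 x (not_subsingleton_iff_nontrivial.1 hj)⟩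

/-- Enlarging the bound on the dimension. -/
theorem exists_inclHom (δ : X → ℤ) (k : ℤ) :
    ∃ I : Cyc.K0CohQuot δ k (k - 1) →+ Cyc.K0CohQuot δ (k + 1) (k - 1),
      ∀ F, Cyc.CohLe δ k F → I (Cyc.toK0CohQuot δ k (k - 1) F) = Cyc.toK0CohQuot δ (k + 1) (k - 1) F := by
  obtain ⟨f, hf⟩ := KZ.exists_liftSub (Cyc.CohLe δ k) (Cyc.toK0CohQuot δ (k + 1) (k - 1)) fun S hS h₁ h₂ h₃ =>
    toK0_ses hS (cohLe_mono (by omega) h₁) (cohLe_mono (by omega) h₂) (cohLe_mono (by omega) h₃)
  refine ⟨QuotientAddGroup.lift _ f ?_, fun F hF => hf F hF⟩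
  rw [AddSubgroup.closure_le]
  rintro c ⟨F, hF, rfl⟩
  rw [SetLike.mem_coe, AddMonoidHom.mem_ker, hf F (cohLe_mono (by omega) hF), toK0_eq_zero hF]

/-- Cycles with equal functions have equal differences of classes. -/
theorem toK0_sub_eq (hd : Cyc.IsDimFun X δ) {P P' Q Q' : X.Modules} (hP : Cyc.CohLe δ k P) (hP' : Cyc.CohLe δ k P')
    (hQ : Cyc.CohLe δ k Q) (hQ' : Cyc.CohLe δ k Q')
    (h : Cyc.sheafFun δ k P - Cyc.sheafFun δ k P' = Cyc.sheafFun δ k Q - Cyc.sheafFun δ k Q') :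
    Cyc.toK0CohQuot δ (k + 1) (k - 1) P - Cyc.toK0CohQuot δ (k + 1) (k - 1) P' =
      Cyc.toK0CohQuot δ (k + 1) (k - 1) Q - Cyc.toK0CohQuot δ (k + 1) (k - 1) Q' := by
  obtain ⟨ψ, hψ, hinj⟩ := exists_sheafFunHom hd k
  obtain ⟨I, hI⟩ := exists_inclHom δ k
  rw [← hI P hP, ← hI P' hP', ← hI Q hQ, ← hI Q' hQ', ← map_sub, ← map_sub]
  exact congrArg I (hinj (by rw [map_sub, map_sub, hψ P hP, hψ P' hP', hψ Q hQ, hψ Q' hQ', h]))

theorem sheafFun_sigma (hd : Cyc.IsDimFun X δ) {J : Type u} (f : J → X.Modules) (hf : ∀ j, Cyc.CohLe δ k (f j))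
    {U : X.Opens} (hU : IsAffineOpen U) {x : X} (hx : x ∈ U) (s : Finset J)
    (hv : ∀ j, j ∉ s → Subsingleton Γ(f j, U)) :
    Cyc.sheafFun δ k (∐ f) x = ∑ j ∈ s, Cyc.sheafFun δ k (f j) x := by
  by_cases hk : δ x = k
  · simp only [Cyc.sheafFun, if_pos hk]
    rw [length_stalk_sigma f (fun j => (hf j).1.1) hU hx s hv,
      ENat.toNat_sum fun j _ => length_ne_top hd (hf j) hk, Nat.cast_sum]
  · simp [Cyc.sheafFun, hk]

theorem toK0_cycleSheaf_eq_of_ratEquivZero (hd : Cyc.IsDimFun X δ) {α : AlgebraicCycle X ℤ}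
    (hα : α ∈ Cyc.Zk X δ k) (h0 : Cyc.RatEquivZero δ k α) :
    Cyc.toK0CohQuot δ (k + 1) (k - 1) (Cyc.cycleSheafPos ⇑α) =
      Cyc.toK0CohQuot δ (k + 1) (k - 1) (Cyc.cycleSheafNeg ⇑α) := by
  obtain ⟨J, ξ, f, h1, h2, h4, h5⟩ := h0
  choose K p q hp hq hK hP hQ hdiv using fun j => exists_div_pair hd (h1 j) (h2 j)
  have hO : ∀ j, Cyc.CohLe δ (k + 1) (Cyc.closureStructureSheaf (ξ j)) := fun j => ⟨isCoh_closure _, fun z hz =>
    (delta_le_of_mem_support_closure hd (not_subsingleton_iff_nontrivial.2 hz)).1.trans (h1 j).le⟩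
  have hfinU : ∀ U : X.affineOpens, {j | ξ j ∈ U.1}.Finite := fun U => by
    choose O hOo hzO hfin using h4
    obtain ⟨T, hT⟩ := U.2.isCompact.elim_finite_subcover O hOo fun z _ => Set.mem_iUnion.2 ⟨z, hzO z⟩
    refine (Set.Finite.biUnion T.finite_toSet fun z _ => hfin z).subset fun j hj => ?_
    obtain ⟨z, hzT, hz⟩ := Set.mem_iUnion₂.1 (hT hj)
    exact Set.mem_biUnion (x := z) hzT ⟨ξ j, subset_closure rfl, hz⟩
  have vO : ∀ (U : X.affineOpens) j, ξ j ∉ U.1 → Subsingleton Γ(Cyc.closureStructureSheaf (ξ j), U.1) :=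
    fun U j hj => subsingleton_closure_of_notMem hj
  have vK : ∀ (U : X.affineOpens) j, ξ j ∉ U.1 → Subsingleton Γ(K j, U.1) := fun U j hj =>
    haveI := hp j; haveI := vO U j hj
    (QCoh.app_injective (p j) U.1).subsingleton
  have vC : ∀ (r : ∀ j, K j ⟶ Cyc.closureStructureSheaf (ξ j)) (U : X.affineOpens) j, ξ j ∉ U.1 →
      Subsingleton Γ(cokernel (r j), U.1) := fun r U j hj =>
    haveI := vO U j hj
    (QCoh.app_surjective_of_epi (hO j).1.1 (QCoh.isQCoh_cokernel (hK j).1.1 (hO j).1.1 (r j))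
      (cokernel.π (r j)) U.2).subsingleton
  have lf : ∀ F : J → X.Modules, (∀ (U : X.affineOpens) j, ξ j ∉ U.1 → Subsingleton Γ(F j, U.1)) → LocFin F :=
    fun F hF U => (hfinU U).subset fun j hj => by_contra fun hn => hj (hF U j hn)
  have hQs := cohLe_sigma _ hQ (lf _ (vC q))
  have hPs := cohLe_sigma _ hP (lf _ (vC p))
  have hKs := cohLe_sigma _ hK (lf _ vK)
  have hOs := cohLe_sigma _ hO (lf _ vO)
  have e1 := toK0_ses (b := k - 1) (sigmaShortExact p (fun j => cokernel.π (p j)) (fun j => cokernel.condition _)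
    fun j => haveI := hp j; KZ.shortExact_of_mono _) hKs hOs (cohLe_mono (by omega) hPs)
  have e2 := toK0_ses (b := k - 1) (sigmaShortExact q (fun j => cokernel.π (q j)) (fun j => cokernel.condition _)
    fun j => haveI := hq j; KZ.shortExact_of_mono _) hKs hOs (cohLe_mono (by omega) hQs)
  have heq := add_left_cancel (e1.symm.trans e2)
  have hk : ∀ ζ, (⇑α : X → ℤ) ζ ≠ 0 → δ ζ = k := fun ζ hζ => by_contra fun hn => hζ (hα ζ hn)
  have hf := finPts_cycle α
  have hfun : Cyc.sheafFun δ k (∐ fun j => cokernel (q j)) - Cyc.sheafFun δ k (∐ fun j => cokernel (p j)) = ⇑α := by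
    funext x
    obtain ⟨U, hU, hxU⟩ := QCoh.exists_affine_mem x
    rw [Pi.sub_apply, h5 x,
      sheafFun_sigma hd _ hQ hU hxU (hfinU ⟨U, hU⟩).toFinset
        (fun j hj => vC q ⟨U, hU⟩ j fun h => hj ((hfinU ⟨U, hU⟩).mem_toFinset.2 h)),
      sheafFun_sigma hd _ hP hU hxU (hfinU ⟨U, hU⟩).toFinset
        (fun j hj => vC p ⟨U, hU⟩ j fun h => hj ((hfinU ⟨U, hU⟩).mem_toFinset.2 h)),
      ← Finset.sum_sub_distrib, finsum_eq_sum_of_support_subset]
    · exact Finset.sum_congr rfl fun j _ => hdiv j x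
    · intro j hj
      exact (hfinU ⟨U, hU⟩).mem_toFinset.2
        ((specializes_iff_mem_closure.2 (CycLib.mem_closure_of_divFun_ne_zero hj)).mem_open U.2 hxU)
  have hfin := toK0_sub_eq hd (cohLe_cycleSheafPos hd hf hk)
    (cohLe_cycleSheafPos hd (finPts_neg hf) fun ζ hζ => hk ζ (by simpa using hζ)) hQs hPs
    ((cycle_eq_sub hd hf hk).trans hfun.symm)
  rw [← sub_eq_zero]
  exact hfin.trans (sub_eq_zero.2 heq.symm)

end Groth.Agent.H9ChowK
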