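import Groth.Agent.CycLib.Ratio

/-! Symbols against a fixed tuple in a localisation of a module, and saturation lengths. -/

set_option linter.unusedSectionVars false
set_option autoImplicit false

namespace Groth.Agent.H9ChowK.Ratio

open CycDet IsLocalRing IntThLib Groth.Agent.CycLib
open Groth.Agent.CycLib.Ratio (ordQ ordQ_mul ordQ_neg relLen_sup_inf)

universe u

variable {R : Type u} [CommRing R] [IsNoetherianRing R] [IsLocalRing R] (q : PrimeSpectrum R)
  {S : Type u} [CommRing S] [IsLocalRing S] [Algebra R S] [hS : IsLocalization.AtPrime S q.asIdeal]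
  {N : Type u} [AddCommGroup N] [Module R N] {V : Type u} [AddCommGroup V] [Module R V] [Module S V]
  [IsScalarTower R S V] (g : N →ₗ[R] V) {l : ℕ}

/-- The tuple in the localised module. -/
abbrev loc (u : Fin l → N) : Fin l → V := g ∘ u

/-- Saturation of the first `k` entries. -/
noncomputable def sat (u : Fin l → N) (k : ℕ) : Submodule R N :=
  ((spanBefore S V (loc g u) k).restrictScalars R).comap (g)

variable {g}

theorem mem_sat {u : Fin l → N} {k : ℕ} {z : N} :
    z ∈ sat (S := S) g u k ↔ g z ∈
      spanBefore S V (loc g u) k :=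
  Iff.rfl

theorem unit_alg {s : R} (hs : s ∉ q.asIdeal) : IsUnit (algebraMap R S s) :=
  IsLocalization.map_units S (⟨s, hs⟩ : q.asIdeal.primeCompl)

theorem alg_mem_max {r : R} : algebraMap R S r ∈ maximalIdeal S ↔ r ∈ q.asIdeal :=
  IsLocalization.AtPrime.to_map_mem_maximal_iff S q.asIdeal r

theorem smul_mem_sat {u : Fin l → N} {k : ℕ} {s : R} (hs : s ∉ q.asIdeal) {z : N} :
    s • z ∈ sat (S := S) g u k ↔ z ∈ sat (S := S) g u k := by
  rw [mem_sat, mem_sat, map_smul, ← algebraMap_smul S s]
  exact smul_mem_unit_iff (unit_alg (S := S) q hs)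

theorem sat_mono (u : Fin l → N) {i j : ℕ} (h : i ≤ j) : sat (S := S) g u i ≤ sat (S := S) g u j :=
  fun _ hz => spanBefore_mono _ h hz

theorem spanBefore_le_sat (u : Fin l → N) (k : ℕ) : spanBefore R N u k ≤ sat (S := S) g u k := by
  refine Submodule.span_le.mpr ?_
  rintro _ ⟨j, hj, rfl⟩
  exact mem_spanBefore (e := loc g u) hj

set_option maxHeartbeats 400000 in
theorem smul_self_mem {u : Fin l → N} (hu : IsAdmissible S V (loc g u)) (j : Fin l) {r : R}
    (hr : r ∈ q.asIdeal) : r • u j ∈ sat (S := S) g u j := by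
  rw [mem_sat, map_smul, ← algebraMap_smul S r]
  exact hu j _ ((alg_mem_max (S := S) q).mpr hr)

theorem mem_of_smul_self {u : Fin l → N} (hu : Strict S (loc g u)) (j : Fin l) {r : R}
    (hr : r • u j ∈ sat (S := S) g u j) : r ∈ q.asIdeal := by
  by_contra h
  exact hu j (mem_sat.mp ((smul_mem_sat (S := S) (g := g) q h).mp hr))

theorem exists_fraction (c : S) : ∃ a s : R, s ∉ q.asIdeal ∧ algebraMap R S s * c = algebraMap R S a := by
  obtain ⟨⟨a, s⟩, h⟩ := IsLocalization.surj q.asIdeal.primeCompl c
  exact ⟨a, s, s.2, by rw [mul_comm]; exact h⟩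

theorem sat_succ {u : Fin l → N} (j : Fin l) {z : N} (hz : z ∈ sat (S := S) g u (j + 1)) :
    ∃ a s : R, s ∉ q.asIdeal ∧ s • z - a • u j ∈ sat (S := S) g u j := by
  rw [mem_sat, spanBefore_succ, Submodule.mem_sup] at hz
  obtain ⟨v, hv, w, hw, hvw⟩ := hz
  obtain ⟨c, rfl⟩ := Submodule.mem_span_singleton.mp hw
  obtain ⟨a, s, hs, h⟩ := exists_fraction q c
  refine ⟨a, s, hs, ?_⟩
  rw [mem_sat, map_sub, map_smul, map_smul, ← hvw, ← algebraMap_smul S s, ← algebraMap_smul S a, ← h,
    smul_add, smul_smul]
  simpa using Submodule.smul_mem _ (algebraMap R S s) hv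

variable (g) in
/-- The length between saturation and span in one step. -/
noncomputable def gap (u : Fin l → N) (k : ℕ) : ℕ∞ :=
  relLen R (sat (S := S) g u (k + 1)) (sat (S := S) g u k ⊔ spanBefore R N u (k + 1))

theorem gap_eq (u : Fin l → N) (j : Fin l) :
    gap (S := S) g u j = relLen R (sat (S := S) g u (j + 1)) (sat (S := S) g u j ⊔ Submodule.span R {u j}) := by
  rw [gap, spanBefore_succ, ← sup_assoc, sup_eq_left.mpr (spanBefore_le_sat (S := S) (g := g) u j)]

variable (g) in
/-- The total length. -/
noncomputable def total (u : Fin l → N) : ℕ∞ := ∑ k ∈ Finset.range l, gap (S := S) g u k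

theorem relLen_scale {u : Fin l → N} (hs : Strict S (loc g u)) (hu : IsAdmissible S V (loc g u))
    (j : Fin l) (a : R) :
    relLen R (sat (S := S) g u j ⊔ Submodule.span R {u j}) (sat (S := S) g u j ⊔ Submodule.span R {a • u j}) = ordQ q a := by
  let P := sat (S := S) g u j ⊔ Submodule.span R {a • u j}
  let T := sat (S := S) g u j ⊔ Submodule.span R {u j}
  let g : R →ₗ[R] (↥T ⧸ P.submoduleOf T) := (P.submoduleOf T).mkQ ∘ₗ
    LinearMap.toSpanSingleton R T ⟨u j, Submodule.mem_sup_right (Submodule.mem_span_singleton_self _)⟩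
  have hker : LinearMap.ker g = q.asIdeal ⊔ Ideal.span {a} := by
    ext r
    show Submodule.Quotient.mk _ = 0 ↔ _
    rw [Submodule.Quotient.mk_eq_zero]
    show r • u j ∈ P ↔ _
    rw [Submodule.mem_sup, Submodule.mem_sup]
    constructor
    · rintro ⟨w, hw, z, hz, h⟩
      obtain ⟨t, rfl⟩ := Submodule.mem_span_singleton.mp hz
      refine ⟨r - t * a, mem_of_smul_self q hs j ?_, t * a, Ideal.mem_span_singleton'.mpr ⟨t, rfl⟩,
        sub_add_cancel _ _⟩
      rw [sub_smul, mul_smul, ← h, add_sub_cancel_right]
      exact hw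
    · rintro ⟨w, hw, z, hz, rfl⟩
      obtain ⟨t, rfl⟩ := Ideal.mem_span_singleton'.mp hz
      exact ⟨w • u j, smul_self_mem q hu j hw, t • a • u j,
        Submodule.smul_mem _ _ (Submodule.mem_span_singleton_self _), by rw [smul_smul, ← add_smul]⟩
  have hsurj : Function.Surjective g := fun z => by
    obtain ⟨⟨z, hz⟩, rfl⟩ := Submodule.mkQ_surjective _ z
    obtain ⟨w, hw, b, hb, hwb⟩ := Submodule.mem_sup.mp hz
    obtain ⟨r, rfl⟩ := Submodule.mem_span_singleton.mp hb
    refine ⟨r, (Submodule.Quotient.eq _).mpr ?_⟩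
    show r • u j - z ∈ P
    rw [← hwb, sub_add_cancel_right]
    exact Submodule.mem_sup_left (neg_mem hw)
  rw [ordQ, ord_eq_length, relLen]
  exact ((Submodule.quotEquivOfEq _ _ hker.symm).trans (g.quotKerEquivOfSurjective hsurj)).length_eq.symm

theorem loc_span_top (hl : Module.length S V = l) {u : Fin l → N}
    (hu : IsAdmissible S V (loc g u)) (hs : Strict S (loc g u)) :
    Submodule.span S (Set.range (loc g u)) = ⊤ :=
  (strict_iff_span hu hl).mp hs

variable (g) in
/-- The symbol of `u` against `y` is a fraction whose order is the difference of the total lengths. -/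
def Prop' (y u : Fin l → N) : Prop :=
  ∃ a s : R, a ∉ q.asIdeal ∧ s ∉ q.asIdeal ∧
    clsT S (loc g u) = (residue S (algebraMap R _ a) / residue S (algebraMap R _ s)) •
      clsT S (loc g y) ∧ total (S := S) g u + ordQ q s = total (S := S) g y + ordQ q a

theorem spanBefore_swap {W : Type u} [AddCommGroup W] [Module S W] (e : Fin l → W) {a b : Fin l}
    (hab : (b : ℕ) + 1 = a) {k : ℕ} (hk : k ≠ a) :
    spanBefore S W (e ∘ Equiv.swap a b) k = spanBefore S W e k := by
  rw [spanBefore, spanBefore, Set.image_comp]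
  congr 2
  ext t
  simp only [Set.mem_image, Set.mem_ofPred_eq]
  constructor
  · rintro ⟨s, hs, rfl⟩
    rcases eq_or_ne s a with rfl | h1
    · rw [Equiv.swap_apply_left]; omega
    rcases eq_or_ne s b with rfl | h2
    · rw [Equiv.swap_apply_right]; omega
    rw [Equiv.swap_apply_of_ne_of_ne h1 h2]; exact hs
  · intro ht
    refine ⟨Equiv.swap a b t, ?_, Equiv.swap_apply_self _ _ _⟩
    rcases eq_or_ne t a with rfl | h1
    · rw [Equiv.swap_apply_left]; omega
    rcases eq_or_ne t b with rfl | h2
    · rw [Equiv.swap_apply_right]; omega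
    rw [Equiv.swap_apply_of_ne_of_ne h1 h2]; exact ht

include q hS in
theorem total_swap {u : Fin l → N} (hs : Strict S (loc g u))
    (hu : IsAdmissible S V (loc g u)) {a b : Fin l} (hab : (b : ℕ) + 1 = a)
    (hm : ∀ r ∈ maximalIdeal S, r • loc g u a ∈ spanBefore S V (loc g u) b)
    (hs' : Strict S (loc g (u ∘ Equiv.swap a b))) :
    total (S := S) g (u ∘ Equiv.swap a b) = total (S := S) g u := by
  classical
  set u' := u ∘ Equiv.swap a b
  have hsat : ∀ k, k ≠ (a : ℕ) → sat (S := S) g u' k = sat (S := S) g u k := fun k hk => by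
    unfold sat
    rw [show loc g u' = loc g u ∘ Equiv.swap a b from rfl, spanBefore_swap _ hab hk]
  have two : ∀ {v : Fin l → N}, Strict S (loc g v) →
      (∀ r ∈ q.asIdeal, r • v a ∈ sat (S := S) g v b) →
      gap (S := S) g v b + gap (S := S) g v a = relLen R (sat (S := S) g v (a + 1))
        (sat (S := S) g v b ⊔ Submodule.span R {v b} ⊔ Submodule.span R {v a}) := by
    intro v hv hmv
    have hA : sat (S := S) g v b ≤ sat (S := S) g v a := sat_mono (S := S) (g := g) v (by omega)
    have hvb : v b ∈ sat (S := S) g v a := mem_spanBefore (e := loc g v) (by omega)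
    have hC : sat (S := S) g v a ≤ sat (S := S) g v (a + 1) := sat_mono (S := S) (g := g) v (Nat.le_succ _)
    have hva : v a ∈ sat (S := S) g v (a + 1) := mem_spanBefore (e := loc g v) (Nat.lt_succ_self _)
    set T := sat (S := S) g v b ⊔ Submodule.span R {v b} ⊔ Submodule.span R {v a}
    have hBT : sat (S := S) g v a ⊔ T = sat (S := S) g v a ⊔ Submodule.span R {v a} := by
      simp only [T, ← sup_assoc]
      rw [sup_eq_left.mpr hA, sup_eq_left.mpr (Submodule.span_le.mpr (Set.singleton_subset_iff.mpr hvb) :
        Submodule.span R {v b} ≤ sat (S := S) g v a)]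
    have hinf : sat (S := S) g v a ⊓ T = sat (S := S) g v b ⊔ Submodule.span R {v b} := by
      refine le_antisymm ?_ (le_inf (sup_le hA (Submodule.span_le.mpr (Set.singleton_subset_iff.mpr hvb))) le_sup_left)
      rintro z ⟨hz, hzT⟩
      obtain ⟨w, hw, t, ht, rfl⟩ := Submodule.mem_sup.mp hzT
      obtain ⟨r, rfl⟩ := Submodule.mem_span_singleton.mp ht
      refine add_mem hw (Submodule.mem_sup_left (hmv r (mem_of_smul_self q hv a ?_)))
      have hw' : w ∈ sat (S := S) g v a :=
        sup_le hA (Submodule.span_le.mpr (Set.singleton_subset_iff.mpr hvb)) hw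
      simpa using sub_mem hz hw'
    have hTC : T ≤ sat (S := S) g v (a + 1) :=
      sup_le (sup_le (hA.trans hC) (Submodule.span_le.mpr (Set.singleton_subset_iff.mpr (hC hvb))))
        (Submodule.span_le.mpr (Set.singleton_subset_iff.mpr hva))
    rw [relLen_add (le_sup_right : T ≤ sat (S := S) g v a ⊔ T) (sup_le hC hTC), relLen_sup_inf, hinf, hBT, gap_eq, gap_eq,
      hab]
  have hmu : ∀ r ∈ q.asIdeal, r • u a ∈ sat (S := S) g u b := fun r hr => by
    rw [mem_sat, map_smul, ← algebraMap_smul S r]
    exact hm _ ((alg_mem_max (S := S) q).mpr hr)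
  have hmu' : ∀ r ∈ q.asIdeal, r • u' a ∈ sat (S := S) g u' b := fun r hr => by
    rw [hsat b (by omega), show u' a = u b from congrArg u (Equiv.swap_apply_left a b)]
    exact smul_self_mem q hu b hr
  have hsum : ∀ v : Fin l → N, total (S := S) g v = gap (S := S) g v b + gap (S := S) g v a +
      ∑ k ∈ ((Finset.range l).erase b).erase a, gap (S := S) g v k := fun v => by
    rw [total, ← Finset.add_sum_erase _ _ (Finset.mem_range.mpr b.2),
      ← Finset.add_sum_erase _ _ (Finset.mem_erase.mpr ⟨by omega, Finset.mem_range.mpr a.2⟩), add_assoc]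
  rw [hsum u', hsum u, two hs' hmu', two hs hmu, hsat b (by omega), hsat _ (by omega),
    show u' a = u b from congrArg u (Equiv.swap_apply_left a b),
    show u' b = u a from congrArg u (Equiv.swap_apply_right a b), sup_assoc, sup_assoc,
    sup_comm (Submodule.span R {u a}) (Submodule.span R {u b})]
  congr 1
  refine Finset.sum_congr rfl fun k hk => ?_
  simp only [Finset.mem_erase, Finset.mem_range] at hk
  obtain ⟨hka, hkb, hkl⟩ := hk
  have hkk : u' ⟨k, hkl⟩ = u ⟨k, hkl⟩ := congrArg u (Equiv.swap_apply_of_ne_of_ne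
    (fun h => hka (congrArg Fin.val h)) fun h => hkb (congrArg Fin.val h))
  have g1 := gap_eq (S := S) (g := g) u' ⟨k, hkl⟩
  have g2 := gap_eq (S := S) (g := g) u ⟨k, hkl⟩
  rw [hkk, hsat _ hka, hsat _ (fun h => hkb (by simp only at h; omega))] at g1
  exact g1.trans g2.symm

theorem residue_alg_ne_zero {s : R} (hs : s ∉ q.asIdeal) : residue S (algebraMap R _ s) ≠ 0 :=
  residue_ne_zero (unit_alg (S := S) q hs)

theorem total_update {u : Fin l → N} (hs : Strict S (loc g u)) (hu : IsAdmissible S V (loc g u))
    {i : Fin l} {z : N} {a s : R} (hsq : s ∉ q.asIdeal) (haq : a ∉ q.asIdeal)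
    (hmem : s • z - a • u i ∈ sat (S := S) g u i) :
    IsAdmissible S V (loc g (Function.update u i z)) ∧
    Strict S (loc g (Function.update u i z)) ∧
    (clsT S (loc g u) = (residue S (algebraMap R _ s) / residue S (algebraMap R _ a)) •
      clsT S (loc g (Function.update u i z))) ∧
    total (S := S) g u + ordQ q a = total (S := S) g (Function.update u i z) + ordQ q s := by
  classical
  set u' := Function.update u i z
  have hii : u' i = z := Function.update_self i z u
  have hne : ∀ j, j ≠ i → u' j = u j := fun j hj => Function.update_of_ne hj _ _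
  obtain ⟨ua, hua⟩ := unit_alg (S := S) q haq
  obtain ⟨us, hus⟩ := unit_alg (S := S) q hsq
  have hd : loc g u i - ((ua⁻¹ * us : Sˣ) : S) • loc g u' i ∈ spanBefore S V (loc g u) i := by
    refine (smul_mem_unit_iff ua.isUnit).mp ?_
    rw [mem_sat, map_sub, map_smul, map_smul, ← algebraMap_smul S s, ← algebraMap_smul S a, ← hua, ← hus,
      ← neg_sub] at hmem
    rw [smul_sub, smul_smul, Units.val_mul, ← mul_assoc, Units.mul_inv, one_mul]
    simp only [Function.comp_apply, hii]
    simpa using neg_mem hmem
  have hw : ∀ j : Fin l, loc g u j - ((Function.update (1 : Fin l → Sˣ) i (ua⁻¹ * us)) j : S) • loc g u' j ∈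
      spanBefore S V (loc g u) j := fun j => by
    rcases eq_or_ne j i with rfl | h
    · rw [Function.update_self]; exact hd
    · simp [Function.update_of_ne h, hne j h]
  have hadm := adm_of_sub _ hw hu
  have hstr := (strict_iff_of_sub _ hw).mp hs
  refine ⟨hadm, hstr, ?_, ?_⟩
  · rw [clsT_smul i (ua⁻¹ * us) (fun j hj => by simp [hne j hj]) hd, Units.val_mul, map_mul, hus,
      show residue S (ua⁻¹ : Sˣ) = (residue S (algebraMap R _ a))⁻¹ from
        eq_inv_of_mul_eq_one_left (by rw [← hua, ← map_mul, Units.inv_mul, map_one]), div_eq_mul_inv, mul_comm]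
  · have hsat : ∀ k, sat (S := S) g u' k = sat (S := S) g u k := fun k => by
      unfold sat
      rw [spanBefore_eq_of_sub _ hw k]
    have hrest : ∀ k ∈ (Finset.range l).erase (i : ℕ), gap (S := S) g u' k = gap (S := S) g u k := fun k hk => by
      rw [Finset.mem_erase, Finset.mem_range] at hk
      have g1 := gap_eq (S := S) (g := g) u' ⟨k, hk.2⟩
      rw [hne _ fun h => hk.1 (congrArg Fin.val h), hsat, hsat] at g1
      exact g1.trans (gap_eq (S := S) (g := g) u ⟨k, hk.2⟩).symm
    have hi : gap (S := S) g u i + ordQ q a = gap (S := S) g u' i + ordQ q s := by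
      have hA := sat_mono (S := S) (g := g) u (Nat.le_succ (i : ℕ))
      have hz : z ∈ sat (S := S) g u (i + 1) := hsat (i + 1) ▸ hii ▸ mem_spanBefore (e := loc g u') (Nat.lt_succ_self _)
      have hui : u i ∈ sat (S := S) g u (i + 1) := mem_spanBefore (e := loc g u) (Nat.lt_succ_self _)
      have hsame : sat (S := S) g u i ⊔ Submodule.span R {a • u i} = sat (S := S) g u i ⊔ Submodule.span R {s • z} := by
        refine le_antisymm (sup_le le_sup_left ?_) (sup_le le_sup_left ?_) <;>
          rw [Submodule.span_le, Set.singleton_subset_iff]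
        · rw [show a • u i = -(s • z - a • u i) + s • z by abel]
          exact Submodule.add_mem_sup (neg_mem hmem) (Submodule.mem_span_singleton_self _)
        · rw [show s • z = (s • z - a • u i) + a • u i by abel]
          exact Submodule.add_mem_sup hmem (Submodule.mem_span_singleton_self _)
      have e1 := relLen_scale q hs hu i a
      have e2 := relLen_scale q hstr hadm i s
      rw [hsat, hii] at e2
      rw [gap_eq, gap_eq, hsat, hsat, hii, ← e1, ← e2, add_comm (relLen R (sat (S := S) g u (i + 1)) _),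
        add_comm (relLen R (sat (S := S) g u (i + 1)) (sat (S := S) g u i ⊔ Submodule.span R {z})), ← relLen_add, ← relLen_add, hsame]
      · exact sup_le le_sup_left (Submodule.span_le.mpr (Set.singleton_subset_iff.mpr
          (Submodule.mem_sup_right (Submodule.smul_mem _ _ (Submodule.mem_span_singleton_self _)))))
      · exact sup_le hA (Submodule.span_le.mpr (Set.singleton_subset_iff.mpr hz))
      · exact sup_le le_sup_left (Submodule.span_le.mpr (Set.singleton_subset_iff.mpr
          (Submodule.mem_sup_right (Submodule.smul_mem _ _ (Submodule.mem_span_singleton_self _)))))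
      · exact sup_le hA (Submodule.span_le.mpr (Set.singleton_subset_iff.mpr hui))
    rw [total, total, ← Finset.add_sum_erase _ _ (Finset.mem_range.mpr i.2),
      ← Finset.add_sum_erase _ (fun k => gap (S := S) g u' k) (Finset.mem_range.mpr i.2), Finset.sum_congr rfl hrest,
      add_right_comm, hi, add_right_comm]


-- PROPALL
theorem prop_all [IsLocalizedModule q.asIdeal.primeCompl g] {y : Fin l → N}
    (hyA : IsAdmissible S V (loc g y)) (hyS : Strict S (loc g y)) (hl : Module.length S V = l) :
    ∀ {d k : ℕ}, k + d = l → ∀ u : Fin l → N, IsAdmissible S V (loc g u) → Strict S (loc g u) →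
      (∀ j : Fin l, (j : ℕ) < k → u j = y j) → Prop' (S := S) q g y u := by
  classical
  intro d
  induction d with
  | zero =>
    intro k hk u _ _ hpre
    obtain rfl : u = y := funext fun j => hpre j (by omega)
    refine ⟨1, 1, q.asIdeal.primeCompl.one_mem, q.asIdeal.primeCompl.one_mem, by simp, ?_⟩
    rfl
  | succ d ih =>
    intro k hk u hu hs hpre
    have hkl : k < l := by omega
    let kk : Fin l := ⟨k, hkl⟩
    have hpre_span : ∀ {v : Fin l → N}, (∀ j : Fin l, (j : ℕ) < k → v j = y j) →
        spanBefore S V (loc g v) k = spanBefore S V (loc g y) k := fun hv =>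
      spanBefore_congr fun j hj => congrArg _ (hv j hj)
    -- a position carrying `y k` can be moved down to `k`
    have hmove : ∀ (e : ℕ) (i : Fin l), (i : ℕ) = k + e → ∀ v : Fin l → N, IsAdmissible S V (loc g v) →
        Strict S (loc g v) → (∀ j : Fin l, (j : ℕ) < k → v j = y j) → v i = y kk → Prop' (S := S) q g y v := by
      intro e
      induction e with
      | zero =>
        intro i hi v hv hvs hvp hvi
        refine ih (k := k + 1) (by omega) v hv hvs fun j hj => ?_
        rcases eq_or_ne (j : ℕ) k with h | h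
        · obtain rfl : j = kk := Fin.ext h
          obtain rfl : i = kk := Fin.ext (by simpa using hi)
          exact hvi
        · exact hvp j (by omega)
      | succ e ihe =>
        intro i hi v hv hvs hvp hvi
        let b : Fin l := ⟨k + e, by omega⟩
        have hab : (b : ℕ) + 1 = i := by simp only [b]; omega
        have hm : ∀ r ∈ maximalIdeal S, r • loc g v i ∈ spanBefore S V (loc g v) b := fun r hr => by
          refine spanBefore_mono _ (Nat.le_add_right k e) ?_
          rw [hpre_span hvp, show loc g v i = loc g y kk from congrArg _ hvi]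
          exact hyA kk r hr
        have hv' : IsAdmissible S V (loc g (v ∘ Equiv.swap i b)) := adm_swap hv hab hm
        have hvs' : Strict S (loc g (v ∘ Equiv.swap i b)) := by
          rw [strict_iff_span hv' hl, show loc g (v ∘ Equiv.swap i b) = loc g v ∘ Equiv.swap i b from rfl,
            Set.range_comp, Equiv.range_eq_univ, Set.image_univ]
          exact (strict_iff_span hv hl).mp hvs
        obtain ⟨a, s, ha, hsq, h1, h2⟩ := ihe b rfl _ hv' hvs' (fun j hj => by
          rw [Function.comp_apply, Equiv.swap_apply_of_ne_of_ne (Fin.ne_of_val_ne (by omega))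
            (Fin.ne_of_val_ne (by simp only [b]; omega))]
          exact hvp j hj) (by rw [Function.comp_apply, Equiv.swap_apply_right, hvi])
        refine ⟨-a, s, fun h => ha (by simpa using neg_mem h), hsq, ?_, ?_⟩
        · rw [clsT_swap hv hab hm, show loc g v ∘ Equiv.swap i b = loc g (v ∘ Equiv.swap i b) from rfl, h1,
            map_neg, map_neg, neg_div, neg_smul]
        · rw [← total_swap q hvs hv hab hm hvs', ordQ_neg, h2]
    -- put `y k` into the tuple
    have hy0 : loc g y kk ≠ 0 := fun h => hyS kk (by rw [h]; exact zero_mem _)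
    obtain ⟨i, c, hg⟩ := exists_good (x := loc g y kk) hu hy0 (by rw [loc_span_top hl hu hs]; trivial)
    have hik : k ≤ (i : ℕ) := by
      by_contra hlt
      have h1 : loc g y kk ∈ spanBefore S V (loc g u) k := by
        refine spanBefore_mono _ (by omega : (i : ℕ) + 1 ≤ k) ?_
        rw [spanBefore_succ, ← sub_add_cancel (loc g y kk) (c • loc g u i)]
        exact Submodule.add_mem_sup hg.1 (Submodule.smul_mem _ _ (Submodule.mem_span_singleton_self _))
      rw [hpre_span hpre] at h1
      exact hyS kk h1
    obtain ⟨a, s, hsq, hcs⟩ := exists_fraction q c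
    have haq : a ∉ q.asIdeal := fun h => by
      have := (alg_mem_max (S := S) q).mpr h
      rw [← hcs, mem_maximalIdeal] at this
      exact this ((unit_alg (S := S) q hsq).mul hg.2)
    have hmem : s • y kk - a • u i ∈ sat (S := S) g u i := by
      rw [mem_sat, map_sub, map_smul, map_smul, ← algebraMap_smul S s, ← algebraMap_smul S a, ← hcs,
        mul_smul, ← smul_sub]
      exact Submodule.smul_mem _ _ hg.1
    obtain ⟨hA', hS', hcl, htot⟩ := total_update q hs hu hsq haq hmem
    obtain ⟨a', s', ha', hs', h1, h2⟩ := hmove ((i : ℕ) - k) i (by omega) _ hA' hS' (fun j hj => by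
      rw [Function.update_of_ne (Fin.ne_of_val_ne (by omega))]
      exact hpre j hj) (Function.update_self _ _ _)
    refine ⟨s * a', a * s', q.asIdeal.primeCompl.mul_mem hsq ha', q.asIdeal.primeCompl.mul_mem haq hs', ?_, ?_⟩
    · rw [hcl, h1, smul_smul, div_mul_div_comm, map_mul, map_mul, map_mul, map_mul]
    · rw [ordQ_mul q hs', ordQ_mul q ha', ← add_assoc, htot, add_left_comm, ← h2]
      abel

theorem relLen_total {u : Fin l → N} (hs : Strict S (loc g u))
    (hchain : ∀ (j : Fin l), ∀ r ∈ q.asIdeal, r • u j ∈ spanBefore R N u j) : ∀ k, k ≤ l →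
    relLen R (sat (S := S) g u k) (sat (S := S) g u 0 ⊔ spanBefore R N u k) =
      ∑ j ∈ Finset.range k, gap (S := S) g u j := by
  intro k
  induction k with
  | zero =>
    intro _
    rw [spanBefore_zero, sup_bot_eq, relLen_self, Finset.range_zero, Finset.sum_empty]
  | succ k ih =>
    intro hk
    let kk : Fin l := ⟨k, hk⟩
    set K := sat (S := S) g u 0
    have hK : K ≤ sat (S := S) g u k := sat_mono (S := S) (g := g) u (Nat.zero_le k)
    have hP : spanBefore R N u k ≤ spanBefore R N u (k + 1) := spanBefore_mono u (Nat.le_succ k)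
    have hinf : sat (S := S) g u k ⊓ (K ⊔ spanBefore R N u (k + 1)) = K ⊔ spanBefore R N u k := by
      refine le_antisymm ?_ (le_inf (sup_le hK (spanBefore_le_sat (S := S) (g := g) u k)) (sup_le_sup_left hP _))
      rintro z ⟨hz, hz'⟩
      obtain ⟨z₀, hz₀, z₁, hz₁, rfl⟩ := Submodule.mem_sup.mp hz'
      rw [show k + 1 = (kk : ℕ) + 1 from rfl, spanBefore_succ] at hz₁
      obtain ⟨w, hw, t, ht, rfl⟩ := Submodule.mem_sup.mp hz₁
      obtain ⟨r, rfl⟩ := Submodule.mem_span_singleton.mp ht
      refine Submodule.add_mem_sup hz₀ (add_mem hw (hchain kk r (mem_of_smul_self q hs kk ?_)))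
      simpa [add_assoc] using sub_mem (sub_mem hz (hK hz₀)) (spanBefore_le_sat (S := S) (g := g) u k hw)
    have hsup : sat (S := S) g u k ⊔ (K ⊔ spanBefore R N u (k + 1)) =
        sat (S := S) g u k ⊔ spanBefore R N u (k + 1) := by
      rw [← sup_assoc, sup_eq_left.mpr hK]
    rw [relLen_add (le_sup_right : K ⊔ spanBefore R N u (k + 1) ≤ sat (S := S) g u k ⊔ (K ⊔ spanBefore R N u (k + 1)))
      (sup_le (sat_mono (S := S) (g := g) u (Nat.le_succ k))
        (sup_le (sat_mono (S := S) (g := g) u (Nat.zero_le _)) (spanBefore_le_sat (S := S) (g := g) u (k + 1)))),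
      relLen_sup_inf, hinf, hsup, ih (by omega), Finset.sum_range_succ]
    rfl

end Groth.Agent.H9ChowK.Ratio
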