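import Groth.Agent.H9ChowK.Local

/-! Adapted systems exist: scaling tuples into chains. -/

set_option linter.unusedSectionVars false
set_option autoImplicit false

namespace Groth.Agent.H9ChowK

open CycDet IsLocalRing IntThLib Groth.Agent.CycLib

universe u

variable {R : Type u} [CommRing R] [IsNoetherianRing R] [IsLocalRing R]

section scale

variable (p : PrimeSpectrum R) {T : Type u} [CommRing T] [IsLocalRing T]
  [Algebra R T] [hT : IsLocalization.AtPrime T p.asIdeal]
  {M : Type u} [AddCommGroup M] [Module R M] {W : Type u} [AddCommGroup W] [Module R W] [Module T W]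
  [IsScalarTower R T W] (g : M →ₗ[R] W) {n : ℕ}

include hT in
/-- Scaling entries by scalars outside the prime keeps admissibility and strictness. -/
theorem adm_strict_scale {z w : Fin n → M} (hz : IsAdmissible T W (Ratio.loc g z)) (hzs : Strict T (Ratio.loc g z))
    (h : ∀ j, ∃ c : R, c ∉ p.asIdeal ∧ w j = c • z j) :
    IsAdmissible T W (Ratio.loc g w) ∧ Strict T (Ratio.loc g w) := by
  choose c hc hw using h
  let v : Fin n → Tˣ := fun j => (Ratio.unit_alg (S := T) p (hc j)).unit⁻¹
  have hv : ∀ j : Fin n, Ratio.loc g z j - (v j : T) • Ratio.loc g w j ∈ spanBefore T W (Ratio.loc g z) j := fun j => by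
    have h1 : Ratio.loc g w j = algebraMap R T (c j) • Ratio.loc g z j := by
      show g (w j) = _
      rw [hw, map_smul, algebraMap_smul]; rfl
    rw [h1, smul_smul, IsUnit.val_inv_mul, one_smul, sub_self]
    exact zero_mem _
  exact ⟨adm_of_sub v hv hz, (strict_iff_of_sub v hv).mp hzs⟩

include hT in
/-- Tuples can be scaled, keeping a good prefix, so as to become chains killed by given maps. -/
theorem exists_scale [hg : IsLocalizedModule p.asIdeal.primeCompl g] (Dead : M → Prop) (hDead : ∀ (r : R) m, Dead m → Dead (r • m))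
    {t₀ : R} (ht₀ : t₀ ∉ p.asIdeal) (hkill : ∀ m, Dead (t₀ • m))
    {z : Fin n → M} (hz : IsAdmissible T W (Ratio.loc g z)) (hzs : Strict T (Ratio.loc g z)) (a : ℕ)
    (hpre : ∀ j : Fin n, (j : ℕ) < a → Dead (z j) ∧ ∀ r ∈ p.asIdeal, r • z j ∈ spanBefore R M z j) :
    ∃ w : Fin n → M, (∀ j : Fin n, (j : ℕ) < a → w j = z j) ∧ (∀ j, ∃ c : R, c ∉ p.asIdeal ∧ w j = c • z j) ∧
      (∀ j, Dead (w j)) ∧ ∀ j : Fin n, ∀ r ∈ p.asIdeal, r • w j ∈ spanBefore R M w j := by
  classical
  suffices H : ∀ k, k ≤ n → ∃ w : Fin n → M, (∀ j : Fin n, (j : ℕ) < a → w j = z j) ∧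
      (∀ j, ∃ c : R, c ∉ p.asIdeal ∧ w j = c • z j) ∧
      ∀ j : Fin n, (j : ℕ) < k → Dead (w j) ∧ ∀ r ∈ p.asIdeal, r • w j ∈ spanBefore R M w j by
    obtain ⟨w, h1, h2, h3⟩ := H n le_rfl
    exact ⟨w, h1, h2, fun j => (h3 j j.2).1, fun j => (h3 j j.2).2⟩
  intro k
  induction k with
  | zero => exact fun _ => ⟨z, fun _ _ => rfl, fun j => ⟨1, p.asIdeal.primeCompl.one_mem, (one_smul R _).symm⟩,
      fun j hj => absurd hj (Nat.not_lt_zero _)⟩
  | succ k ih =>
    intro hk
    obtain ⟨w, hw1, hw2, hw3⟩ := ih (by omega)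
    let kk : Fin n := ⟨k, hk⟩
    by_cases hka : k < a
    · refine ⟨w, hw1, hw2, fun j hj => ?_⟩
      rcases Nat.lt_succ_iff_lt_or_eq.mp hj with h | h
      · exact hw3 j h
      obtain rfl : j = kk := Fin.ext h
      have hspan : spanBefore R M w k = spanBefore R M z k :=
        spanBefore_congr fun i hi => hw1 i (lt_trans hi hka)
      obtain ⟨h1, h2⟩ := hpre kk hka
      rw [hw1 kk hka]
      exact ⟨h1, fun r hr => hspan.symm ▸ h2 r hr⟩
    obtain ⟨hwa, -⟩ := adm_strict_scale p g hz hzs hw2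
    obtain ⟨G, hG⟩ : p.asIdeal.FG := (isNoetherianRing_iff_ideal_fg R).mp ‹_› _
    have hex : ∀ r : G, ∃ t : R, t ∉ p.asIdeal ∧ t • (r : R) • w kk ∈ spanBefore R M w k := fun r => by
      refine exists_smul_mem_span p (T := T) g ?_
      have hr : (r : R) ∈ p.asIdeal := hG ▸ Submodule.subset_span r.2
      have := hwa kk _ ((Ratio.alg_mem_max (S := T) p).mpr hr)
      rw [algebraMap_smul] at this
      rw [map_smul]
      rwa [spanBefore, Set.image_comp] at this
    choose t ht htw using hex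
    let c : R := t₀ * ∏ r, t r
    have hc : c ∉ p.asIdeal := p.asIdeal.primeCompl.mul_mem ht₀ (Submonoid.prod_mem _ fun r _ => ht r)
    refine ⟨Function.update w kk (c • w kk), fun j hj => ?_, fun j => ?_, fun j hj => ?_⟩
    · rw [Function.update_of_ne (Fin.ne_of_val_ne (by simp only [kk]; omega))]
      exact hw1 j hj
    · rcases eq_or_ne j kk with rfl | h
      · obtain ⟨d, hd, hwd⟩ := hw2 kk
        exact ⟨c * d, p.asIdeal.primeCompl.mul_mem hc hd, by rw [Function.update_self, hwd, smul_smul]⟩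
      · rw [Function.update_of_ne h]; exact hw2 j
    · have hle : (j : ℕ) ≤ k := Nat.lt_succ_iff.mp hj
      have hspan : spanBefore R M (Function.update w kk (c • w kk)) j = spanBefore R M w j :=
        spanBefore_congr fun i hi => Function.update_of_ne (Fin.ne_of_val_ne (by simp only [kk]; omega)) _ _
      rw [hspan]
      rcases eq_or_ne j kk with rfl | h
      swap
      · rw [Function.update_of_ne h]
        exact hw3 j (lt_of_le_of_ne hle fun h' => h (Fin.ext h'))
      rw [Function.update_self]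
      refine ⟨by rw [show c • w kk = (∏ r, t r) • t₀ • w kk by rw [smul_smul, mul_comm]]; exact hDead _ _ (hkill _), ?_⟩
      intro r hr
      rw [← hG] at hr
      induction hr using Submodule.span_induction with
      | mem x hx =>
        rw [smul_comm, show c = (t₀ * ∏ r' ∈ Finset.univ.erase (⟨x, hx⟩ : G), t r') * t ⟨x, hx⟩ by
          rw [mul_assoc, Finset.prod_erase_mul _ _ (Finset.mem_univ _)], mul_smul]
        exact Submodule.smul_mem _ _ (htw ⟨x, hx⟩)
      | zero => rw [zero_smul]; exact zero_mem _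
      | add x y _ _ hx hy => rw [add_smul]; exact add_mem hx hy
      | smul r x _ hx => rw [smul_assoc]; exact Submodule.smul_mem _ _ hx

end scale

variable {ι : Type u} [Fintype ι] (q : ι → PrimeSpectrum R) {S : ι → Type u} [∀ i, CommRing (S i)]
  [∀ i, IsLocalRing (S i)] [∀ i, Algebra R (S i)] [hS : ∀ i, IsLocalization.AtPrime (S i) (q i).asIdeal]
  {M : Type u} [AddCommGroup M] [Module R M] {V : ι → Type u} [∀ i, AddCommGroup (V i)]
  [∀ i, Module R (V i)] [∀ i, Module (S i) (V i)] [∀ i, IsScalarTower R (S i) (V i)]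
  (g : ∀ i, M →ₗ[R] V i) {l : ι → ℕ}

include hS in
/-- A scalar outside one prime killing the localisations at the others. -/
theorem exists_kill (hsep : ∀ i i', i ≠ i' → ¬ (q i').asIdeal ≤ (q i).asIdeal)
    (hl : ∀ i, Module.length (S i) (V i) = l i) (i : ι) :
    ∃ t : R, t ∉ (q i).asIdeal ∧ ∀ i', i' ≠ i → ∀ m, g i' (t • m) = 0 := by
  classical
  have hex : ∀ i', i' ≠ i → ∃ a : R, a ∉ (q i).asIdeal ∧ ∀ z : V i', a • z = 0 := fun i' h => by
    obtain ⟨a, ha, ha'⟩ := SetLike.not_le_iff_exists.mp (hsep i i' h.symm)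
    obtain ⟨e, he⟩ := exists_strict (l i') (V i') (hl i')
    refine ⟨a ^ l i', fun hc => ha' ((q i).2.mem_of_pow_mem _ hc), fun z => ?_⟩
    have h1 := pow_smul_eq_zero (T := S i') e.2 ((Ratio.alg_mem_max (S := S i') (q i')).mpr ha) (l i') le_rfl z
      (by rw [spanBefore_last _ le_rfl, (strict_iff_span e.2 (hl i')).mp he]; trivial)
    rwa [← map_pow, algebraMap_smul] at h1
  choose! a ha hz using hex
  refine ⟨∏ i' ∈ Finset.univ.erase i, a i', ?_, fun i' h m => ?_⟩
  · exact Submonoid.prod_mem (q i).asIdeal.primeCompl fun i' hi' => ha i' (Finset.ne_of_mem_erase hi')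
  · rw [map_smul, ← Finset.prod_erase_mul _ _ (Finset.mem_erase.mpr ⟨h, Finset.mem_univ i'⟩), mul_smul, hz i' h,
      smul_zero]

variable [hg : ∀ i, IsLocalizedModule (q i).asIdeal.primeCompl (g i)]

include hS hg in
/-- An adapted system exists. -/
theorem exists_adapted (hsep : ∀ i i', i ≠ i' → ¬ (q i').asIdeal ≤ (q i).asIdeal)
    (hl : ∀ i, Module.length (S i) (V i) = l i) : ∃ u, Adapted q (S := S) g l u := by
  classical
  have hone : ∀ i, ∃ z : Fin (l i) → M,
      IsAdmissible (S i) (V i) (Ratio.loc (g i) z) ∧ Strict (S i) (Ratio.loc (g i) z) := fun i => by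
    obtain ⟨e, he⟩ := exists_strict (l i) (V i) (hl i)
    choose ms hms using fun j => IsLocalizedModule.surj (q i).asIdeal.primeCompl (g i) (e.1 j)
    let v : Fin (l i) → (S i)ˣ := fun j =>
      (Ratio.unit_alg (S := S i) (q i) (s := ((ms j).2 : R)) (ms j).2.2).unit⁻¹
    have hv : ∀ j : Fin (l i), e.1 j - (v j : S i) • Ratio.loc (g i) (fun j => (ms j).1) j ∈
        spanBefore (S i) (V i) e.1 j := fun j => by
      have h1 : Ratio.loc (g i) (fun j => (ms j).1) j = algebraMap R (S i) ((ms j).2 : R) • e.1 j := by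
        rw [algebraMap_smul]; exact (hms j).symm
      rw [h1, smul_smul, IsUnit.val_inv_mul, one_smul, sub_self]
      exact zero_mem _
    exact ⟨fun j => (ms j).1, adm_of_sub v hv e.2, (strict_iff_of_sub v hv).mp he⟩
  choose z hza hzs using hone
  choose t ht htk using exists_kill q g hsep hl
  choose w hw1 hw2 hw3 hw4 using fun i => exists_scale (q i) (T := S i) (g i)
    (fun m => ∀ i', i' ≠ i → g i' m = 0) (fun r m h i' hi' => by rw [map_smul, h i' hi', smul_zero])
    (ht i) (fun m i' hi' => htk i i' hi' m) (hza i) (hzs i) 0 (fun j hj => absurd hj (Nat.not_lt_zero _))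
  exact ⟨w, ⟨fun i => (adm_strict_scale (q i) (g i) (hza i) (hzs i) (hw2 i)).1,
    fun i => (adm_strict_scale (q i) (g i) (hza i) (hzs i) (hw2 i)).2, hw4,
    fun i i' h j => hw3 i j i' h⟩⟩

end Groth.Agent.H9ChowK
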