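import Groth.Agent.H9ChowK.Twist
import Groth.Agent.H9ChowK.RatToK

/-! Twisting by an invertible module in `K₀`. -/

set_option autoImplicit false
set_option linter.unusedSectionVars false
set_option linter.style.haveILetI false
set_option backward.isDefEq.respectTransparency false
set_option backward.isDefEq.respectTransparency.types false

universe u

open CategoryTheory CategoryTheory.Limits AlgebraicGeometry TopologicalSpace Opposite

namespace Groth.Agent.H9ChowK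

open Groth.Agent

attribute [local instance] Abelian.hasFiniteBiproducts

variable {X : Scheme.{u}} [IsLocallyNoetherian X] {δ : X → ℤ} {k : ℤ}

theorem exists_sheafCycle (hd : Cyc.IsDimFun X δ) {M : X.Modules} (hM : Cyc.CohLe δ k M) :
    ∃ γ : AlgebraicCycle X ℤ, γ ∈ Cyc.Zk X δ k ∧ ⇑γ = Cyc.sheafFun δ k M :=
  ⟨{ toFun := Cyc.sheafFun δ k M
     supportWithinDomain' := fun _ _ => trivial
     supportLocallyFiniteWithinDomain' := fun z _ => by
      obtain ⟨U, hU, hfin⟩ := H23.P1Fam.locFin_sheafFun hd hM.1 hM.2 z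
      exact ⟨U, hU, hfin⟩ }, fun _ hx => if_neg hx, rfl⟩

theorem twist_class (hd : Cyc.IsDimFun X δ) {L F : X.Modules} (hL : PicF.IsInvertible L)
    (hF : Cyc.CohLe δ (k + 1) F) (s : (ξ : X) → Cyc.secFibre L ξ) (hs : ∀ ξ, s ξ ≠ 0)
    {γ : AlgebraicCycle X ℤ} (hγk : γ ∈ Cyc.Zk X δ k)
    (hγ : ⇑γ = Cyc.c1CapFun δ L (Cyc.sheafFun δ (k + 1) F) s) :
    Cyc.toK0CohQuot δ (k + 1) (k - 1) (CohB1.tensorMod F L) - Cyc.toK0CohQuot δ (k + 1) (k - 1) F =
      Cyc.toK0CohQuot δ (k + 1) (k - 1) (Cyc.cycleSheafPos ⇑γ) -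
        Cyc.toK0CohQuot δ (k + 1) (k - 1) (Cyc.cycleSheafNeg ⇑γ) := by
  have hT := cohLe_tensor (δ := δ) hL hF
  obtain ⟨I, hI⟩ := exists_inclHom δ k
  have h1 := toK0_eq_of_sheafFun_eq hd hT hF (sheafFun_tensor hL)
  rw [show k + 1 - 1 = k by ring, Cyc.toK0CohQuot, Cyc.toK0CohQuot, QuotientAddGroup.eq_iff_sub_mem] at h1
  have hmem : ∀ d ∈ AddSubgroup.closure {c : KZero.K0sub (Cyc.CohLe δ (k + 1)) |
      ∃ G : X.Modules, Cyc.CohLe δ k G ∧ c = KZero.clSub (Cyc.CohLe δ (k + 1)) G},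
      (QuotientAddGroup.mk d : Cyc.K0CohQuot δ (k + 1) (k - 1)) ∈ I.range := fun d hd' => by
    induction hd' using AddSubgroup.closure_induction with
    | mem c hc =>
      obtain ⟨G, hG, rfl⟩ := hc
      exact ⟨_, hI G hG⟩
    | zero => exact I.range.zero_mem
    | add a b _ _ ha hb => rw [QuotientAddGroup.mk_add]; exact I.range.add_mem ha hb
    | neg a _ ha => rw [QuotientAddGroup.mk_neg]; exact I.range.neg_mem ha
  obtain ⟨c, hc⟩ := hmem _ h1
  rw [QuotientAddGroup.mk_sub] at hc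
  change I c = Cyc.toK0CohQuot δ (k + 1) (k - 1) (CohB1.tensorMod F L) - Cyc.toK0CohQuot δ (k + 1) (k - 1) F at hc
  obtain ⟨A, B, hA, hB, rfl⟩ := exists_sub_repr c
  rw [map_sub, hI A hA, hI B hB] at hc
  obtain ⟨Φ, hΦ⟩ := exists_hom hd k
  have hΦc := congrArg Φ hc
  rw [map_sub, map_sub, hΦ A (cohLe_mono (by omega) hA), hΦ B (cohLe_mono (by omega) hB), hΦ _ hT, hΦ _ hF,
    clsFun_of_cohLe hd hA, clsFun_of_cohLe hd hB, exists_isValFun_twist hd hL hF s hs, add_sub_cancel_left,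
    ← QuotientAddGroup.mk_sub, QuotientAddGroup.eq_iff_sub_mem, ← hγ] at hΦc
  have hk : ∀ ζ, (⇑γ : X → ℤ) ζ ≠ 0 → δ ζ = k := fun ζ hζ => by_contra fun hn => hζ (hγk ζ hn)
  have hp := cohLe_cycleSheafPos hd (finPts_cycle γ) hk
  have hn : Cyc.CohLe δ k (Cyc.cycleSheafNeg ⇑γ) :=
    cohLe_cycleSheafPos hd (finPts_neg (finPts_cycle γ)) fun ζ hζ => hk ζ (by simpa using hζ)
  have hP := cohLe_biprod hA hn
  have hP' := cohLe_biprod hB hp
  have hsum : ∀ {M N : X.Modules}, Cyc.CohLe δ k M → Cyc.CohLe δ k N →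
      Cyc.sheafFun δ k (M ⊞ N) = Cyc.sheafFun δ k M + Cyc.sheafFun δ k N := fun {M N} hM hN => by
    have h := biprod_shortExact M N
    have e := CycLib.sheafFun_shortExact hd h hM.1 (cohLe_biprod hM hN).1 hN.1 (cohLe_biprod hM hN).2
    exact e
  obtain ⟨α, hα, eα⟩ := exists_sheafCycle hd hP
  obtain ⟨α', hα', eα'⟩ := exists_sheafCycle hd hP'
  have hdiff : (⇑(α - α') : X → ℤ) = Cyc.sheafFun δ k A - Cyc.sheafFun δ k B - ⇑γ := by
    rw [Function.locallyFinsuppWithin.coe_sub, eα, eα', hsum hA hn, hsum hB hp]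
    have e := cycle_eq_sub hd (finPts_cycle γ) hk
    calc _ = Cyc.sheafFun δ k A - Cyc.sheafFun δ k B -
          (Cyc.sheafFun δ k (Cyc.cycleSheafPos ⇑γ) - Cyc.sheafFun δ k (Cyc.cycleSheafNeg ⇑γ)) := by abel
      _ = _ := by rw [e]
  have hZ : α - α' ∈ Cyc.Zk X δ k := fun x hx => by
    rw [Function.locallyFinsuppWithin.coe_sub, Pi.sub_apply, hα x hx, hα' x hx, sub_zero]
  have hkey := toK0_cycleSheaf_eq_of_ratEquivZero hd hZ
    (H23.RatOn.ratEquivZero (T := Set.univ) (by rw [hdiff]; exact hΦc))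
  have hk' : ∀ ζ, (⇑(α - α') : X → ℤ) ζ ≠ 0 → δ ζ = k := fun ζ hζ => by_contra fun hn => hζ (hZ ζ hn)
  have hfin := toK0_sub_eq hd hP hP' (cohLe_cycleSheafPos hd (finPts_cycle (α - α')) hk')
    (cohLe_cycleSheafPos hd (finPts_neg (finPts_cycle (α - α'))) fun ζ hζ => hk' ζ fun h => hζ (by rw [Pi.neg_apply, h, neg_zero]))
    (by rw [← eα, ← eα', ← Function.locallyFinsuppWithin.coe_sub]
        exact (cycle_eq_sub hd (finPts_cycle (α - α')) hk').symm)
  change Cyc.toK0CohQuot δ (k + 1) (k - 1) _ - Cyc.toK0CohQuot δ (k + 1) (k - 1) _ =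
    Cyc.toK0CohQuot δ (k + 1) (k - 1) _ - Cyc.toK0CohQuot δ (k + 1) (k - 1) (Cyc.cycleSheafNeg ⇑(α - α')) at hfin
  rw [hkey, sub_self, toK0_ses (biprod_shortExact _ _) (cohLe_mono (by omega) hA) (cohLe_mono (by omega) hP)
      (cohLe_mono (by omega) hn),
    toK0_ses (biprod_shortExact _ _) (cohLe_mono (by omega) hB) (cohLe_mono (by omega) hP')
      (cohLe_mono (by omega) hp)] at hfin
  dsimp only at hfin
  rw [← hc, ← sub_eq_zero, ← hfin]
  abel

end Groth.Agent.H9ChowK
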