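import Groth.Agent.H9ChowK.Scale

/-! The length invariant of a module with trivialised determinants at height one primes. -/

set_option linter.unusedSectionVars false
set_option autoImplicit false

namespace Groth.Agent.H9ChowK

open CycDet IsLocalRing IntThLib Groth.Agent.CycLib
open Groth.Agent.CycLib.Ratio (ordQ)

universe u

variable {R : Type u} [CommRing R] [IsNoetherianRing R] [IsLocalRing R] {ι : Type u} [Fintype ι]
  (q : ι → PrimeSpectrum R) {S : ι → Type u} [∀ i, CommRing (S i)] [∀ i, IsLocalRing (S i)]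
  [∀ i, Algebra R (S i)] [hS : ∀ i, IsLocalization.AtPrime (S i) (q i).asIdeal]

/-- An order function on the residue fields of the localisations. -/
structure OrdData (o : ∀ i, ResidueField (S i) → ℤ) : Prop where
  mul : ∀ i (f f' : ResidueField (S i)), f ≠ 0 → f' ≠ 0 → o i (f * f') = o i f + o i f'
  res : ∀ i (a : R), a ∉ (q i).asIdeal → o i (residue (S i) (algebraMap R (S i) a)) = ((ordQ (q i) a).toNat : ℤ)
  fin : ∀ i (a : R), a ∉ (q i).asIdeal → ordQ (q i) a ≠ ⊤

variable {q} {o : ∀ i, ResidueField (S i) → ℤ}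

theorem OrdData.one (hord : OrdData q o) (i : ι) : o i 1 = 0 := by
  have := hord.mul i 1 1 one_ne_zero one_ne_zero
  rw [one_mul] at this
  omega

theorem OrdData.div (hord : OrdData q o) {i : ι} {f f' : ResidueField (S i)} (hf : f ≠ 0) (hf' : f' ≠ 0) :
    o i (f / f') = o i f - o i f' := by
  have := hord.mul i (f / f') f' (div_ne_zero hf hf') hf'
  rw [div_mul_cancel₀ _ hf'] at this
  omega

variable {M : Type u} [AddCommGroup M] [Module R M] {V : ι → Type u} [∀ i, AddCommGroup (V i)]
  [∀ i, Module R (V i)] [∀ i, Module (S i) (V i)] [∀ i, IsScalarTower R (S i) (V i)]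
  {g : ∀ i, M →ₗ[R] V i} [hg : ∀ i, IsLocalizedModule (q i).asIdeal.primeCompl (g i)] {l : ι → ℕ}

variable (q g o) in
/-- `n` is the value of the invariant of the module against the tuples `E`. -/
def IsVal (E : ∀ i, Fin (l i) → V i) (n : ℤ) : Prop :=
  ∃ (u : ∀ i, Fin (l i) → M) (c : ∀ i, ResidueField (S i)), Adapted q (S := S) g l u ∧
    (∀ i, clsT (S i) (Ratio.loc (g i) (u i)) = c i • clsT (S i) (E i)) ∧
    n = ((Module.length R (M ⧸ spanAll R u)).toNat : ℤ) - ∑ i, o i (c i)

variable {E : ∀ i, Fin (l i) → V i}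

theorem clsT_ne_zero {T : Type u} [CommRing T] [IsLocalRing T] {W : Type u} [AddCommGroup W] [Module T W] {n : ℕ}
    (hn : Module.length T W = n) {e : Fin n → W} (he : IsAdmissible T W e) (hs : Strict T e) : clsT T e ≠ 0 := by
  rw [show clsT T e = cls ⟨e, he⟩ from clsT_adm ⟨e, he⟩]
  exact cls_ne_zero hn _ hs

theorem exists_coef {T : Type u} [CommRing T] [IsLocalRing T] {W : Type u} [AddCommGroup W] [Module T W] {n : ℕ}
    (hn : Module.length T W = n) {e e' : Fin n → W} (he : IsAdmissible T W e) (hs : Strict T e)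
    (he' : IsAdmissible T W e') (hs' : Strict T e') : ∃ c : ResidueField T, c ≠ 0 ∧ clsT T e = c • clsT T e' := by
  obtain ⟨c, hc⟩ := exists_smul_cls hn ⟨e', he'⟩ hs' (clsT T e)
  rw [show clsT T e' = cls ⟨e', he'⟩ from clsT_adm ⟨e', he'⟩]
  refine ⟨c, fun h0 => clsT_ne_zero hn he hs ?_, hc.symm⟩
  rw [← hc, h0, zero_smul]

section

variable (hsep : ∀ i i', i ≠ i' → ¬ (q i').asIdeal ≤ (q i).asIdeal)
  (hl : ∀ i, Module.length (S i) (V i) = l i)

include hS hg hsep hl in
theorem exists_isVal (hE : ∀ i, IsAdmissible (S i) (V i) (E i) ∧ Strict (S i) (E i)) :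
    ∃ n, IsVal q o g E n := by
  obtain ⟨u, hu⟩ := exists_adapted q g hsep hl
  choose c _ hc using fun i => exists_coef (hl i) (hu.adm i) (hu.strict i) (hE i).1 (hE i).2
  exact ⟨_, u, c, hu, hc, rfl⟩

variable [Module.Finite R M] (hsupp : ∀ p ∈ Module.support R M, p = closedPoint R ∨ ∃ i, p = q i)

include hsupp in
theorem length_ne_top_of_killed {N : Type u} [AddCommGroup N] [Module R N] [Module.Finite R N]
    (hN : Module.support R N ⊆ Module.support R M)
    (h : ∀ i (z : N), ∃ t : R, t ∉ (q i).asIdeal ∧ t • z = 0) : Module.length R N ≠ ⊤ := by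
  refine length_ne_top_of_support fun p hp => ?_
  rcases hsupp p (hN hp) with h' | ⟨i, rfl⟩
  · exact h'
  · obtain ⟨z, hz⟩ := Module.mem_support_iff'.mp hp
    obtain ⟨t, ht, htz⟩ := h i z
    exact absurd htz (hz t ht)

include hS hg hl hsupp in
theorem Adapted.length_quot_ne_top {u : ∀ i, Fin (l i) → M} (hu : Adapted q (S := S) g l u) :
    Module.length R (M ⧸ spanAll R u) ≠ ⊤ := by
  refine length_ne_top_of_killed hsupp (Module.support_subset_of_surjective _ (Submodule.mkQ_surjective _)) fun i z => ?_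
  obtain ⟨m, rfl⟩ := Submodule.mkQ_surjective _ z
  obtain ⟨t, ht, htm⟩ := exists_smul_mem_span (q i) (T := S i) (g i) (A := Set.range (u i)) (m := m) (by
    rw [← Set.range_comp, hu.span_top hl i]; trivial)
  exact ⟨t, ht, (Submodule.Quotient.mk_eq_zero _).mpr (Submodule.mem_iSup_of_mem i htm)⟩

include hS hg hsupp in
theorem length_ker_parts_ne_top : Module.length R (LinearMap.ker (parts g)) ≠ ⊤ := by
  refine length_ne_top_of_killed hsupp
    (Module.support_subset_of_injective _ (Submodule.injective_subtype _)) fun i z => ?_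
  have h : g i z.1 = 0 :=
    (Submodule.Quotient.mk_eq_zero _).mp (congrFun (LinearMap.mem_ker.mp z.2) i)
  obtain ⟨t, ht, htz⟩ := exists_smul_eq_zero_of_map (q i) (T := S i) (g i) h
  exact ⟨t, ht, Subtype.ext htz⟩

include hS hg hl hsupp in
theorem Adapted.total_ne_top {u : ∀ i, Fin (l i) → M} (hu : Adapted q (S := S) g l u) (i : ι) :
    Ratio.total (S := S i) (g i) (u i) ≠ ⊤ := by
  rw [← hu.length_coord hl i]
  refine ne_top_of_le_ne_top (hu.length_quot_ne_top hl hsupp) (Module.length_le_of_surjective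
    (Submodule.factor ?_) (Submodule.factor_surjective _))
  refine iSup_le fun j z hz => ?_
  rcases eq_or_ne i j with rfl | h
  · exact Submodule.mem_sup_right hz
  · exact Submodule.mem_sup_left (hu.dead_span h hz)

include hS hg hl hsupp in
/-- The value of the invariant does not depend on the adapted system. -/
theorem IsVal.unique (hord : OrdData q o) (hE : ∀ i, IsAdmissible (S i) (V i) (E i) ∧ Strict (S i) (E i))
    {n n' : ℤ} (h : IsVal q o g E n) (h' : IsVal q o g E n') : n = n' := by
  obtain ⟨u, c, hu, hc, rfl⟩ := h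
  obtain ⟨u', c', hu', hc', rfl⟩ := h'
  have hne : ∀ i, c' i ≠ 0 := fun i h0 =>
    clsT_ne_zero (hl i) (hu'.adm i) (hu'.strict i) (by rw [hc' i, h0, zero_smul])
  have key : ∀ i, ((Ratio.total (S := S i) (g i) (u i)).toNat : ℤ) - o i (c i) =
      ((Ratio.total (S := S i) (g i) (u' i)).toNat : ℤ) - o i (c' i) := fun i => by
    obtain ⟨a, s, ha, hs, hcls, htot⟩ := Ratio.prop_all (S := S i) (q i) (g := g i) (hu'.adm i) (hu'.strict i) (hl i)
      (k := 0) (d := l i) (zero_add _) (u i) (hu.adm i) (hu.strict i) (fun j hj => absurd hj (Nat.not_lt_zero _))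
    have hra := Ratio.residue_alg_ne_zero (S := S i) (q i) ha
    have hrs := Ratio.residue_alg_ne_zero (S := S i) (q i) hs
    have hceq : c i = residue (S i) (algebraMap R _ a) / residue (S i) (algebraMap R _ s) * c' i := by
      refine smul_left_injective (ResidueField (S i)) (clsT_ne_zero (hl i) (hE i).1 (hE i).2) ?_
      show c i • _ = _
      rw [← hc i, hcls, hc' i, smul_smul]
    have h1 := hord.mul i _ (c' i) (div_ne_zero hra hrs) (hne i)
    rw [← hceq, hord.div hra hrs, hord.res i a ha, hord.res i s hs] at h1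
    have h2 := congrArg ENat.toNat htot
    rw [ENat.toNat_add (hu.total_ne_top hl hsupp i) (hord.fin i s hs),
      ENat.toNat_add (hu'.total_ne_top hl hsupp i) (hord.fin i a ha)] at h2
    omega
  have hT := length_ker_parts_ne_top (q := q) (S := S) (g := g) hsupp
  have main : ∀ {v : ∀ i, Fin (l i) → M}, Adapted q (S := S) g l v → ∃ C : ℕ∞, C ≠ ⊤ ∧
      C = Module.length R ((∀ i, M ⧸ LinearMap.ker (g i)) ⧸ LinearMap.range (parts g)) ∧
      ((Module.length R (M ⧸ spanAll R v)).toNat : ℤ) + C.toNat =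
        ((Module.length R (LinearMap.ker (parts g))).toNat : ℤ) +
          ∑ i, ((Ratio.total (S := S i) (g i) (v i)).toNat : ℤ) := fun {v} hv => by
    have e := hv.length_identity hl
    have hsum : (∑ i, Ratio.total (S := S i) (g i) (v i)) ≠ ⊤ :=
      WithTop.sum_ne_top.mpr fun i _ => hv.total_ne_top hl hsupp i
    have hfin : Module.length R (M ⧸ spanAll R v) +
        Module.length R ((∀ i, M ⧸ LinearMap.ker (g i)) ⧸ LinearMap.range (parts g)) ≠ ⊤ := by
      rw [e]; exact WithTop.add_ne_top.mpr ⟨hT, hsum⟩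
    refine ⟨_, (WithTop.add_ne_top.mp hfin).2, rfl, ?_⟩
    have e2 := congrArg ENat.toNat e
    rw [ENat.toNat_add (WithTop.add_ne_top.mp hfin).1 (WithTop.add_ne_top.mp hfin).2, ENat.toNat_add hT hsum,
      ENat.toNat_sum fun i _ => hv.total_ne_top hl hsupp i] at e2
    exact_mod_cast e2
  obtain ⟨C, -, hC, e⟩ := main hu
  obtain ⟨C', -, hC', e'⟩ := main hu'
  have hk := Finset.sum_congr rfl fun i (_ : i ∈ Finset.univ) => key i
  rw [Finset.sum_sub_distrib, Finset.sum_sub_distrib] at hk
  rw [hC] at e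
  rw [hC'] at e'
  omega

include hl in
/-- Changing the tuples changes the value by the orders of the ratios. -/
theorem IsVal.change (hord : OrdData q o) {E' : ∀ i, Fin (l i) → V i} {γ : ∀ i, ResidueField (S i)}
    (hγ : ∀ i, γ i ≠ 0) (hEE' : ∀ i, clsT (S i) (E i) = γ i • clsT (S i) (E' i)) {n : ℤ}
    (h : IsVal q o g E n) : IsVal q o g E' (n - ∑ i, o i (γ i)) := by
  obtain ⟨u, c, hu, hc, rfl⟩ := h
  refine ⟨u, fun i => c i * γ i, hu, fun i => by rw [hc i, hEE' i, smul_smul], ?_⟩
  have hne : ∀ i, c i ≠ 0 := fun i h0 =>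
    clsT_ne_zero (hl i) (hu.adm i) (hu.strict i) (by rw [hc i, h0, zero_smul])
  rw [Finset.sum_congr rfl fun i _ => hord.mul i (c i) (γ i) (hne i) (hγ i), Finset.sum_add_distrib]
  ring

/-- A module vanishing at the primes has its length as value. -/
theorem isVal_of_length_zero (hord : OrdData q o) (h0 : ∀ i, l i = 0) :
    IsVal q o g E ((Module.length R M).toNat : ℤ) := by
  haveI : ∀ i, IsEmpty (Fin (l i)) := fun i => by rw [h0 i]; infer_instance
  refine ⟨fun i j => isEmptyElim j, fun _ => 1,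
    ⟨fun i j => isEmptyElim j, fun i j => isEmptyElim j, fun i j => isEmptyElim j, fun i i' _ j => isEmptyElim j⟩,
    fun i => by rw [one_smul]; exact congrArg _ (Subsingleton.elim _ _), ?_⟩
  have hbot : spanAll R (fun i (j : Fin (l i)) => (isEmptyElim j : M)) = ⊥ := by
    refine eq_bot_iff.mpr (iSup_le fun i => ?_)
    rw [Set.range_eq_empty, Submodule.span_empty]
  rw [Finset.sum_congr rfl fun i _ => hord.one i, Finset.sum_const_zero, sub_zero, hbot,
    LinearEquiv.length_eq (Submodule.quotEquivOfEqBot (⊥ : Submodule R M) rfl)]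

end

end Groth.Agent.H9ChowK
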